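import Cfsg.Agent.Lib.ZJFailure.Data
import Cfsg.Agent.Lib.StrongFusion.Family
import Cfsg.Agent.Lib.StrongFusion.Sections
import Cfsg.Agent.Lib.ZJ.Center

/-!
Fusion realised by a normalizer, and lifting along quotient maps.
-/

set_option autoImplicit false
set_option linter.unusedSectionVars false
set_option linter.style.haveILetI false

namespace CfsgLib.ZJFailure

open Cfsg CfsgLib.StrongFusion
open scoped Pointwise

universe u

variable {G : Type u} [Group G]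

/-- Some element of `N(B)` acts on `A` like `g`. -/
def Agree (B A : Subgroup G) (g : G) : Prop :=
  ∃ x ∈ Subgroup.normalizer (B : Set G), ∀ a ∈ A, x * a * x⁻¹ = g * a * g⁻¹

theorem Agree.of_mem {B A : Subgroup G} {g : G} (h : g ∈ Subgroup.normalizer (B : Set G)) : Agree B A g :=
  ⟨g, h, fun _ _ => rfl⟩

theorem Agree.mono {B A A' : Subgroup G} {g : G} (h : Agree B A g) (hA : A' ≤ A) : Agree B A' g :=
  let ⟨x, hx, he⟩ := h
  ⟨x, hx, fun a ha => he a (hA ha)⟩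

theorem Agree.trans {B A : Subgroup G} {g h : G} (h1 : Agree B A g) (h2 : Agree B (cm g A) h) :
    Agree B A (h * g) := by
  obtain ⟨x, hx, hxe⟩ := h1
  obtain ⟨y, hy, hye⟩ := h2
  refine ⟨y * x, mul_mem hy hx, fun a ha => ?_⟩
  calc y * x * a * (y * x)⁻¹ = y * (x * a * x⁻¹) * y⁻¹ := by group
    _ = y * (g * a * g⁻¹) * y⁻¹ := by rw [hxe a ha]
    _ = h * (g * a * g⁻¹) * h⁻¹ := hye _ (conj_mem_cm ha)
    _ = h * g * a * (h * g)⁻¹ := by group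

/-- A step: `n` normalises `T` and agrees on it with an element of `N(B)`. -/
def Step (B : Subgroup G) (T : Subgroup G) (n : G) : Prop :=
  n ∈ Subgroup.normalizer (T : Set G) ∧ Agree B T n

theorem goodSteps_step (B : Subgroup G) : GoodSteps (Step B) := by
  refine ⟨fun T n h => h.1, fun T n h => ⟨inv_mem h.1, ?_⟩⟩
  obtain ⟨hn, x, hx, he⟩ := h
  refine ⟨x⁻¹, inv_mem hx, fun a ha => ?_⟩
  have hb : n⁻¹ * a * n ∈ T := by simpa using (Subgroup.mem_normalizer_iff.1 (inv_mem hn) a).1 ha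
  calc x⁻¹ * a * x⁻¹⁻¹ = x⁻¹ * (n * (n⁻¹ * a * n) * n⁻¹) * x := by group
    _ = x⁻¹ * (x * (n⁻¹ * a * n) * x⁻¹) * x := by rw [← he _ hb]
    _ = n⁻¹ * a * n⁻¹⁻¹ := by group

theorem agree_of_fchain {B A : Subgroup G} {g : G} (h : FChain (Step B) A g) : Agree B A g := by
  induction h with
  | one => exact .of_mem (one_mem _)
  | @step A T n g hs hA _ ih => exact (hs.2.mono hA).trans ih

theorem agree_of_conj {B A T' : Subgroup G} {y n : G} (hy : Agree B T' y) (hA : A ≤ T') (hnA : cm n A ≤ T')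
    (h : Agree B (cm y A) (y * n * y⁻¹)) : Agree B A n := by
  obtain ⟨w, hw, hwe⟩ := hy
  obtain ⟨x, hx, hxe⟩ := h
  refine ⟨w⁻¹ * x * w, mul_mem (mul_mem (inv_mem hw) hx) hw, fun a ha => ?_⟩
  calc w⁻¹ * x * w * a * (w⁻¹ * x * w)⁻¹ = w⁻¹ * (x * (w * a * w⁻¹) * x⁻¹) * w := by group
    _ = w⁻¹ * (x * (y * a * y⁻¹) * x⁻¹) * w := by rw [hwe a (hA ha)]
    _ = w⁻¹ * (y * n * y⁻¹ * (y * a * y⁻¹) * (y * n * y⁻¹)⁻¹) * w := by rw [hxe _ (conj_mem_cm ha)]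
    _ = w⁻¹ * (y * (n * a * n⁻¹) * y⁻¹) * w := by group
    _ = w⁻¹ * (w * (n * a * n⁻¹) * w⁻¹) * w := by rw [hwe _ (hnA (conj_mem_cm ha))]
    _ = n * a * n⁻¹ := by group

variable [Finite G] {p : ℕ} [hp : Fact p.Prime]

/-- An element normalising a `p`-subgroup modulo a normal `p'`-subgroup can be corrected to normalise it. -/
theorem exists_lift_normalizer (O : Subgroup G) [O.Normal] (hO : (Nat.card O).Coprime p) {Z : Subgroup G}
    (hZ : IsPGroup p Z) {l : G}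
    (hl : QuotientGroup.mk' O l ∈ Subgroup.normalizer (Z.map (QuotientGroup.mk' O) : Set (G ⧸ O))) :
    ∃ o ∈ O, o * l ∈ Subgroup.normalizer (Z : Set G) := by
  have hsub : cm l Z ≤ Z ⊔ O := by
    rintro _ ⟨z, hz, rfl⟩
    obtain ⟨w, hw, e⟩ := (Subgroup.mem_normalizer_iff.1 hl _).1 (Subgroup.mem_map_of_mem _ hz)
    show l * z * l⁻¹ ∈ Z ⊔ O
    rw [show l * z * l⁻¹ = w * (w⁻¹ * (l * z * l⁻¹)) by group]
    refine mul_mem (Subgroup.mem_sup_left hw) (Subgroup.mem_sup_right (QuotientGroup.eq.1 ?_))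
    show QuotientGroup.mk' O w = QuotientGroup.mk' O (l * z * l⁻¹)
    rw [e, map_mul, map_mul, map_inv]
  have hidx : ¬ p ∣ Z.relIndex (Z ⊔ O) := by
    intro h
    refine hp.out.ne_one (Nat.eq_one_of_dvd_coprimes hO ?_ dvd_rfl)
    have h1 := ZJ.card_mul_eq_of_le_normalizer (H := O) (K := Z) (Subgroup.le_normalizer_of_normal ..)
    rw [sup_comm O Z, ← Products.card_mul_relIndex_of_le (le_sup_left : Z ≤ Z ⊔ O), mul_comm (Nat.card O),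
      mul_assoc] at h1
    exact (h.trans (Dvd.intro _ rfl)).trans (Nat.eq_of_mul_eq_mul_left Nat.card_pos h1).symm.dvd
  obtain ⟨m, hm, hmZ⟩ := exists_conj_le (Q := Z) le_sup_left hZ hidx hsub (hZ.map _)
  obtain ⟨z, hz, o, ho, rfl⟩ := Subgroup.mem_sup_of_normal_right.1 hm
  refine ⟨o, ho, ?_⟩
  rw [cm_cm] at hmZ
  have h1 : z * o * l ∈ Subgroup.normalizer (Z : Set G) :=
    Local.mem_normalizer_of_map_conj_eq (Subgroup.eq_of_le_of_card_ge hmZ (card_cm _ Z).ge)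
  rw [show o * l = z⁻¹ * (z * o * l) by group]
  exact mul_mem (inv_mem (Subgroup.le_normalizer hz)) h1

/-- `Data` lifts along a homomorphism. -/
theorem data_of_lift (hp2 : p ≠ 2) {H : Type u} [Group H] [Finite H] (π : G →* H) {S B P : Subgroup G}
    (hS : IsPGroup p S) (hPS : P ≤ S) {n₀ : G} (hn₀ : n₀ ∈ Subgroup.normalizer (P : Set G))
    (hag : Agree B P n₀) (hcop : (orderOf (π n₀)).Coprime p)
    (hψ : ∃ ψ : ↥(P.map π ⊔ Subgroup.zpowers (π n₀)) →* ↥(Cfsg.fOver (ZMod p)), Function.Surjective ψ)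
    {A₁ A₂ : Subgroup H} {k : ℕ} (hlt : A₂ < A₁) (hA : A₁ ≤ (B ⊓ P).map π) (hk : orderOf (k : ZMod p) = p - 1)
    (h2 : ∀ a ∈ A₂, π n₀ * a * (π n₀)⁻¹ ∈ A₂)
    (hsc : ∀ a ∈ A₁, a ^ p ∈ A₂ ∧ π n₀ * a * (π n₀)⁻¹ * (a ^ k)⁻¹ ∈ A₂) : Data p S B := by
  obtain ⟨x, hx, hxe⟩ := hag
  obtain ⟨j, hj⟩ := exists_pow_coprime (p := p) n₀
  obtain ⟨ψ, hψ⟩ := hψ
  have hn : n₀ ^ p ^ j ∈ Subgroup.normalizer (P : Set G) := Subgroup.pow_mem _ hn₀ _
  have hag' : ∀ a ∈ P, x ^ p ^ j * a * (x ^ p ^ j)⁻¹ = n₀ ^ p ^ j * a * (n₀ ^ p ^ j)⁻¹ := agree_pow hn₀ hxe _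
  have hxB : x ^ p ^ j ∈ Subgroup.normalizer (B : Set G) := Subgroup.pow_mem _ hx _
  have hinv : ∀ a ∈ B ⊓ P, n₀ ^ p ^ j * a * (n₀ ^ p ^ j)⁻¹ ∈ B ⊓ P := fun a ha =>
    ⟨hag' a ha.2 ▸ (Subgroup.mem_normalizer_iff.1 hxB a).1 ha.1, (Subgroup.mem_normalizer_iff.1 hn a).1 ha.2⟩
  have e : (P ⊔ Subgroup.zpowers (n₀ ^ p ^ j)).map π = P.map π ⊔ Subgroup.zpowers (π n₀) := by
    rw [Subgroup.map_sup, MonoidHom.map_zpowers, map_pow, zpowers_pow_eq hcop]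
  have h2n : π n₀ ∈ Subgroup.normalizer (A₂ : Set H) := mem_normalizer_of_forall h2
  refine data_of_agree hp2 hS (n := n₀ ^ p ^ j) (k := k ^ p ^ j) (A₁ := (B ⊓ P) ⊓ A₁.comap π)
    (A₂ := (B ⊓ P) ⊓ A₂.comap π) hPS hn hj hxB hag'
    ⟨ψ.comp ((MulEquiv.subgroupCongr e).toMonoidHom.comp (π.subgroupMap _)),
      hψ.comp ((MulEquiv.subgroupCongr e).surjective.comp (π.subgroupMap_surjective _))⟩
    ?_ inf_le_left (by rw [natCast_pow_prime_pow, hk]) (fun a ha => ⟨hinv a ha.1, ?_⟩)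
    (fun a ha => ⟨⟨(B ⊓ P).pow_mem ha.1 p, ?_⟩, ⟨(B ⊓ P).mul_mem (hinv a ha.1) ((B ⊓ P).inv_mem ((B ⊓ P).pow_mem ha.1 _)), ?_⟩⟩)
  · refine lt_of_le_of_ne (inf_le_inf_left _ (Subgroup.comap_mono hlt.le)) fun h => hlt.not_ge fun a ha => ?_
    obtain ⟨b, hb, rfl⟩ := hA ha
    exact ((h.ge ⟨hb, ha⟩ : b ∈ (B ⊓ P) ⊓ A₂.comap π)).2
  · show π (n₀ ^ p ^ j * a * (n₀ ^ p ^ j)⁻¹) ∈ A₂
    rw [map_mul, map_mul, map_inv, map_pow]
    exact (Subgroup.mem_normalizer_iff.1 (Subgroup.pow_mem _ h2n _) _).1 ha.2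
  · show π (a ^ p) ∈ A₂
    rw [map_pow]
    exact (hsc _ ha.2).1
  · show π (n₀ ^ p ^ j * a * (n₀ ^ p ^ j)⁻¹ * (a ^ k ^ p ^ j)⁻¹) ∈ A₂
    simp only [map_mul, map_inv, map_pow]
    exact pow_scalar h2 (fun a ha => (hsc a ha).2) _ _ ha.2

end CfsgLib.ZJFailure
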