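import Cfsg.Agent.Lib.ZJFailure.Core
import Cfsg.Agent.Lib.ZJFailure.Fusion
import Cfsg.Agent.Lib.StrongFusion.PStable

/-!
Either the normalizer of a piece of `Z(J(S))` controls strong fusion, or the obstruction occurs.
-/

set_option autoImplicit false
set_option linter.unusedSectionVars false
set_option linter.style.haveILetI false
set_option maxHeartbeats 1000000

namespace CfsgLib.ZJFailure

open Cfsg CfsgLib.StrongFusion
open scoped Pointwise

universe u

section Tools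

variable {G : Type u} [Group G] [Finite G] {p : ℕ} [hp : Fact p.Prime]

theorem mem_normalizer_sup {A B : Subgroup G} {g : G} (hA : g ∈ Subgroup.normalizer (A : Set G))
    (hB : g ∈ Subgroup.normalizer (B : Set G)) : g ∈ Subgroup.normalizer ((A ⊔ B : Subgroup G) : Set G) := by
  refine mem_normalizer_of_forall fun x hx => ?_
  have h : A ⊔ B ≤ (A ⊔ B).comap (MulAut.conj g).toMonoidHom :=
    sup_le (fun a ha => Subgroup.mem_sup_left ((Subgroup.mem_normalizer_iff.1 hA a).1 ha))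
      (fun b hb => Subgroup.mem_sup_right ((Subgroup.mem_normalizer_iff.1 hB b).1 hb))
  exact h hx

theorem mem_normalizer_inf {A B : Subgroup G} {g : G} (hA : g ∈ Subgroup.normalizer (A : Set G))
    (hB : g ∈ Subgroup.normalizer (B : Set G)) : g ∈ Subgroup.normalizer ((A ⊓ B : Subgroup G) : Set G) :=
  mem_normalizer_of_forall fun x hx =>
    ⟨(Subgroup.mem_normalizer_iff.1 hA x).1 hx.1, (Subgroup.mem_normalizer_iff.1 hB x).1 hx.2⟩

theorem le_normalizer_zj (e : ℕ) (T : Subgroup G) : T ≤ Subgroup.normalizer (ZJ.zj e T : Set G) :=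
  Subgroup.le_normalizer.trans (ZJ.normalizer_le_normalizer_zj e T)

theorem mem_zj_of_commute {T : Subgroup G} {z : G} (hz : z ∈ T) (h : ∀ t ∈ T, t * z = z * t) : z ∈ ZJ.zj 0 T := by
  obtain ⟨A, hA⟩ := ZJ.goodMax_nonempty 0 T
  refine ⟨ZJ.le_thompsonJ hA ?_, fun y hy => h y (ZJ.thompsonJ_le 0 T hy)⟩
  set E := Subgroup.closure (insert z (A : Set G)) with hE
  have hEg : ZJ.IsGood 0 E := by
    refine ZJ.isGood_closure ?_ (fun y _ => pow_zero y)
    rintro y (rfl | hy) w (rfl | hw)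
    · rfl
    · exact (h w (hA.1 hw)).symm
    · exact h y (hA.1 hy)
    · exact hA.2.1.1 y hy w hw
  have hAE : A ≤ E := fun y hy => Subgroup.subset_closure (Or.inr hy)
  have hET : E ≤ T := (Subgroup.closure_le T).mpr (Set.insert_subset hz hA.1)
  rw [Subgroup.eq_of_le_of_card_ge hAE (hA.2.2 E hET hEg)]
  exact Subgroup.subset_closure (Set.mem_insert _ _)

theorem exists_central {P B : Subgroup G} (hP : IsPGroup p P) (hBP : B ≤ P)
    (hPB : P ≤ Subgroup.normalizer (B : Set G)) (hB : B ≠ ⊥) :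
    ∃ z ∈ B, z ≠ 1 ∧ ∀ t ∈ P, t * z = z * t := by
  haveI : Group.IsNilpotent P := hP.isNilpotent
  haveI : (B.subgroupOf P).Normal := (Subgroup.normal_subgroupOf_iff hBP).2 fun x y hx hy =>
    (Subgroup.mem_normalizer_iff.1 (hPB hy) x).1 hx
  obtain ⟨z, hz, hz1⟩ := (Subgroup.bot_or_exists_ne_one _).resolve_left
    (CfsgLib.inf_center_ne_bot_of_nilpotent (N := B.subgroupOf P)
      (by rw [Ne, Subgroup.subgroupOf_eq_bot, disjoint_iff, inf_eq_left.2 hBP]; exact hB))
  exact ⟨z, (Subgroup.mem_inf.1 hz).1, fun h => hz1 (Subtype.ext h),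
    fun t ht => congrArg Subtype.val (Subgroup.mem_center_iff.1 (Subgroup.mem_inf.1 hz).2 (⟨t, ht⟩ : P))⟩

end Tools

variable {p : ℕ} [hp : Fact p.Prime]

/-- **Control or obstruction.** -/
theorem ctl_or_data (hp2 : p ≠ 2) {G : Type u} [Group G] [Finite G] (S : Sylow p G) (B : Subgroup G)
    (hBZ : B ≤ ZJ.zj 0 (S : Subgroup G)) (hSB : (S : Subgroup G) ≤ Subgroup.normalizer (B : Set G))
    (hNB : Subgroup.normalizer (ZJ.zj 0 (S : Subgroup G) : Set G) ≤ Subgroup.normalizer (B : Set G)) :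
    (∀ A ≤ (S : Subgroup G), ∀ g : G, cm g A ≤ (S : Subgroup G) → Agree B A g) ∨ Data p (S : Subgroup G) B := by
  induction hm : Nat.card G using Nat.strong_induction_on generalizing G with
  | h m ih =>
  subst hm
  set P₀ : Subgroup G := (S : Subgroup G) with hP₀
  by_cases hD : Data p P₀ B
  · exact Or.inr hD
  refine Or.inl ?_
  have hBS : B ≤ P₀ := hBZ.trans (ZJ.zj_le 0 _)
  by_cases hBn : B.Normal
  · exact fun A _ g _ => .of_mem (by rw [Subgroup.normalizer_eq_top_iff.2 hBn]; trivial)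
  -- inside a subgroup
  have inSub : ∀ (M T B' : Subgroup G), M ≠ ⊤ → T ≤ M → IsPGroup p T → ¬ p ∣ T.relIndex M → B' ≤ ZJ.zj 0 T →
      T ≤ Subgroup.normalizer (B' : Set G) →
      (∀ n ∈ M, n ∈ Subgroup.normalizer (ZJ.zj 0 T : Set G) → n ∈ Subgroup.normalizer (B' : Set G)) →
      (∀ A ≤ T, ∀ n ∈ M, cm n A ≤ T → Agree B' A n) ∨ Data p T B' := by
    intro M T B' hM hTM hT hidx hB'Z hTB' hNB'
    set Ts : Sylow p M := (hT.of_equiv (Subgroup.subgroupOfEquivOfLe hTM).symm).toSylow hidx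
    have hcard : Nat.card M < Nat.card G :=
      lt_of_le_of_ne (Nat.le_of_dvd Nat.card_pos M.card_subgroup_dvd_card) fun h => hM (Subgroup.eq_top_of_card_eq M h)
    have eT : (T.subgroupOf M).map M.subtype = T := Subgroup.map_subgroupOf_eq_of_le hTM
    have eB : (B'.subgroupOf M).map M.subtype = B' :=
      Subgroup.map_subgroupOf_eq_of_le ((hB'Z.trans (ZJ.zj_le 0 T)).trans hTM)
    have ezj : (ZJ.zj 0 (Ts : Subgroup M)).map M.subtype = ZJ.zj 0 T := by
      rw [← ZJ.zj_map 0 M.subtype_injective, show (Ts : Subgroup M).map M.subtype = T from eT]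
    have hback : ∀ {X : Subgroup G} {m : M}, (m : G) ∈ Subgroup.normalizer (X : Set G) →
        m ∈ Subgroup.normalizer (X.subgroupOf M : Set M) := fun {X m} hm =>
      mem_normalizer_of_forall fun x hx => (Subgroup.mem_normalizer_iff.1 hm (x : G)).1 hx
    rcases ih _ hcard Ts (B'.subgroupOf M) (fun b hb => by
        obtain ⟨c, hc, e⟩ := ezj.ge (hB'Z (Subgroup.mem_subgroupOf.1 hb))
        rwa [← Subtype.ext e])
      (fun t ht => hback (hTB' ht))
      (fun n hn => hback (hNB' n n.2 (ezj ▸ Subgroup.le_normalizer_map M.subtype ⟨n, hn, rfl⟩))) rfl with h | h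
    · refine Or.inl fun A hA n hn hnA => ?_
      obtain ⟨x, hx, hxe⟩ := h (A.subgroupOf M) (fun a ha => hA ha) ⟨n, hn⟩ (by
        rintro _ ⟨a, ha, rfl⟩
        exact hnA ⟨(a : G), ha, rfl⟩)
      refine ⟨x, eB ▸ Subgroup.le_normalizer_map M.subtype ⟨x, hx, rfl⟩, fun a ha => ?_⟩
      exact congrArg Subtype.val (hxe ⟨a, hTM (hA ha)⟩ ha)
    · refine Or.inr ?_
      have h' := h.map M.subtype M.subtype_injective
      rwa [show (Ts : Subgroup M).map M.subtype = T from eT, eB] at h'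
  have hidx : ∀ {M : Subgroup G}, P₀ ≤ M → ¬ p ∣ P₀.relIndex M := fun {M} h hd =>
    S.not_dvd_index (hd.trans (Subgroup.relIndex_dvd_index_of_le h))
  have sub : ∀ M : Subgroup G, P₀ ≤ M → M ≠ ⊤ → ∀ A ≤ P₀, ∀ g ∈ M, cm g A ≤ P₀ → Agree B A g := fun M hPM hM =>
    (inSub M P₀ B hM hPM S.2 (hidx hPM) hBZ hSB (fun n _ hn => hNB hn)).resolve_right hD
  intro A hA g hg
  by_cases hO : pPrimeCore p G ≠ ⊥
  · -- factor out the `p'`-core
    set O := pPrimeCore p G with hOdef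
    set π := QuotientGroup.mk' O with hπ
    have hπs : Function.Surjective π := QuotientGroup.mk'_surjective O
    have hcop : (Nat.card O).Coprime p := card_pPrimeCore_coprime p
    have hker : ∀ o ∈ O, π o = 1 := fun o ho => (QuotientGroup.eq_one_iff o).2 ho
    have hinj : Set.InjOn π (P₀ : Set G) := fun x hx y hy e => by
      have h1 : x⁻¹ * y ∈ P₀ ⊓ O := ⟨P₀.mul_mem (P₀.inv_mem hx) hy, QuotientGroup.eq.1 e⟩
      rw [inf_pPrimeCore_eq_bot S.2, Subgroup.mem_bot, inv_mul_eq_one] at h1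
      exact h1
    set Sb : Sylow p (G ⧸ O) := S.mapSurjective hπs
    have eS : (Sb : Subgroup (G ⧸ O)) = P₀.map π := rfl
    have hlt : Nat.card (G ⧸ O) < Nat.card G := by
      rw [Subgroup.card_eq_card_quotient_mul_card_subgroup O]
      exact lt_mul_of_one_lt_right Nat.card_pos ((Subgroup.one_lt_card_iff_ne_bot O).2 hO)
    have ezj : ZJ.zj 0 (Sb : Subgroup (G ⧸ O)) = (ZJ.zj 0 P₀).map π := by
      rw [eS, ZJ.zj_map_of_injOn 0 π P₀ hinj]
    rcases ih _ hlt Sb (B.map π) (ezj ▸ Subgroup.map_mono hBZ)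
      (fun t ht => by
        obtain ⟨s, hs, rfl⟩ := ht
        exact Subgroup.le_normalizer_map π ⟨s, hSB hs, rfl⟩)
      (fun nb hnb => by
        obtain ⟨l, rfl⟩ := hπs nb
        rw [ezj] at hnb
        obtain ⟨o, ho, hol⟩ := exists_lift_normalizer O hcop (S.2.to_le (ZJ.zj_le 0 P₀)) hnb
        exact Subgroup.le_normalizer_map π ⟨o * l, hNB hol, by rw [map_mul, hker o ho, one_mul]⟩) rfl with h | h
    · obtain ⟨nb, hnb, hne⟩ := h (A.map π) (Subgroup.map_mono hA) (π g)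
        (by rw [← map_cm]; exact Subgroup.map_mono hg)
      obtain ⟨l, rfl⟩ := hπs nb
      obtain ⟨o, ho, hol⟩ := exists_lift_normalizer O hcop (S.2.to_le hBS) hnb
      have hπo : π (o * l) = π l := by rw [map_mul, hker o ho, one_mul]
      have hR : cm (o * l) A ≤ (P₀ ⊔ O) ⊓ Subgroup.normalizer (B : Set G) := by
        rintro _ ⟨a, ha, rfl⟩
        refine Subgroup.mem_inf.2 ⟨?_, mul_mem (mul_mem hol (hSB (hA ha))) (inv_mem hol)⟩
        show o * l * a * (o * l)⁻¹ ∈ P₀ ⊔ O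
        rw [show o * l * a * (o * l)⁻¹ = g * a * g⁻¹ * ((g * a * g⁻¹)⁻¹ * (o * l * a * (o * l)⁻¹)) by group]
        refine mul_mem (Subgroup.mem_sup_left (hg (conj_mem_cm ha))) (Subgroup.mem_sup_right (QuotientGroup.eq.1 ?_))
        show π (g * a * g⁻¹) = π (o * l * a * (o * l)⁻¹)
        have h1 := hne _ (Subgroup.mem_map_of_mem π ha)
        simp only [map_mul, map_inv, hπo] at h1 ⊢
        simp [h1, hker o ho]
      obtain ⟨w, ⟨hw, hwN⟩, hwB⟩ := exists_conj_le (Q := P₀) (le_inf le_sup_left hSB) S.2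
        (hidx (le_inf le_sup_left hSB)) hR ((S.2.to_le hA).map _)
      obtain ⟨t, ht, d, hd, rfl⟩ := Subgroup.mem_sup_of_normal_right.1 hw
      have hdN : d ∈ Subgroup.normalizer (B : Set G) := by
        rw [show d = t⁻¹ * (t * d) by group]
        exact mul_mem (inv_mem (hSB ht)) hwN
      refine ⟨d * (o * l), mul_mem hdN hol, fun a ha => hinj ?_ (hg (conj_mem_cm ha)) ?_⟩
      · have h3 := hwB (conj_mem_cm (g := t * d) (conj_mem_cm (g := o * l) ha))
        show d * (o * l) * a * (d * (o * l))⁻¹ ∈ P₀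
        rw [show d * (o * l) * a * (d * (o * l))⁻¹ = t⁻¹ * (t * d * (o * l * a * (o * l)⁻¹) * (t * d)⁻¹) * t by group]
        exact mul_mem (mul_mem (inv_mem ht) h3) ht
      · have h1 := hne _ (Subgroup.mem_map_of_mem π ha)
        simp only [map_mul, map_inv, hker d hd, hker o ho, one_mul]
        exact h1
    · -- the obstruction lifts
      exfalso
      obtain ⟨Pb, nb, hPS, hnP, hnB, hnc, hψ, A₁, A₂, k, hA12, hA₁, hk, h2, hsc⟩ := h
      obtain ⟨l, rfl⟩ := hπs nb
      set P := P₀ ⊓ Pb.comap π with hP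
      have ePm : P.map π = Pb := le_antisymm (by rintro _ ⟨x, hx, rfl⟩; exact hx.2) fun y hy => by
        obtain ⟨x, hx, rfl⟩ := hPS hy
        exact ⟨x, ⟨hx, hy⟩, rfl⟩
      obtain ⟨o, ho, hol⟩ := exists_lift_normalizer O hcop
        (S.2.to_le (sup_le inf_le_left hBS : P ⊔ B ≤ P₀)) (l := l) (by
          rw [Subgroup.map_sup, ePm]; exact mem_normalizer_sup hnP hnB)
      have hπo : π (o * l) = π l := by rw [map_mul, hker o ho, one_mul]
      have hW : ∀ x ∈ P ⊔ B, o * l * x * (o * l)⁻¹ ∈ P₀ ∧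
          π (o * l * x * (o * l)⁻¹) = π l * π x * (π l)⁻¹ := fun x hx =>
        ⟨sup_le (inf_le_left : P ≤ P₀) hBS ((Subgroup.mem_normalizer_iff.1 hol x).1 hx), by
          rw [map_mul, map_mul, map_inv, hπo]⟩
      have hnBB : o * l ∈ Subgroup.normalizer (B : Set G) := mem_normalizer_of_forall fun b hb => by
        obtain ⟨h1, h1'⟩ := hW b (Subgroup.mem_sup_right hb)
        obtain ⟨c, hc, e⟩ := (Subgroup.mem_normalizer_iff.1 hnB _).1 (Subgroup.mem_map_of_mem π hb)
        rwa [← hinj (hBS hc) h1 (e.trans h1'.symm)]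
      have hnPP : o * l ∈ Subgroup.normalizer (P : Set G) := mem_normalizer_of_forall fun x hx => by
        obtain ⟨h1, h1'⟩ := hW x (Subgroup.mem_sup_left hx)
        refine ⟨h1, ?_⟩
        show π (o * l * x * (o * l)⁻¹) ∈ Pb
        rw [h1']
        exact (Subgroup.mem_normalizer_iff.1 hnP _).1 hx.2
      refine hD (data_of_lift hp2 π S.2 (inf_le_left : P ≤ P₀) hnPP (.of_mem hnBB) (by rwa [hπo])
        (by rw [hπo, ePm]; exact hψ) hA12 (fun a ha => ?_) hk (by rwa [hπo]) (by rwa [hπo]))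
      obtain ⟨⟨b, hb, rfl⟩, haP⟩ := Subgroup.mem_inf.1 (hA₁ ha)
      exact ⟨b, ⟨hb, hBS hb, haP⟩, rfl⟩
  push Not at hO
  set Q := pCore p G with hQ
  have hQP : Q ≤ P₀ := pCore_le_sylow S
  by_cases hcon : Subgroup.centralizer (Q : Set G) ≤ Q
  · exact absurd (data_of_constrained hp2 S hBZ hSB hNB hBn hcon sub) hD
  by_cases hQ0 : Q = ⊥
  · -- all local subgroups are proper
    have hB0 : B ≠ ⊥ := fun h => hBn (h ▸ inferInstance)
    obtain ⟨z, hzB, hz1, hzc⟩ := exists_central S.2 hBS hSB hB0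
    refine agree_of_fchain (fchain_of_good S (goodSteps_step B) (Full p P₀) (fun U hU => exists_full S hU)
      (fun _ _ h => h) (fun V hV hVf big w hw => .single ⟨hw, ?_⟩ le_rfl) hA hg)
    by_cases hV0 : V = ⊥
    · exact ⟨1, one_mem _, fun a ha => by rw [hV0, Subgroup.mem_bot] at ha; subst ha; simp⟩
    -- maps in the normalizer of a fully normalized subgroup
    suffices R : ∀ k, ∀ U ≤ P₀, U ≠ ⊥ → Full p P₀ U →
        Nat.card V ≤ Nat.card ↥(P₀ ⊓ Subgroup.normalizer (U : Set G)) →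
        Nat.card G - Nat.card ↥(P₀ ⊓ Subgroup.normalizer (U : Set G)) = k →
        ∀ A ≤ P₀ ⊓ Subgroup.normalizer (U : Set G), ∀ n ∈ Subgroup.normalizer (U : Set G),
          cm n A ≤ P₀ ⊓ Subgroup.normalizer (U : Set G) → Agree B A n from
      R _ V hV hV0 hVf (Subgroup.card_le_of_le (le_inf hV Subgroup.le_normalizer)) rfl V
        (le_inf hV Subgroup.le_normalizer) w hw
        ((Local.map_conj_eq_of_mem_normalizer hw).le.trans (le_inf hV Subgroup.le_normalizer))
    intro k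
    induction k using Nat.strong_induction_on with
    | h k ihk =>
    intro U hU hU0 hUf hVc hk A hA n hn hnA
    set T := P₀ ⊓ Subgroup.normalizer (U : Set G) with hT
    have hTP : T ≤ P₀ := inf_le_left
    have hUtop : Subgroup.normalizer (U : Set G) ≠ ⊤ := fun h => by
      haveI : U.Normal := Subgroup.normalizer_eq_top_iff.1 h
      exact hU0 (le_bot_iff.1 (hQ0 ▸ le_pCore (S.2.to_le hU)))
    by_cases hTS : T = P₀
    · exact sub _ (hTS.ge.trans inf_le_right) hUtop A (hA.trans hTP) n hn (hnA.trans hTP)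
    have transport : ∀ U' ≤ P₀, U' ≠ ⊥ → Nat.card T < Nat.card ↥(P₀ ⊓ Subgroup.normalizer (U' : Set G)) →
        ∀ A ≤ P₀ ⊓ Subgroup.normalizer (U' : Set G), ∀ n ∈ Subgroup.normalizer (U' : Set G),
          cm n A ≤ P₀ ⊓ Subgroup.normalizer (U' : Set G) → Agree B A n := by
      intro U' hU' hU'0 hlt A hA n hn hnA
      obtain ⟨y, hy, hyf⟩ := exists_full S hU'
      have hy' := cm_inf_normalizer_le y hy
      have hag : Agree B (P₀ ⊓ Subgroup.normalizer (U' : Set G)) y :=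
        agree_of_fchain (big _ y (hVc.trans_lt hlt) inf_le_left hy)
      have hcy : Nat.card T < Nat.card ↥(P₀ ⊓ Subgroup.normalizer (cm y U' : Set G)) :=
        hlt.trans_le (card_cm y _ ▸ Subgroup.card_le_of_le hy')
      have e : cm (y * n * y⁻¹) (cm y A) = cm y (cm n A) := by
        rw [cm_cm, show y * n * y⁻¹ * y = y * n by group, ← cm_cm]
      refine agree_of_conj hag hA hnA (ihk _ ?_ (cm y U')
        ((cm_mono (le_inf hU' Subgroup.le_normalizer)).trans hy)
        (fun h => hU'0 ((Subgroup.map_eq_bot_iff_of_injective _ (MulAut.conj y).injective).1 h)) hyf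
        (hVc.trans hcy.le) rfl _ ((cm_mono hA).trans hy') _ ?_ (e.le.trans ((cm_mono hnA).trans hy')))
      · have := Nat.le_of_dvd Nat.card_pos
          (P₀ ⊓ Subgroup.normalizer (cm y U' : Set G)).card_subgroup_dvd_card
        omega
      · refine Local.mem_normalizer_of_map_conj_eq ?_
        show cm (y * n * y⁻¹) (cm y U') = cm y U'
        rw [cm_cm, show y * n * y⁻¹ * y = y * n by group, ← cm_cm]
        exact congrArg (cm y) (Local.map_conj_eq_of_mem_normalizer hn)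
    set Z := ZJ.zj 0 T with hZ
    set B' := B ⊓ Z with hB'
    have hZT : Z ≤ T := ZJ.zj_le 0 T
    have hup : ∀ X : Subgroup G, P₀ ⊓ Subgroup.normalizer (T : Set G) ≤ Subgroup.normalizer (X : Set G) →
        Nat.card T < Nat.card ↥(P₀ ⊓ Subgroup.normalizer (X : Set G)) ∧
          T ≤ P₀ ⊓ Subgroup.normalizer (X : Set G) := by
      intro X hX
      have h := (lt_inf_normalizer S hTP hTS).trans_le (le_inf inf_le_left hX)
      exact ⟨lt_of_le_of_ne (Subgroup.card_le_of_le h.le) fun e => h.ne (Subgroup.eq_of_le_of_card_ge h.le e.ge), h.le⟩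
    obtain ⟨hcZ, hTZ⟩ := hup Z (inf_le_right.trans (ZJ.normalizer_le_normalizer_zj 0 T))
    obtain ⟨hcB', hTB'⟩ := hup B' fun x hx =>
      mem_normalizer_inf (hSB hx.1) (ZJ.normalizer_le_normalizer_zj 0 T hx.2)
    have hT0 : T ≠ ⊥ := fun h => hU0 (le_bot_iff.1 (h ▸ le_inf hU Subgroup.le_normalizer))
    have hzT : z ∈ T := center_le_inf_normalizer hU ⟨hBS hzB, hzc⟩
    have hB'0 : B' ≠ ⊥ := fun h => hz1 (Subgroup.mem_bot.1
      (h ▸ (⟨hzB, mem_zj_of_commute hzT fun t ht => hzc t (hTP ht)⟩ : z ∈ B')))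
    have hZ0 : Z ≠ ⊥ := ZJ.zj_ne_bot (Or.inl rfl) (S.2.to_le hTP) hT0
    rcases inSub _ T B' hUtop inf_le_right (S.2.to_le hTP) hUf inf_le_right (hTB'.trans inf_le_right)
      (fun n _ hnZ => mem_normalizer_of_forall fun b hb => by
        obtain ⟨x, hx, hxe⟩ := transport Z (hZT.trans hTP) hZ0 hcZ Z (hZT.trans hTZ) n hnZ
          ((Local.map_conj_eq_of_mem_normalizer hnZ).le.trans (hZT.trans hTZ))
        refine ⟨?_, (Subgroup.mem_normalizer_iff.1 hnZ b).1 hb.2⟩
        rw [← hxe b hb.2]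
        exact (Subgroup.mem_normalizer_iff.1 hx b).1 hb.1) with h | h
    · obtain ⟨x, hx, hxe⟩ := h A hA n hn hnA
      obtain ⟨w, hw, hwe⟩ := transport B' (inf_le_left.trans hBS) hB'0 hcB' A (hA.trans hTB') x hx
        ((cm_congr hxe).le.trans (hnA.trans hTB'))
      exact ⟨w, hw, fun a ha => (hwe a ha).trans (hxe a ha)⟩
    · exact absurd (h.mono_agree hp2 S.2 hTP inf_le_left fun P hP n hnP hnB' =>
        transport B' (inf_le_left.trans hBS) hB'0 hcB' P (hP.trans hTB') n hnB'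
          ((Local.map_conj_eq_of_mem_normalizer hnP).le.trans (hP.trans hTB'))) hD
  -- `O_p ≠ 1` and not constrained
  set C := Subgroup.centralizer (Q : Set G) with hC
  haveI : C.Normal := Subgroup.normal_centralizer ..
  set M := Subgroup.normalizer ((P₀ ⊓ C : Subgroup G) : Set G) with hM
  have hPM : P₀ ≤ M := (le_inf Subgroup.le_normalizer (by rw [Subgroup.normalizer_eq_top]; exact le_top)).trans
    Subgroup.inf_normalizer_le_normalizer_inf
  have hMtop : M ≠ ⊤ := by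
    intro htop
    haveI : (P₀ ⊓ C).Normal := Subgroup.normalizer_eq_top_iff.1 htop
    have hle : P₀ ⊓ C ≤ Q := le_pCore (S.2.to_le inf_le_left)
    apply hcon
    set S0 := sylowInfNormal S C
    have hcent : Subgroup.normalizer ((S0 : Subgroup C) : Set C) ≤ Subgroup.centralizer ((S0 : Subgroup C) : Set C) :=
      fun c _ s hs => Subtype.ext (c.2 _ (hle ⟨hs, s.2⟩))
    obtain ⟨P', K, hK, hKP⟩ := hasNormalPComplement_of_normalizer_le_centralizer S0 hcent
    have hKc : (Nat.card K).Coprime p := by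
      refine ((Fact.out : p.Prime).coprime_iff_not_dvd.2 fun h => ?_).symm
      exact P'.not_dvd_index (hKP.index_eq_card ▸ h)
    haveI := hK
    have hKb : K = ⊥ := by
      have h1 : (pPrimeCore p C).map C.subtype ≤ ⊥ := hO ▸ map_pPrimeCore_le p C
      exact le_bot_iff.1 fun k hk => by
        have h2 := h1 ⟨k, le_pPrimeCore hKc hk, rfl⟩
        exact Subgroup.mem_bot.2 (Subtype.ext (Subgroup.mem_bot.1 h2))
    rw [hKb, Subgroup.isComplement'_bot_left] at hKP
    intro c hc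
    have h3 : (P' : Subgroup C) = (S0 : Subgroup C) := by
      refine (Subgroup.eq_of_le_of_card_ge ?_ (le_of_eq (S0.card_eq_multiplicity.trans P'.card_eq_multiplicity.symm).symm)).symm
      rw [hKP]; exact le_top
    have h4 : (⟨c, hc⟩ : C) ∈ (S0 : Subgroup C) := by rw [← h3, hKP]; trivial
    exact hle ⟨h4, hc⟩
  have hfrat : C ⊔ M = ⊤ := by
    have h := Sylow.normalizer_sup_eq_top (sylowInfNormal S C)
    rw [coe_sylowInfNormal, Subgroup.subgroupOf_map_subtype, sup_comm] at h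
    exact h
  by_cases hK : C ⊔ P₀ ≠ ⊤
  · obtain ⟨c, hc, m, hm, rfl⟩ := Subgroup.mem_sup_of_normal_left.1 (hfrat ▸ Subgroup.mem_top g)
    have hR : cm m A ≤ (P₀ ⊔ C) ⊓ M := by
      rintro _ ⟨v, hv, rfl⟩
      refine Subgroup.mem_inf.2 ⟨?_, mul_mem (mul_mem hm (hPM (hA hv))) (inv_mem hm)⟩
      show m * v * m⁻¹ ∈ P₀ ⊔ C
      rw [show m * v * m⁻¹ = c⁻¹ * (c * m * v * (c * m)⁻¹) * c by group]
      exact mul_mem (mul_mem (Subgroup.mem_sup_right (inv_mem hc)) (Subgroup.mem_sup_left (hg (conj_mem_cm hv))))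
        (Subgroup.mem_sup_right hc)
    obtain ⟨w, ⟨hw, hwM⟩, hwB⟩ := exists_conj_le (Q := P₀) (le_inf le_sup_left hPM) S.2
      (hidx (le_inf le_sup_left hPM)) hR ((S.2.to_le hA).map _)
    rw [cm_cm] at hwB
    have h1 := sub M hPM hMtop A hA (w * m) (mul_mem hwM hm) hwB
    have h2 := sub (C ⊔ P₀) le_sup_right hK (cm (w * m) A) hwB (c * w⁻¹)
      (mul_mem (Subgroup.mem_sup_left hc) (inv_mem (sup_comm P₀ C ▸ hw)))
      (by rw [cm_cm, show c * w⁻¹ * (w * m) = c * m by group]; exact hg)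
    have h3 := h1.trans h2
    rwa [show c * w⁻¹ * (w * m) = c * m by group] at h3
  push Not at hK
  -- `G = C(Q) S`: work modulo `Q`
  set π := QuotientGroup.mk' Q with hπ
  have hπs : Function.Surjective π := QuotientGroup.mk'_surjective Q
  set Sb : Sylow p (G ⧸ Q) := S.mapSurjective hπs
  have eS : (Sb : Subgroup (G ⧸ Q)) = P₀.map π := rfl
  have hlt : Nat.card (G ⧸ Q) < Nat.card G := by
    rw [Subgroup.card_eq_card_quotient_mul_card_subgroup Q]
    exact lt_mul_of_one_lt_right Nat.card_pos ((Subgroup.one_lt_card_iff_ne_bot Q).2 hQ0)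
  have hpre : ∀ {y : G}, π y ∈ P₀.map π → y ∈ P₀ := by
    rintro y ⟨t, ht, e⟩
    have h2 := mul_mem ht (hQP (QuotientGroup.eq.1 e))
    rwa [mul_inv_cancel_left] at h2
  have hsmall : ∀ X : Subgroup (G ⧸ Q), X ≤ P₀.map π → X.Normal → X = ⊥ := by
    intro X hX hXn
    have h1 : X.comap π ≤ Q := le_pCore (hN := hXn.comap π) (S.2.to_le fun y hy => hpre (hX hy))
    exact le_bot_iff.1 fun y hy => by
      obtain ⟨y, rfl⟩ := hπs y
      exact Subgroup.mem_bot.2 ((QuotientGroup.eq_one_iff y).2 (h1 hy))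
  set Zb := ZJ.zj 0 (Sb : Subgroup (G ⧸ Q)) with hZb
  have hZbS : Zb ≤ P₀.map π := ZJ.zj_le 0 _
  set B₁ := B.map π ⊓ Zb with hB₁
  set M₁ := (Subgroup.normalizer (Zb : Set (G ⧸ Q))).comap π with hM₁
  set M₂ := (Subgroup.normalizer (B₁ : Set (G ⧸ Q))).comap π with hM₂
  have hPM₁ : P₀ ≤ M₁ := fun t ht => le_normalizer_zj 0 _ (Subgroup.mem_map_of_mem π ht)
  have hPM₂ : P₀ ≤ M₂ := fun t ht =>
    mem_normalizer_inf (Subgroup.le_normalizer_map π ⟨t, hSB ht, rfl⟩) (hPM₁ ht)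
  have htop : ∀ X : Subgroup (G ⧸ Q), X ≤ P₀.map π → X ≠ ⊥ →
      (Subgroup.normalizer (X : Set (G ⧸ Q))).comap π ≠ ⊤ := fun X hX h0 h =>
    h0 (hsmall X hX (Subgroup.normalizer_eq_top_iff.1 (eq_top_iff.2 fun y _ => by
      obtain ⟨y, rfl⟩ := hπs y
      exact (h.ge (Subgroup.mem_top y) : y ∈ _))))
  have hM₁top : M₁ ≠ ⊤ := by
    refine htop Zb hZbS fun h => hMtop ?_
    have hSb : P₀.map π = ⊥ := by
      by_contra h'
      exact ZJ.zj_ne_bot (Or.inl rfl) (Sb.2) (eS ▸ h') h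
    have hPQ : P₀ ≤ Q := fun x hx => (QuotientGroup.eq_one_iff x).1
      (Subgroup.mem_bot.1 (hSb ▸ Subgroup.mem_map_of_mem π hx))
    have hPn : P₀.Normal := (le_antisymm hPQ hQP) ▸ (inferInstance : Q.Normal)
    exact Subgroup.normalizer_eq_top_iff.2 ⟨fun x hx y => ⟨hPn.conj_mem x hx.1 y,
      (inferInstance : C.Normal).conj_mem x hx.2 y⟩⟩
  have hM₂top : M₂ ≠ ⊤ := by
    refine htop B₁ (inf_le_right.trans hZbS) fun h => ?_
    by_cases hBQ : B ≤ Q
    · refine hBn (Subgroup.normalizer_eq_top_iff.1 (top_le_iff.1 (hK ▸ sup_le (fun c hc => ?_) hSB)))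
      exact Local.mem_normalizer_of_map_conj_eq (cm_eq_self fun b hb => by rw [← hc b (hBQ hb), mul_inv_cancel_right])
    obtain ⟨b, hb, hbQ⟩ := SetLike.not_le_iff_exists.1 hBQ
    obtain ⟨ζ, hζ, hζ1, hζc⟩ := exists_central (P := (Sb : Subgroup (G ⧸ Q))) Sb.2 (Subgroup.map_mono hBS)
      (by rintro _ ⟨t, ht, rfl⟩; exact Subgroup.le_normalizer_map π ⟨t, hSB ht, rfl⟩)
      fun e => hbQ ((QuotientGroup.eq_one_iff b).1 (Subgroup.mem_bot.1 (e ▸ Subgroup.mem_map_of_mem π hb)))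
    exact hζ1 (Subgroup.mem_bot.1 (h ▸ (⟨hζ, mem_zj_of_commute (Subgroup.map_mono hBS hζ) hζc⟩ : ζ ∈ B₁)))
  rcases ih _ hlt Sb B₁ inf_le_right
    (fun t ht => by obtain ⟨s, hs, rfl⟩ := ht; exact hPM₂ hs)
    (fun nb hnb => by
      obtain ⟨n, rfl⟩ := hπs nb
      set Z₁ := Zb.comap π with hZ₁
      have hZ₁P : Z₁ ≤ P₀ := fun y hy => hpre (hZbS hy)
      have hnZ₁ : n ∈ Subgroup.normalizer (Z₁ : Set G) := mem_normalizer_of_forall fun y hy => by
        show π (n * y * n⁻¹) ∈ Zb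
        rw [map_mul, map_mul, map_inv]
        exact (Subgroup.mem_normalizer_iff.1 hnb _).1 hy
      obtain ⟨x, hx, hxe⟩ := sub M₁ hPM₁ hM₁top Z₁ hZ₁P n hnb
        ((Local.map_conj_eq_of_mem_normalizer hnZ₁).le.trans hZ₁P)
      refine mem_normalizer_of_forall fun β hβ => ?_
      obtain ⟨⟨b, hb, rfl⟩, hbZ⟩ := Subgroup.mem_inf.1 hβ
      refine ⟨⟨x * b * x⁻¹, (Subgroup.mem_normalizer_iff.1 hx b).1 hb, ?_⟩,
        (Subgroup.mem_normalizer_iff.1 hnb _).1 hbZ⟩
      rw [hxe b hbZ, map_mul, map_mul, map_inv]) rfl with h | h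
  · -- lift the control
    refine agree_of_fchain (fchain_of_good S (goodSteps_step B) (Full p P₀) (fun U hU => exists_full S hU)
      (fun _ _ h => h) (fun V hV hVf big x hx => ?_) hA hg)
    have hnv : ∀ v ∈ V, x * v * x⁻¹ ∈ V := fun v hv => (Subgroup.mem_normalizer_iff.1 hx v).1 hv
    have hxV : cm x V = V := Local.map_conj_eq_of_mem_normalizer hx
    by_cases hQV : ¬ Q ≤ V
    · have hlt : V < V ⊔ Q := lt_of_le_of_ne le_sup_left fun h => hQV (h ▸ le_sup_right)
      refine (big (V ⊔ Q) x ?_ (sup_le hV hQP) ?_).mono le_sup_left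
      · exact lt_of_le_of_ne (Subgroup.card_le_of_le hlt.le) fun h => hlt.ne (Subgroup.eq_of_le_of_card_ge hlt.le h.ge)
      · rw [cm, Subgroup.map_sup]
        exact sup_le (hxV.le.trans hV) ((Local.map_conj_le fun q hq =>
          (inferInstance : Q.Normal).conj_mem q hq x).trans hQP)
    push Not at hQV
    refine .single ⟨hx, ?_⟩ le_rfl
    obtain ⟨nb, hnb, hne⟩ := h (V.map π) (Subgroup.map_mono hV) (π x)
      (by rw [← map_cm, hxV]; exact Subgroup.map_mono hV)
    obtain ⟨n, rfl⟩ := hπs nb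
    have hnV : cm n V = V := by
      refine Subgroup.eq_of_le_of_card_ge (Local.map_conj_le fun v hv => ?_) (card_cm n V).ge
      have h1 := hne _ (Subgroup.mem_map_of_mem π hv)
      rw [← map_inv, ← map_mul, ← map_mul, ← map_inv, ← map_mul, ← map_mul] at h1
      have h3 := V.mul_mem (hnv v hv) (hQV (QuotientGroup.eq.1 h1.symm))
      rwa [mul_inv_cancel_left] at h3
    obtain ⟨y, hy, hye⟩ := sub M₂ hPM₂ hM₂top V hV n hnb (hnV.le.trans hV)
    have hCp : ∀ z : G, (orderOf z).Coprime p → z ∈ C := by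
      intro z hz
      have hres : IsPGroup p (G ⧸ C) := by
        refine S.2.of_surjective ((QuotientGroup.mk' C).comp P₀.subtype) fun q => ?_
        obtain ⟨q, rfl⟩ := QuotientGroup.mk'_surjective C q
        obtain ⟨c, hc, t, ht, rfl⟩ := Subgroup.mem_sup_of_normal_left.1 (hK ▸ Subgroup.mem_top q)
        refine ⟨⟨t, ht⟩, ?_⟩
        show QuotientGroup.mk' C t = QuotientGroup.mk' C (c * t)
        rw [map_mul, show QuotientGroup.mk' C c = 1 from (QuotientGroup.eq_one_iff c).2 hc, one_mul]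
      obtain ⟨k, hk⟩ := hres (QuotientGroup.mk' C z)
      exact (QuotientGroup.eq_one_iff z).1 (orderOf_eq_one_iff.1 (Nat.eq_one_of_dvd_coprimes (hz.pow_right k)
        (orderOf_map_dvd (QuotientGroup.mk' C) z) (orderOf_dvd_of_pow_eq_one hk)))
    obtain ⟨s, hs, hse⟩ := exists_agree_stabilizer S hV hVf hQV hCp (e := n⁻¹ * x)
      (mul_mem (inv_mem (Local.mem_normalizer_of_map_conj_eq hnV)) hx) fun v hv => by
        refine (QuotientGroup.eq_one_iff _).1 ?_
        show π (n⁻¹ * x * v * (n⁻¹ * x)⁻¹ * v⁻¹) = 1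
        have h1 := hne _ (Subgroup.mem_map_of_mem π hv)
        calc π (n⁻¹ * x * v * (n⁻¹ * x)⁻¹ * v⁻¹)
            = (π n)⁻¹ * (π x * π v * (π x)⁻¹) * π n * (π v)⁻¹ := by simp [mul_assoc]
          _ = (π n)⁻¹ * (π n * π v * (π n)⁻¹) * π n * (π v)⁻¹ := by rw [h1]
          _ = 1 := by simp [mul_assoc]
    refine ⟨y * s, mul_mem hy (hSB hs.1), fun v hv => ?_⟩
    calc y * s * v * (y * s)⁻¹ = y * (s * v * s⁻¹) * y⁻¹ := by group
      _ = n * (s * v * s⁻¹) * n⁻¹ := hye _ ((Subgroup.mem_normalizer_iff.1 hs.2 v).1 hv)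
      _ = n * (n⁻¹ * x * v * (n⁻¹ * x)⁻¹) * n⁻¹ := by rw [hse v hv]
      _ = x * v * x⁻¹ := by group
  · -- the obstruction lifts
    exfalso
    obtain ⟨Pb, nb, hPS, hnP, hnB, hnc, hψ, A₁, A₂, k, hA12, hA₁, hk, h2, hsc⟩ := h
    obtain ⟨n, rfl⟩ := hπs nb
    set P := Pb.comap π with hP
    have hPP : P ≤ P₀ := fun y hy => hpre (hPS hy)
    have hnPP : n ∈ Subgroup.normalizer (P : Set G) := mem_normalizer_of_forall fun y hy => by
      show π (n * y * n⁻¹) ∈ Pb
      rw [map_mul, map_mul, map_inv]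
      exact (Subgroup.mem_normalizer_iff.1 hnP _).1 hy
    refine hD (data_of_lift hp2 π S.2 hPP hnPP
      (sub M₂ hPM₂ hM₂top P hPP n hnB ((Local.map_conj_eq_of_mem_normalizer hnPP).le.trans hPP)) hnc
      (by rw [hP, Subgroup.map_comap_eq_self_of_surjective hπs]; exact hψ) hA12 (fun a ha => ?_) hk h2 hsc)
    obtain ⟨⟨⟨b, hb, rfl⟩, -⟩, haP⟩ := Subgroup.mem_inf.1 (hA₁ ha)
    exact ⟨b, ⟨hb, haP⟩, rfl⟩

end CfsgLib.ZJFailure
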