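import Cfsg.Agent.Lib.ZJFailure.Data
import Mathlib.GroupTheory.SpecificGroups.Cyclic
import Mathlib.FieldTheory.Finite.Basic

/-!
An element of order `p` acted on as a scalar of order `p - 1`, from the obstruction.
-/

set_option autoImplicit false
set_option linter.unusedSectionVars false
set_option linter.style.haveILetI false

namespace CfsgLib.ZJFailure

open Cfsg

universe u

variable {G : Type u} [Group G] [Finite G] {p : ℕ} [hp : Fact p.Prime]

/-- An eigenvector for a `p'`-element on an abelian `p`-group, above one on a section. -/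
theorem exists_eigen {B : Subgroup G} (hB : IsPGroup p B) (hBc : ∀ x ∈ B, ∀ y ∈ B, x * y = y * x) {n : G}
    (hn : n ∈ Subgroup.normalizer (B : Set G)) (hnc : (orderOf n).Coprime p) {A₁ A₂ : Subgroup G} {k : ℕ}
    (hlt : A₂ < A₁) (hA : A₁ ≤ B) (hk : orderOf (k : ZMod p) = p - 1) (h2 : ∀ a ∈ A₂, n * a * n⁻¹ ∈ A₂)
    (hsc : ∀ a ∈ A₁, a ^ p ∈ A₂ ∧ n * a * n⁻¹ * (a ^ k)⁻¹ ∈ A₂) :
    ∃ c ∈ B, orderOf c = p ∧ n * c * n⁻¹ = c ^ k := by
  classical
  letI : CommGroup B :=
    { (inferInstance : Group B) with mul_comm := fun x y => Subtype.ext (hBc x x.2 y y.2) }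
  obtain ⟨a, ha, haN⟩ := SetLike.exists_of_lt hlt
  obtain ⟨e, he⟩ := hB.exists_card_eq
  obtain ⟨τ, hτ⟩ : ∃ τ : ℕ, τ = k ^ p ^ e := ⟨_, rfl⟩
  set m : ℕ := orderOf n * (p - 1) with hm
  have hp1 : 1 ≤ p - 1 := by have := hp.out.two_le; omega
  have hk0 : ¬ p ∣ k := fun h => by
    rw [(ZMod.natCast_eq_zero_iff k p).2 h, orderOf_zero] at hk
    omega
  have hτm : ∀ x : B, x ^ τ ^ m = x := by
    intro x
    have hcop : k.Coprime (p ^ (e + 1)) := ((hp.out.coprime_iff_not_dvd.2 hk0).symm).pow_right _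
    have h1 : τ ^ (p - 1) ≡ 1 [MOD p ^ (e + 1)] := by
      rw [hτ, ← pow_mul, ← Nat.totient_prime_pow_succ hp.out]
      exact Nat.ModEq.pow_totient hcop
    have h1' := (h1.pow (orderOf n)).of_dvd (pow_dvd_pow p e.le_succ)
    rw [← pow_mul, mul_comm (p - 1), ← hm, one_pow, ← he] at h1'
    have h2' : x ^ Nat.card B = 1 := pow_card_eq_one'
    conv_rhs => rw [← pow_one x]
    exact pow_eq_pow_iff_modEq.2 (h1'.of_dvd (orderOf_dvd_of_pow_eq_one h2'))
  let f : B →* B :=
    { toFun := fun x => ⟨n * x * n⁻¹, (Subgroup.mem_normalizer_iff.1 hn _).1 x.2⟩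
      map_one' := Subtype.ext (by simp)
      map_mul' := fun x y => Subtype.ext (by simp [mul_assoc]) }
  let orb : ℕ → B := fun i =>
    ⟨n ^ i * a * (n ^ i)⁻¹, (Subgroup.mem_normalizer_iff.1 (Subgroup.pow_mem _ hn i) a).1 (hA ha)⟩
  have horb : ∀ i, f (orb i) = orb (i + 1) := fun i => Subtype.ext (by
    show n * (n ^ i * a * (n ^ i)⁻¹) * n⁻¹ = n ^ (i + 1) * a * (n ^ (i + 1))⁻¹
    rw [pow_succ' n i]; group)
  let s : ℕ → B := fun i => Nat.rec 1 (fun j r => r ^ τ * orb j) i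
  have hs0 : s 0 = 1 := rfl
  have hss : ∀ i, s (i + 1) = s i ^ τ * orb i := fun i => rfl
  have hclaim : ∀ i, f (s i) * orb 0 ^ τ ^ i = s (i + 1) := by
    intro i
    induction i with
    | zero => simp [hss, hs0]
    | succ i ih =>
      calc f (s (i + 1)) * orb 0 ^ τ ^ (i + 1) = (f (s i) ^ τ * orb (i + 1)) * (orb 0 ^ τ ^ i) ^ τ := by
            rw [hss i, map_mul, map_pow, horb, ← pow_mul (orb 0) (τ ^ i) τ, ← pow_succ τ i]
        _ = (f (s i) * orb 0 ^ τ ^ i) ^ τ * orb (i + 1) := by rw [mul_pow, mul_right_comm]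
        _ = _ := by rw [ih]
  have hfix : f (s m) = s m ^ τ := by
    have h1 := hclaim m
    rw [hτm, hss] at h1
    have h3 : orb m = orb 0 := Subtype.ext (by
      show n ^ m * a * (n ^ m)⁻¹ = n ^ 0 * a * (n ^ 0)⁻¹
      rw [hm, pow_mul, pow_orderOf_eq_one, one_pow, pow_zero])
    rw [h3] at h1
    exact mul_right_cancel h1
  -- not trivial modulo `A₂`
  have hne : s m ≠ 1 := by
    intro hs1
    let q := QuotientGroup.mk' (A₂.subgroupOf B)
    set α := q ⟨a, hA ha⟩ with hα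
    have hαp : orderOf α = p := by
      refine orderOf_eq_prime ?_ ?_
      · rw [hα, ← map_pow]
        exact (QuotientGroup.eq_one_iff _).2 (Subgroup.mem_subgroupOf.2 (hsc a ha).1)
      · intro h
        rw [hα] at h
        exact haN (Subgroup.mem_subgroupOf.1 ((QuotientGroup.eq_one_iff (⟨a, hA ha⟩ : B)).1 h))
    have hqorb : ∀ i, q (orb i) = α ^ k ^ i := by
      intro i
      rw [hα, ← map_pow, ← div_eq_one, ← map_div]
      refine (QuotientGroup.eq_one_iff _).2 (Subgroup.mem_subgroupOf.2 ?_)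
      simpa [div_eq_mul_inv, orb] using pow_scalar h2 (fun a ha => (hsc a ha).2) i a ha
    have hqs : ∀ i, q (s (i + 1)) = α ^ ((i + 1) * k ^ i) := by
      intro i
      induction i with
      | zero => rw [hss, hs0, one_pow, one_mul, hqorb]; simp
      | succ i ih =>
        rw [hss (i + 1), map_mul, map_pow, ih, hqorb, ← pow_mul, ← pow_add, pow_eq_pow_iff_modEq, hαp,
          ← ZMod.natCast_eq_natCast_iff, hτ]
        push_cast
        rw [ZMod.pow_card_pow]
        ring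
    have hm1 : m - 1 + 1 = m := Nat.sub_add_cancel (Nat.one_le_iff_ne_zero.2
      (Nat.mul_ne_zero (orderOf_pos n).ne' (by omega)))
    have h1 := hqs (m - 1)
    rw [hm1, hs1, map_one, eq_comm, ← orderOf_dvd_iff_pow_eq_one, hαp] at h1
    rcases (Nat.Prime.dvd_mul hp.out).1 h1 with h | h
    · rcases (Nat.Prime.dvd_mul hp.out).1 h with h | h
      · exact hp.out.ne_one (Nat.eq_one_of_dvd_coprimes hnc h dvd_rfl)
      · exact absurd (Nat.le_of_dvd (by omega) h) (by omega)
    · exact hk0 (hp.out.dvd_of_dvd_pow h)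
  -- the element of order `p`
  obtain ⟨j, hj⟩ := hB (s m)
  have hord : p ∣ orderOf (s m) := by
    obtain ⟨i, -, hi⟩ := (Nat.dvd_prime_pow hp.out).1 (orderOf_dvd_of_pow_eq_one hj)
    rcases i with _ | i
    · exact absurd (orderOf_eq_one_iff.1 hi) hne
    · exact hi ▸ dvd_pow_self p i.succ_ne_zero
  set c := s m ^ (orderOf (s m) / p) with hc
  have hco : orderOf c = p := orderOf_pow_orderOf_div (orderOf_pos _).ne' hord
  refine ⟨c, c.2, by rw [Subgroup.orderOf_coe, hco], ?_⟩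
  have h1 : f c = c ^ k := by
    rw [hc, map_pow, hfix, ← pow_mul, mul_comm, pow_mul, ← hc, pow_eq_pow_iff_modEq, hco,
      ← ZMod.natCast_eq_natCast_iff, hτ]
    push_cast
    exact ZMod.pow_card_pow _
  simpa [f] using congrArg Subtype.val h1

/-- The automiser of an order-`p` subgroup on which some element is a scalar of order `p - 1`. -/
theorem relIndex_automizer {H : Subgroup G} {n c : G} {k : ℕ} (hn : n ∈ H) (hc : orderOf c = p)
    (hk : orderOf (k : ZMod p) = p - 1) (hnc : n * c * n⁻¹ = c ^ k) :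
    (H ⊓ Subgroup.centralizer (Subgroup.zpowers c : Set G)).relIndex
      (H ⊓ Subgroup.normalizer (Subgroup.zpowers c : Set G)) = p - 1 := by
  classical
  set C := Subgroup.zpowers c with hC
  have hnN : n ∈ Subgroup.normalizer (C : Set G) := mem_normalizer_of_forall fun x hx => by
    obtain ⟨i, rfl⟩ := mem_powers_iff_mem_zpowers.2 hx
    show n * c ^ i * n⁻¹ ∈ C
    rw [← conj_pow, hnc, ← pow_mul]
    exact Subgroup.npow_mem_zpowers c _
  set N := H ⊓ Subgroup.normalizer (C : Set G) with hN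
  let ψ : N →* MulAut C := C.normalizerMonoidHom.comp (Subgroup.inclusion inf_le_right)
  have hker : ψ.ker = (H ⊓ Subgroup.centralizer (C : Set G)).subgroupOf N := by
    ext x
    rw [MonoidHom.mem_ker, Subgroup.mem_subgroupOf]
    constructor
    · intro h
      refine ⟨x.2.1, fun y hy => ?_⟩
      have h1 : (x : G) * y * (x : G)⁻¹ = y := congrArg (fun e : MulAut C => ((e ⟨y, hy⟩ : C) : G)) h
      exact (mul_inv_eq_iff_eq_mul.1 h1).symm
    · intro h
      refine MulEquiv.ext fun y => Subtype.ext ?_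
      show (x : G) * y * (x : G)⁻¹ = y
      rw [← h.2 y y.2, mul_inv_cancel_right]
  have hcard : Nat.card (MulAut C) = p - 1 := by
    rw [IsCyclic.card_mulAut, hC, Nat.card_zpowers, hc, Nat.totient_prime hp.out]
  have hp1 : 1 ≤ p - 1 := by have := hp.out.two_le; omega
  rw [Subgroup.relIndex, ← hker, Subgroup.index_ker]
  refine le_antisymm (hcard ▸ Subgroup.card_le_card_group _) (Nat.le_of_dvd Nat.card_pos ?_)
  set ν : ψ.range := ⟨ψ ⟨n, hn, hnN⟩, ⟨_, rfl⟩⟩
  refine Nat.dvd_trans ?_ (orderOf_dvd_natCard ν)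
  rw [← Subgroup.orderOf_coe]
  show p - 1 ∣ orderOf (ψ ⟨n, hn, hnN⟩)
  rw [← hk, orderOf_dvd_iff_pow_eq_one]
  set i := orderOf (ψ ⟨n, hn, hnN⟩) with hi
  have h1 : ψ (⟨n, hn, hnN⟩ ^ i) = 1 := by rw [map_pow, hi, pow_orderOf_eq_one]
  have h2 : n ^ i * c * (n ^ i)⁻¹ = c :=
    congrArg (fun e : MulAut C => ((e ⟨c, Subgroup.mem_zpowers c⟩ : C) : G)) h1
  have h3 : ∀ i : ℕ, n ^ i * c * (n ^ i)⁻¹ = c ^ k ^ i := by
    intro i
    induction i with
    | zero => simp
    | succ i ih =>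
      calc n ^ (i + 1) * c * (n ^ (i + 1))⁻¹ = n * (n ^ i * c * (n ^ i)⁻¹) * n⁻¹ := by rw [pow_succ']; group
        _ = c ^ k ^ (i + 1) := by rw [ih, ← conj_pow, hnc, ← pow_mul, pow_succ']
  have h4 : c ^ k ^ i = c ^ 1 := by rw [pow_one, ← h3, h2]
  rw [pow_eq_pow_iff_modEq, hc, ← ZMod.natCast_eq_natCast_iff] at h4
  simpa using h4

end CfsgLib.ZJFailure
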