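import Cfsg.Agent.Lib.ZJFailure.Natural
import Cfsg.Agent.Lib.Quadratic.Section

/-!
The torus of an irreducible quadratic pair, on a section of a group.
-/

set_option autoImplicit false
set_option linter.unusedSectionVars false
set_option linter.style.haveILetI false

namespace CfsgLib.ZJFailure

universe u

variable {G : Type u} [Group G] [Finite G] {p : ℕ} [hp : Fact p.Prime]

/-- An irreducible section `E / N` for the group `L`. -/
structure Section (p : ℕ) (L E N : Subgroup G) : Prop where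
  le : N ≤ E
  normE : L ≤ Subgroup.normalizer (E : Set G)
  normN : L ≤ Subgroup.normalizer (N : Set G)
  comm : ∀ a ∈ E, ∀ b ∈ E, a * b * a⁻¹ * b⁻¹ ∈ N
  pow : ∀ a ∈ E, a ^ p ∈ N
  irr : ∀ W : Subgroup G, N ≤ W → W ≤ E → L ≤ Subgroup.normalizer (W : Set G) → W = N ∨ W = E

theorem conj_mem {L E : Subgroup G} (h : L ≤ Subgroup.normalizer (E : Set G)) {g e : G} (hg : g ∈ L) (he : e ∈ E) :
    g * e * g⁻¹ ∈ E := (Subgroup.mem_normalizer_iff.1 (h hg) e).1 he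

theorem mem_normalizer_of_forall {W : Subgroup G} {g : G} (h : ∀ w ∈ W, g * w * g⁻¹ ∈ W) :
    g ∈ Subgroup.normalizer (W : Set G) :=
  Local.mem_normalizer_of_map_conj_eq (Subgroup.eq_of_le_of_card_ge (Local.map_conj_le h)
    (Subgroup.card_map_of_injective (MulAut.conj g).injective).ge)

/-- The data of the torus. -/
theorem exists_torus_section (hp2 : p ≠ 2) {q q' : G} {L P E N : Subgroup G}
    (hL : L = Subgroup.closure ({q, q'} : Set G)) (hS : Section p L E N)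
    (hPL : P ≤ L) (hP : IsPGroup p P) (hidx : ¬ p ∣ P.relIndex L)
    (hq : ∀ v ∈ E, q * (q * v * q⁻¹ * v⁻¹) * q⁻¹ = q * v * q⁻¹ * v⁻¹)
    (hq' : ∀ v ∈ E, q' * (q' * v * q'⁻¹ * v⁻¹) * q'⁻¹ = q' * v * q'⁻¹ * v⁻¹)
    (hnt : ∃ l ∈ L, ∃ e ∈ E, l * e * l⁻¹ * e⁻¹ ∉ N) :
    ∃ (n : G) (k k' : ℕ), n ∈ L ∧ n ∈ Subgroup.normalizer (P : Set G) ∧ (orderOf n).Coprime p ∧
      orderOf (k : ZMod p) = p - 1 ∧ (k : ZMod p) * k' = 1 ∧
      (∀ e ∈ E, n ^ ((p - 1) / 2) * e * (n ^ ((p - 1) / 2))⁻¹ * e ∈ N) ∧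
      (∀ e ∈ E, (∀ x ∈ P, x * e * x⁻¹ * e⁻¹ ∈ N) → n * e * n⁻¹ * (e ^ k)⁻¹ ∈ N) ∧
      ∀ e1 ∈ E, e1 ∉ N → (∀ x ∈ P, x * e1 * x⁻¹ * e1⁻¹ ∈ N) → ∃ e2 ∈ E, ∃ u ∈ P,
        u * e2 * u⁻¹ * (e1 * e2)⁻¹ ∈ N ∧ n * e2 * n⁻¹ * (e2 ^ k')⁻¹ ∈ N ∧
        ∀ e ∈ E, n * u * n⁻¹ * e * (n * u * n⁻¹)⁻¹ * (u ^ (k * k) * e * (u ^ (k * k))⁻¹)⁻¹ ∈ N := by
  classical
  haveI hn : (N.subgroupOf E).Normal := ⟨fun a ha b => by
    rw [Subgroup.mem_subgroupOf] at ha ⊢
    have h := N.mul_mem (hS.comm b b.2 a (hS.le ha)) ha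
    simpa using h⟩
  letI : CommGroup (E ⧸ N.subgroupOf E) :=
    { (inferInstance : Group (E ⧸ N.subgroupOf E)) with
      mul_comm := fun s t => by
        obtain ⟨s, rfl⟩ := QuotientGroup.mk_surjective s
        obtain ⟨t, rfl⟩ := QuotientGroup.mk_surjective t
        rw [← QuotientGroup.mk_mul, ← QuotientGroup.mk_mul, QuotientGroup.eq, Subgroup.mem_subgroupOf]
        have h1 := hS.comm _ (E.inv_mem t.2) _ (E.inv_mem s.2)
        simpa [mul_assoc] using h1 }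
  let cls : E → Additive (E ⧸ N.subgroupOf E) := fun m => Additive.ofMul (QuotientGroup.mk m)
  have hcls : Function.Surjective cls := fun x => by
    obtain ⟨m, hm⟩ := QuotientGroup.mk_surjective x.toMul
    exact ⟨m, congrArg Additive.ofMul hm⟩
  have hclsadd : ∀ a b, cls (a * b) = cls a + cls b := fun _ _ => rfl
  have hclspow : ∀ (i : ℕ) a, cls (a ^ i) = i • cls a := fun i a => by
    show Additive.ofMul ((QuotientGroup.mk (a ^ i) : E ⧸ N.subgroupOf E)) = _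
    rw [QuotientGroup.mk_pow, ofMul_pow]
  have hzero : ∀ a : E, cls a = 0 ↔ (a : G) ∈ N := fun a => by
    show Additive.ofMul _ = Additive.ofMul (1 : E ⧸ N.subgroupOf E) ↔ _
    rw [Additive.ofMul.injective.eq_iff, QuotientGroup.eq_one_iff, Subgroup.mem_subgroupOf]
  have heq : ∀ {a b : E}, cls a = cls b → (a : G) * (b : G)⁻¹ ∈ N := fun {a b} h => by
    rw [show (a : G) * (b : G)⁻¹ = ((a * b⁻¹ : E) : G) from rfl, ← hzero, hclsadd,
      show cls b⁻¹ = - cls b from rfl, h, add_neg_cancel]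
  have heq' : ∀ {a b : E}, (a : G) * (b : G)⁻¹ ∈ N → cls a = cls b := fun {a b} h => by
    rw [show (a : G) * (b : G)⁻¹ = ((a * b⁻¹ : E) : G) from rfl, ← hzero, hclsadd,
      show cls b⁻¹ = - cls b from rfl, add_neg_eq_zero] at h
    exact h
  let φ : L →* AddMonoid.End (Additive (E ⧸ N.subgroupOf E)) :=
    { toFun := fun g => MonoidHom.toAdditive (Quadratic.sectionEnd (g : G) (fun m hm => conj_mem hS.normE g.2 hm)
        (fun m hm => conj_mem hS.normN g.2 hm))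
      map_one' := by
        refine AddMonoidHom.ext fun x => ?_
        obtain ⟨m, rfl⟩ := hcls x
        exact congrArg Additive.ofMul (congrArg QuotientGroup.mk (Subtype.ext (by simp)))
      map_mul' := fun g h => by
        refine AddMonoidHom.ext fun x => ?_
        obtain ⟨m, rfl⟩ := hcls x
        exact congrArg Additive.ofMul (congrArg QuotientGroup.mk (Subtype.ext (by simp [mul_assoc]))) }
  have hφ : ∀ (g : L) (m : E), φ g (cls m) = cls ⟨g * m * (g : G)⁻¹, conj_mem hS.normE g.2 m.2⟩ :=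
    fun _ _ => rfl
  have hpU : ∀ x : Additive (E ⧸ N.subgroupOf E), p • x = 0 := fun x => by
    obtain ⟨m, rfl⟩ := hcls x
    rw [← hclspow, hzero]
    exact hS.pow m m.2
  have hqL : q ∈ L := hL ▸ Subgroup.subset_closure (Set.mem_insert _ _)
  have hq'L : q' ∈ L := hL ▸ Subgroup.subset_closure (Set.mem_insert_of_mem _ rfl)
  have hgen : Subgroup.closure ({⟨q, hqL⟩, ⟨q', hq'L⟩} : Set L) = ⊤ := by
    refine Subgroup.map_injective L.subtype_injective ?_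
    rw [MonoidHom.map_closure, Set.image_pair, ← MonoidHom.range_eq_map, Subgroup.range_subtype]
    exact hL.symm
  have hsq : ∀ (a : G) (haL : a ∈ L), (∀ v ∈ E, a * (a * v * a⁻¹ * v⁻¹) * a⁻¹ = a * v * a⁻¹ * v⁻¹) →
      (φ ⟨a, haL⟩ - 1) * (φ ⟨a, haL⟩ - 1) = 0 := by
    intro a haL ha
    refine AddMonoidHom.ext fun x => ?_
    obtain ⟨m, rfl⟩ := hcls x
    have hd : a * m * a⁻¹ * (m : G)⁻¹ ∈ E := E.mul_mem (conj_mem hS.normE haL m.2) (E.inv_mem m.2)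
    have e1 : φ ⟨a, haL⟩ (cls m) - cls m = cls ⟨_, hd⟩ := by
      rw [sub_eq_iff_eq_add, hφ, ← hclsadd]
      exact congrArg cls (Subtype.ext (by simp))
    show φ ⟨a, haL⟩ (φ ⟨a, haL⟩ (cls m) - cls m) - (φ ⟨a, haL⟩ (cls m) - cls m) = 0
    rw [e1, sub_eq_zero, hφ]
    exact congrArg cls (Subtype.ext (ha m m.2))
  have hirr : ∀ W : AddSubgroup (Additive (E ⧸ N.subgroupOf E)), (∀ g, ∀ w ∈ W, φ g w ∈ W) → W = ⊥ ∨ W = ⊤ := by
    intro W hW
    let W' : Subgroup G :=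
      { carrier := {m | ∃ hm : m ∈ E, cls ⟨m, hm⟩ ∈ W}
        one_mem' := ⟨E.one_mem, W.zero_mem⟩
        mul_mem' := fun {s t} ⟨hs, hs'⟩ ⟨ht, ht'⟩ => ⟨E.mul_mem hs ht, W.add_mem hs' ht'⟩
        inv_mem' := fun {s} ⟨hs, hs'⟩ => ⟨E.inv_mem hs, W.neg_mem hs'⟩ }
    have hNW : N ≤ W' := fun a ha => ⟨hS.le ha, by
      rw [(hzero ⟨a, hS.le ha⟩).2 ha]; exact W.zero_mem⟩
    rcases hS.irr W' hNW (fun a ha => ha.1) (fun g hg => mem_normalizer_of_forall fun a ha =>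
      ⟨conj_mem hS.normE hg ha.1, by have h1 := hW ⟨g, hg⟩ _ ha.2; rwa [hφ] at h1⟩) with h | h
    · refine Or.inl (eq_bot_iff.2 fun x hx => ?_)
      obtain ⟨m, rfl⟩ := hcls x
      exact AddSubgroup.mem_bot.2 ((hzero m).2 (h.le ⟨m.2, hx⟩))
    · refine Or.inr (eq_top_iff.2 fun x _ => ?_)
      obtain ⟨m, rfl⟩ := hcls x
      exact (h.ge m.2).2
  have hnt' : ∃ g, φ g ≠ 1 := by
    obtain ⟨l, hl, e, he, hle⟩ := hnt
    refine ⟨⟨l, hl⟩, fun h => hle ?_⟩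
    exact heq (a := ⟨l * e * l⁻¹, conj_mem hS.normE hl he⟩) (b := ⟨e, he⟩)
      (DFunLike.congr_fun h (cls ⟨e, he⟩))
  set Ps : Sylow p L := (hP.of_equiv (Subgroup.subgroupOfEquivOfLe hPL).symm).toSylow hidx
  obtain ⟨n, k, k', hnP, hnc, hk, hkk, hneg, hline, hplane⟩ :=
    exists_torus_action hp2 hpU φ hgen (hsq q hqL hq) (hsq q' hq'L hq') hirr hnt' Ps
  have hfixP : ∀ {e : G} (he : e ∈ E), (∀ x ∈ P, x * e * x⁻¹ * e⁻¹ ∈ N) →
      ∀ x ∈ Ps, φ x (cls ⟨e, he⟩) = cls ⟨e, he⟩ := fun {e} he h x hx => by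
    rw [hφ]; exact heq' (h x hx)
  refine ⟨n, k, k', n.2, mem_normalizer_of_forall fun x hx => ?_, by rwa [Subgroup.orderOf_coe], hk, hkk,
    fun e he => ?_, fun e he hfx => ?_, fun e1 he1 he1N hfx => ?_⟩
  · exact (Subgroup.mem_normalizer_iff.1 hnP ⟨x, hPL hx⟩).1 hx
  · have h := hneg (cls ⟨e, he⟩)
    rw [hφ, eq_neg_iff_add_eq_zero, ← hclsadd, hzero] at h
    simpa using h
  · have h := hline _ (hfixP he hfx)
    rw [hφ, ← hclspow] at h
    simpa using heq h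
  · obtain ⟨x2, u, hu, h1, h2, h3⟩ := hplane (cls ⟨e1, he1⟩) (fun h => he1N ((hzero _).1 h)) (hfixP he1 hfx)
    obtain ⟨e2, rfl⟩ := hcls x2
    refine ⟨e2, e2.2, u, hu, ?_, ?_, fun e he => ?_⟩
    · rw [hφ, ← hclsadd] at h1
      simpa using heq h1
    · rw [hφ, ← hclspow] at h2
      simpa using heq h2
    · rw [← map_pow] at h3
      have h := DFunLike.congr_fun h3 (cls ⟨e, he⟩)
      rw [hφ, hφ] at h
      simpa using heq h

end CfsgLib.ZJFailure
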