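import Cfsg.Agent.Lib.StrongFusion.Family
import Cfsg.Agent.Lib.ZJFailure.Section

/-!
A pair of members of an invariant set generating a subgroup outside a subgroup that contains
a Sylow subgroup and the normalizer of the members inside it.
-/

set_option autoImplicit false
set_option linter.unusedSectionVars false
set_option linter.style.haveILetI false

namespace CfsgLib.ZJFailure

open Cfsg CfsgLib.StrongFusion
open scoped Pointwise

universe u

variable {G : Type u} [Group G] [Finite G] {p : ℕ} [hp : Fact p.Prime]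

/-- A member of the invariant set normalising the group generated by some of them. -/
theorem exists_new (S : Sylow p G) {T : Set G} (hTS : T ⊆ (S : Subgroup G))
    (hTn : ∀ s ∈ (S : Subgroup G), ∀ t ∈ T, s * t * s⁻¹ ∈ T) {X : Subgroup G} (hXS : X ≤ (S : Subgroup G))
    (hX : X ≤ Subgroup.closure (T ∩ X)) (hTX : ¬ T ⊆ X) :
    ∃ t ∈ T, t ∉ X ∧ t ∈ Subgroup.normalizer (X : Set G) := by
  obtain ⟨M, ⟨hXM, hMS, hMT⟩, hmax⟩ := Set.exists_max_image
    {M : Subgroup G | X ≤ M ∧ M ≤ (S : Subgroup G) ∧ T ∩ M ⊆ X} (fun M => Nat.card M) (Set.toFinite _)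
    ⟨X, le_rfl, hXS, Set.inter_subset_right⟩
  have hlt := lt_inf_normalizer S hMS fun h => hTX fun t ht => hMT ⟨ht, h.ge (hTS ht)⟩
  set N := (S : Subgroup G) ⊓ Subgroup.normalizer (M : Set G) with hN
  obtain ⟨t, ⟨htT, htN⟩, htX⟩ : ∃ t ∈ T ∩ (N : Set G), t ∉ X := by
    by_contra h
    push Not at h
    exact hlt.ne (Subgroup.eq_of_le_of_card_ge hlt.le (hmax N ⟨hXM.trans hlt.le, inf_le_left, h⟩))
  refine ⟨t, htT, htX, mem_normalizer_of_forall fun x hx => ?_⟩
  have h1 : Subgroup.closure (T ∩ X) ≤ X.comap (MulAut.conj t).toMonoidHom := by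
    refine (Subgroup.closure_le _).2 fun y hy => ?_
    exact hMT ⟨hTn t htN.1 y hy.1, (Subgroup.mem_normalizer_iff.1 htN.2 y).1 (hXM hy.2)⟩
  exact h1 (hX hx)

/-- A `p`-subgroup lies in a conjugate of `S`. -/
theorem exists_le_cm (S : Sylow p G) {R : Subgroup G} (hR : IsPGroup p R) :
    ∃ a, R ≤ cm a (S : Subgroup G) := by
  obtain ⟨Q, hQ⟩ := hR.exists_le_sylow
  obtain ⟨a, ha⟩ := MulAction.exists_smul_eq G S Q
  exact ⟨a, by rw [← ha, Sylow.coe_subgroup_smul] at hQ; exact hQ⟩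

/-- **The pair.** -/
theorem exists_pair (S : Sylow p G) (Ω : Set G) (hΩ : ∀ g, ∀ w ∈ Ω, g * w * g⁻¹ ∈ Ω)
    {K : Subgroup G} (hK : K ≠ ⊤)
    (hY : Subgroup.normalizer (Subgroup.closure (Ω ∩ ((S : Subgroup G) : Set G)) : Set G) ≤ K) :
    ∃ (q q' : G) (L P : Subgroup G), q ∈ Ω ∧ q' ∈ Ω ∧ L = Subgroup.closure ({q, q'} : Set G) ∧
      P ≤ (S : Subgroup G) ∧ P ≤ L ∧ ¬ p ∣ P.relIndex L ∧
      (∀ x ∈ L, x ∈ Subgroup.normalizer (P : Set G) → x ∈ K) ∧ ¬ L ≤ K := by
  classical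
  set P₀ := (S : Subgroup G) with hP₀
  set T := Ω ∩ (P₀ : Set G) with hT
  obtain ⟨g₀, hg₀⟩ : ∃ g, g ∉ K := by
    by_contra h
    push Not at h
    exact hK (eq_top_iff.2 fun x _ => h x)
  obtain ⟨g, hg, hmax⟩ := Set.exists_max_image {g : G | g ∉ K}
    (fun g => (Ω ∩ ((P₀ ⊓ cm g P₀ : Subgroup G) : Set G)).ncard) (Set.toFinite _) ⟨g₀, hg₀⟩
  set D := P₀ ⊓ cm g P₀ with hD
  set X := Subgroup.closure (Ω ∩ (D : Set G)) with hX
  have hXD : X ≤ D := (Subgroup.closure_le _).2 Set.inter_subset_right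
  have hXS : X ≤ P₀ := hXD.trans inf_le_left
  have hΩX : Ω ∩ (X : Set G) = Ω ∩ (D : Set G) :=
    Set.Subset.antisymm (Set.inter_subset_inter_right _ hXD) fun y hy => ⟨hy.1, Subgroup.subset_closure hy⟩
  -- unambiguity
  have hun : ∀ (a b : G) (E : Subgroup G), X ≤ E → E ≤ cm a P₀ → E ≤ cm b P₀ →
      ∀ t ∈ Ω, t ∈ E → t ∉ X → a⁻¹ * b ∈ K := by
    intro a b E hXE ha hb t ht htE htX
    by_contra hab
    have h1 : (Ω ∩ (X : Set G)).ncard < (Ω ∩ (E : Set G)).ncard :=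
      Set.ncard_lt_ncard ⟨Set.inter_subset_inter_right _ hXE, fun h => htX (h ⟨ht, htE⟩).2⟩ (Set.toFinite _)
    have h2 : (Ω ∩ (E : Set G)).ncard ≤ (Ω ∩ ((P₀ ⊓ cm (a⁻¹ * b) P₀ : Subgroup G) : Set G)).ncard := by
      rw [← Set.ncard_image_of_injective (Ω ∩ (E : Set G)) (MulAut.conj a⁻¹).injective]
      refine Set.ncard_le_ncard ?_ (Set.toFinite _)
      rintro _ ⟨e, ⟨he, heE⟩, rfl⟩
      refine ⟨hΩ a⁻¹ e he, ?_, ?_⟩
      · have := cm_mono (g := a⁻¹) ha (conj_mem_cm heE)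
        rwa [cm_inv_cm] at this
      · have := cm_mono (g := a⁻¹) hb (conj_mem_cm heE)
        rwa [cm_cm] at this
    rw [hΩX] at h1
    exact absurd (hmax _ hab) (not_le.2 (h1.trans_le h2))
  -- new members on both sides
  have hTn : ∀ s ∈ P₀, ∀ t ∈ T, s * t * s⁻¹ ∈ T := fun s hs t ht =>
    ⟨hΩ s t ht.1, mul_mem (mul_mem hs ht.2) (inv_mem hs)⟩
  have hTX : ¬ T ⊆ X := by
    intro h
    refine hg (hY ?_)
    have hback : g⁻¹ ∈ Subgroup.normalizer (Subgroup.closure T : Set G) := by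
      refine mem_normalizer_of_forall fun x hx => ?_
      have h1 : Subgroup.closure T ≤ (Subgroup.closure T).comap (MulAut.conj g⁻¹).toMonoidHom := by
        refine (Subgroup.closure_le _).2 fun t ht => Subgroup.subset_closure ⟨hΩ g⁻¹ t ht.1, ?_⟩
        have := cm_mono (g := g⁻¹) (inf_le_right : D ≤ _) (conj_mem_cm (hXD (h ht)))
        rwa [cm_inv_cm] at this
      exact h1 hx
    have := inv_mem hback
    rwa [inv_inv] at this
  obtain ⟨q, ⟨hqΩ, hqS⟩, hqX, hqN⟩ := exists_new S Set.inter_subset_right hTn hXS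
    ((Subgroup.closure_mono (show Ω ∩ (D : Set G) ⊆ T ∩ X from fun y hy =>
      ⟨⟨hy.1, hy.2.1⟩, Subgroup.subset_closure hy⟩))) hTX
  set X' := cm g⁻¹ X with hX'
  have hX'S : X' ≤ P₀ := (cm_mono (hXD.trans inf_le_right)).trans (cm_inv_cm g P₀).le
  have hgX' : cm g X' = X := by rw [hX', cm_cm, mul_inv_cancel, cm_one]
  obtain ⟨t, ⟨htΩ, htS⟩, htX, htN⟩ := exists_new S Set.inter_subset_right hTn hX'S
    (by
      have e : X' = Subgroup.closure ((MulAut.conj g⁻¹).toMonoidHom '' (Ω ∩ (D : Set G))) := by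
        rw [hX', cm, hX, MonoidHom.map_closure]
      refine e.le.trans (Subgroup.closure_mono ?_)
      rintro _ ⟨y, hy, rfl⟩
      have h1 : (MulAut.conj g⁻¹).toMonoidHom y ∈ cm g⁻¹ X := ⟨y, Subgroup.subset_closure hy, rfl⟩
      exact ⟨⟨hΩ g⁻¹ y hy.1, hX'S h1⟩, h1⟩)
    (fun h => by
      have h1 : T.ncard ≤ (Ω ∩ (X : Set G)).ncard := by
        rw [← Set.ncard_image_of_injective T (MulAut.conj g).injective]
        refine Set.ncard_le_ncard ?_ (Set.toFinite _)
        rintro _ ⟨t, ht, rfl⟩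
        exact ⟨hΩ g t ht.1, hgX'.le ⟨t, h ht, rfl⟩⟩
      have h2 : Ω ∩ (X : Set G) ⊆ T := Set.inter_subset_inter_right _ hXS
      exact hTX (fun t ht => ((Set.eq_of_subset_of_ncard_le h2 h1 (Set.toFinite _)).ge ht).2))
  set L₁ := Subgroup.normalizer (X : Set G) with hL₁
  have hXL : X ≤ L₁ := Subgroup.le_normalizer
  have htL : g * t * g⁻¹ ∈ L₁ := by
    refine mem_normalizer_of_forall fun x hx => ?_
    obtain ⟨y, hy, rfl⟩ := hgX'.ge hx
    refine hgX'.le ⟨t * y * t⁻¹, (Subgroup.mem_normalizer_iff.1 htN y).1 hy, ?_⟩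
    simp [mul_assoc]
  -- an element of `L₁` outside `K`
  obtain ⟨c₀, hc₀, R, hR, -, hAR, hBR⟩ := Local.exists_conj_isPGroup (A := P₀ ⊓ L₁) (B := cm g P₀ ⊓ L₁) (C := L₁)
    (S.2.to_le inf_le_left) ((S.2.map (MulAut.conj g).toMonoidHom).to_le inf_le_left) inf_le_right inf_le_right
  obtain ⟨a, ha⟩ := exists_le_cm S hR
  set l := c₀⁻¹ with hl
  have hlL : l ∈ L₁ := inv_mem hc₀
  have hlK : l ∉ K := by
    intro hlK
    have h1 : (1 : G)⁻¹ * a ∈ K := hun 1 a _ (le_inf hXS hXL) (by rw [cm_one]; exact inf_le_left) (hAR.trans ha)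
      q hqΩ ⟨hqS, hqN⟩ hqX
    rw [inv_one, one_mul] at h1
    have h2 : g⁻¹ * (l * a) ∈ K := hun g (l * a) _ (le_inf (hXD.trans inf_le_right) hXL) inf_le_left
      (by
        have := cm_mono (g := l) (hBR.trans ha)
        rwa [hl, cm_inv_cm, cm_cm] at this)
      _ (hΩ g t htΩ) ⟨⟨t, htS, rfl⟩, htL⟩ (fun h => htX (by
        have := conj_mem_cm (g := g⁻¹) h
        rw [← hX'] at this
        simpa [mul_assoc] using this))
    refine hg ?_
    have h3 := mul_mem (mul_mem hlK h1) (inv_mem h2)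
    rwa [show l * a * (g⁻¹ * (l * a))⁻¹ = g by group] at h3
  -- the subgroup generated by `q` and `l q l⁻¹`
  set q' := l * q * l⁻¹ with hq'
  set L := Subgroup.closure ({q, q'} : Set G) with hLdef
  have hLL₁ : L ≤ L₁ := (Subgroup.closure_le _).2 (by
    rintro y (rfl | rfl)
    · exact hqN
    · exact mul_mem (mul_mem hlL hqN) (inv_mem hlL))
  have hqL : q ∈ L := Subgroup.subset_closure (Set.mem_insert _ _)
  have hq'L : q' ∈ L := Subgroup.subset_closure (Set.mem_insert_of_mem _ rfl)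
  have hqp : IsPGroup p (Subgroup.zpowers q) := S.2.to_le (Subgroup.zpowers_le.2 hqS)
  have hq'p : IsPGroup p (Subgroup.zpowers q') := by
    have h := hqp.map (MulAut.conj l).toMonoidHom
    rwa [MonoidHom.map_zpowers] at h
  obtain ⟨Ps, hPs⟩ := (hqp.of_equiv (Subgroup.subgroupOfEquivOfLe (Subgroup.zpowers_le.2 hqL)).symm).exists_le_sylow
  set P := (Ps : Subgroup L).map L.subtype with hP
  have hPL : P ≤ L := Subgroup.map_subtype_le _
  have hPp : IsPGroup p P := Ps.2.map _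
  have hqP : q ∈ P := ⟨⟨q, hqL⟩, hPs (Subgroup.mem_zpowers q), rfl⟩
  have hidx : ¬ p ∣ P.relIndex L := by
    rw [hP, Subgroup.relIndex, Subgroup.subgroupOf, Subgroup.comap_map_eq_self_of_injective L.subtype_injective]
    exact Ps.not_dvd_index
  obtain ⟨m, hmL, hm⟩ := exists_conj_le hPL hPp hidx (Subgroup.zpowers_le.2 hq'L) hq'p
  have hPX : IsPGroup p ↥(P ⊔ X) := hPp.to_sup_of_normal_right' (S.2.to_le hXS) (hPL.trans hLL₁)
  obtain ⟨c, hc⟩ := exists_le_cm S hPX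
  have hcK : c ∈ K := by
    have h := hun 1 c (X ⊔ Subgroup.zpowers q) le_sup_left (by
        rw [cm_one]; exact sup_le hXS (Subgroup.zpowers_le.2 hqS))
      ((sup_le le_sup_right ((Subgroup.zpowers_le.2 hqP).trans le_sup_left)).trans hc)
      q hqΩ (Subgroup.mem_sup_right (Subgroup.mem_zpowers q)) hqX
    rwa [inv_one, one_mul] at h
  have hLK : ¬ L ≤ K := by
    intro hLK
    refine hlK ?_
    have hlX : cm l X = X := Local.map_conj_eq_of_mem_normalizer hlL
    have hmX : cm m X = X := Local.map_conj_eq_of_mem_normalizer (hLL₁ hmL)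
    have h := hun l (m⁻¹ * c) (X ⊔ Subgroup.zpowers q') le_sup_left
      (sup_le (hlX.ge.trans (cm_mono hXS)) (Subgroup.zpowers_le.2 (conj_mem_cm hqS)))
      (by
        have h1 : cm m (X ⊔ Subgroup.zpowers q') ≤ cm c P₀ := by
          rw [cm, Subgroup.map_sup]
          exact sup_le (hmX.le.trans (le_sup_right.trans hc)) (hm.trans (le_sup_left.trans hc))
        have h2 := cm_mono (g := m⁻¹) h1
        rwa [cm_inv_cm, cm_cm] at h2)
      q' (hΩ l q hqΩ) (Subgroup.mem_sup_right (Subgroup.mem_zpowers q'))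
      (fun h => hqX (by
        have := (Subgroup.mem_normalizer_iff.1 hlL q).2 h
        exact this))
    have h3 := mul_mem (mul_mem (inv_mem (hLK hmL)) hcK) (inv_mem h)
    rwa [show m⁻¹ * c * (l⁻¹ * (m⁻¹ * c))⁻¹ = l by group] at h3
  have hfix : ∀ x ∈ L, x ∈ Subgroup.normalizer (P : Set G) → x ∈ K := by
    intro x hx hxP
    have hxX : cm x X = X := Local.map_conj_eq_of_mem_normalizer (hLL₁ hx)
    have hxPP : cm x P = P := Local.map_conj_eq_of_mem_normalizer hxP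
    have h := hun c (x * c) (P ⊔ X) le_sup_right hc (by
        have h1 := cm_mono (g := x) hc
        rwa [cm, Subgroup.map_sup, show P.map (MulAut.conj x).toMonoidHom = P from hxPP,
          show X.map (MulAut.conj x).toMonoidHom = X from hxX, cm_cm] at h1)
      q hqΩ (Subgroup.mem_sup_left hqP) hqX
    have h3 := mul_mem (mul_mem hcK h) (inv_mem hcK)
    rwa [show c * (c⁻¹ * (x * c)) * c⁻¹ = x by group] at h3
  -- back into `S`
  refine ⟨c⁻¹ * q * c, c⁻¹ * q' * c, cm c⁻¹ L, cm c⁻¹ P, by simpa using hΩ c⁻¹ q hqΩ,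
    by simpa using hΩ c⁻¹ q' (hΩ l q hqΩ), ?_, ?_, cm_mono hPL, ?_, ?_, ?_⟩
  · rw [cm, hLdef, MonoidHom.map_closure, Set.image_pair]; simp
  · have := cm_mono (g := c⁻¹) ((le_sup_left : P ≤ P ⊔ X).trans hc)
    rwa [cm_inv_cm] at this
  · rwa [Subgroup.relIndex_map_map_of_injective _ _ (MulAut.conj c⁻¹).injective]
  · rintro _ ⟨x, hx, rfl⟩ hxP
    have h1 : x ∈ Subgroup.normalizer (P : Set G) := mem_normalizer_of_forall fun w hw => by
      have h2 := (Subgroup.mem_normalizer_iff.1 hxP _).1 (conj_mem_cm (g := c⁻¹) hw)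
      have h4 := conj_mem_cm (g := c) h2
      rw [cm_cm, mul_inv_cancel, cm_one] at h4
      simpa [mul_assoc] using h4
    exact mul_mem (mul_mem (inv_mem hcK) (hfix x hx h1)) (inv_mem (inv_mem hcK))
  · intro h
    refine hLK fun x hx => ?_
    have h1 := h (conj_mem_cm (g := c⁻¹) hx)
    have h2 := mul_mem (mul_mem hcK h1) (inv_mem hcK)
    rwa [show c * (c⁻¹ * x * c⁻¹⁻¹) * c⁻¹ = x by group] at h2

end CfsgLib.ZJFailure
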