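import Cfsg.Agent.Lib.ZJFailure.Section
import Cfsg.Agent.Lib.Coprime
import Cfsg.Agent.Lib.QdSection
import Cfsg.Prelude.Def_LocalEven
import Mathlib.Algebra.CharP.Lemmas

/-!
The obstruction to control of strong fusion by a normaliser, and its transport along agreeing elements.
-/

set_option autoImplicit false
set_option linter.unusedSectionVars false
set_option linter.style.haveILetI false

namespace CfsgLib.ZJFailure

open Cfsg

universe u

variable {p : ℕ} [hp : Fact p.Prime]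

local notation "SL3" => Matrix.SpecialLinearGroup (Fin 3) (ZMod p)
/-- The group `F` over the field with `p` elements. -/
abbrev FF (p : ℕ) [Fact p.Prime] : Type := ↥(Cfsg.fOver (ZMod p))

/-! ### The group `F` -/

theorem fOver_shape {M : SL3} (hM : M ∈ fOver (ZMod p)) :
    M.1 1 0 = 0 ∧ M.1 2 0 = 0 ∧ M.1 2 1 = 0 ∧ M.1 2 2 = 1 := by
  induction hM using Subgroup.closure_induction with
  | mem x hx => exact hx
  | one => simp
  | mul x y _ _ hx hy =>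
    obtain ⟨a1, a2, a3, a4⟩ := hx
    obtain ⟨b1, b2, b3, b4⟩ := hy
    refine ⟨?_, ?_, ?_, ?_⟩ <;>
      simp [Matrix.SpecialLinearGroup.coe_mul, Matrix.mul_apply, Fin.sum_univ_three, a1, a2, a3, a4, b1, b2, b3, b4]
  | inv x _ hx =>
    obtain ⟨a1, a2, a3, a4⟩ := hx
    have hd : x.1 0 0 * x.1 1 1 = 1 := by
      have h := x.2
      rw [Matrix.det_fin_three, a1, a2, a3, a4] at h
      linear_combination h
    refine ⟨?_, ?_, ?_, ?_⟩ <;>
      simp [Matrix.SpecialLinearGroup.coe_inv, Matrix.adjugate_fin_three, a1, a2, a3, a4, hd]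

/-- A non-trivial translation. -/
def trans02 : (FF p) :=
  ⟨⟨!![1, 0, 1; 0, 1, 0; 0, 0, 1], by simp [Matrix.det_fin_three]⟩,
    Subgroup.subset_closure ⟨by simp, by simp, by simp, by simp⟩⟩

theorem trans02_pow : (trans02 : (FF p)) ^ p = 1 := by
  have h : ∀ i : ℕ, (((trans02 : (FF p)) ^ i : (FF p)) : SL3).1 = !![1, 0, (i : ZMod p); 0, 1, 0; 0, 0, 1] := by
    intro i
    induction i with
    | zero => ext a b; fin_cases a <;> fin_cases b <;> simp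
    | succ i ih =>
      rw [pow_succ, Subgroup.coe_mul, Matrix.SpecialLinearGroup.coe_mul, ih]
      ext a b
      fin_cases a <;> fin_cases b <;> simp [trans02, Matrix.mul_apply, Fin.sum_univ_three, add_comm]
  refine Subtype.ext (Subtype.ext ?_)
  rw [h, ZMod.natCast_self]
  ext a b; fin_cases a <;> fin_cases b <;> simp

/-- An element of `p'`-order of `F` commuting with all elements of order dividing `p` is trivial. -/
theorem fOver_eq_one (hp2 : p ≠ 2) {f : (FF p)} (hf : (orderOf f).Coprime p)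
    (hc : ∀ x : (FF p), x ^ p = 1 → f * x = x * f) : f = 1 := by
  obtain ⟨a1, a2, a3, a4⟩ := fOver_shape f.2
  have h : ((f : SL3).1 * ((trans02 : (FF p)) : SL3).1) 0 2 = (((trans02 : (FF p)) : SL3).1 * (f : SL3).1) 0 2 :=
    congrArg (fun y : (FF p) => (y : SL3).1 0 2) (hc trans02 trans02_pow)
  have e : ((trans02 : (FF p)) : SL3).1 = !![1, 0, 1; 0, 1, 0; 0, 0, 1] := rfl
  simp [e, Matrix.mul_apply, Fin.sum_univ_three, a4] at h
  have h00 : (f : SL3).1 0 0 = 1 := by linear_combination h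
  have h11 : (f : SL3).1 1 1 = 1 := by
    have hd := (f : SL3).2
    rw [Matrix.det_fin_three, a1, a2, a3, a4, h00] at hd
    linear_combination hd
  have hN : ((f : SL3).1 - 1) ^ 3 = 0 := by
    rw [pow_succ, pow_two]
    ext a b
    fin_cases a <;> fin_cases b <;>
      simp [Matrix.mul_apply, Fin.sum_univ_three, a1, a2, a3, a4, h00, h11]
  have hp3 : 3 ≤ p := by have := hp.out.two_le; omega
  have h1 : ((f : SL3).1) ^ p = 1 := by
    have h0 : ((f : SL3).1 - 1) ^ p = 0 := pow_eq_zero_of_le hp3 hN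
    rw [sub_pow_char_of_commute p (Commute.one_right (f : SL3).1), one_pow, sub_eq_zero] at h0
    exact h0
  have h2 : f ^ p = 1 := Subtype.ext (Subtype.ext (by
    rw [Subgroup.coe_pow, Matrix.SpecialLinearGroup.coe_pow, h1]; rfl))
  exact orderOf_eq_one_iff.1 (Nat.eq_one_of_dvd_coprimes hf dvd_rfl (orderOf_dvd_of_pow_eq_one h2))

/-! ### Powers and agreement -/

variable {G : Type u} [Group G]

theorem exists_pow_coprime [Finite G] (g : G) : ∃ j : ℕ, (orderOf (g ^ p ^ j)).Coprime p := by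
  obtain ⟨j, r, hr, hjr⟩ := Nat.exists_eq_pow_mul_and_not_dvd (orderOf_pos g).ne' p hp.out.ne_one
  exact ⟨j, ((hp.out.coprime_iff_not_dvd.2 hr).symm).coprime_dvd_left
    (orderOf_dvd_of_pow_eq_one (by rw [← pow_mul, ← hjr, pow_orderOf_eq_one]))⟩

theorem coprime_pow {g : G} (h : (orderOf g).Coprime p) (i : ℕ) : (orderOf (g ^ i)).Coprime p :=
  h.coprime_dvd_left (orderOf_pow_dvd i)

theorem zpowers_pow_eq [Finite G] {g : G} (h : (orderOf g).Coprime p) (j : ℕ) :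
    Subgroup.zpowers (g ^ p ^ j) = Subgroup.zpowers g := by
  refine Subgroup.eq_of_le_of_card_ge (Subgroup.zpowers_le.2 (Subgroup.npow_mem_zpowers g _)) ?_
  rw [Nat.card_zpowers, Nat.card_zpowers, (h.pow_right j).orderOf_pow]

theorem agree_pow {P : Subgroup G} {n h : G} (hn : n ∈ Subgroup.normalizer (P : Set G))
    (hag : ∀ x ∈ P, h * x * h⁻¹ = n * x * n⁻¹) (i : ℕ) : ∀ x ∈ P, h ^ i * x * (h ^ i)⁻¹ = n ^ i * x * (n ^ i)⁻¹ := by
  induction i with
  | zero => simp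
  | succ i ih =>
    intro x hx
    have h1 : n * x * n⁻¹ ∈ P := (Subgroup.mem_normalizer_iff.1 hn x).1 hx
    calc h ^ (i + 1) * x * (h ^ (i + 1))⁻¹ = h ^ i * (h * x * h⁻¹) * (h ^ i)⁻¹ := by rw [pow_succ]; group
      _ = n ^ i * (n * x * n⁻¹) * (n ^ i)⁻¹ := by rw [hag x hx, ih _ h1]
      _ = n ^ (i + 1) * x * (n ^ (i + 1))⁻¹ := by rw [pow_succ]; group

theorem mem_normalizer_of_agree [Finite G] {P : Subgroup G} {n h : G} (hn : n ∈ Subgroup.normalizer (P : Set G))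
    (hag : ∀ x ∈ P, h * x * h⁻¹ = n * x * n⁻¹) : h ∈ Subgroup.normalizer (P : Set G) :=
  mem_normalizer_of_forall fun x hx => by rw [hag x hx]; exact (Subgroup.mem_normalizer_iff.1 hn x).1 hx

theorem exists_eq_mul_pow [Finite G] {P : Subgroup G} {g x : G} (hg : g ∈ Subgroup.normalizer (P : Set G))
    (hx : x ∈ P ⊔ Subgroup.zpowers g) : ∃ u ∈ P, ∃ i : ℕ, x = u * g ^ i := by
  obtain ⟨u, hu, a, ha, rfl⟩ := mem_sup_of_le_normalizer (Subgroup.zpowers_le.2 hg) hx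
  obtain ⟨i, rfl⟩ := mem_powers_iff_mem_zpowers.2 ha
  exact ⟨u, hu, i, rfl⟩

theorem mul_pow_normalizer {P : Subgroup G} {g u : G} (hg : g ∈ Subgroup.normalizer (P : Set G)) (hu : u ∈ P) :
    ∀ i : ℕ, ∃ v ∈ P, (u * g) ^ i = v * g ^ i := by
  intro i
  induction i with
  | zero => exact ⟨1, P.one_mem, by simp⟩
  | succ i ih =>
    obtain ⟨v, hv, he⟩ := ih
    refine ⟨v * (g ^ i * u * (g ^ i)⁻¹), P.mul_mem hv
      ((Subgroup.mem_normalizer_iff.1 (Subgroup.pow_mem _ hg i) u).1 hu), ?_⟩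
    rw [pow_succ, he, pow_succ]; group

/-- A homomorphism onto `F` is transported along an element agreeing on the `p`-subgroup. -/
theorem exists_hom_of_agree [Finite G] (hp2 : p ≠ 2) {P : Subgroup G} (hP : IsPGroup p P) {n h : G}
    (hn : n ∈ Subgroup.normalizer (P : Set G)) (hncop : (orderOf n).Coprime p) (hhcop : (orderOf h).Coprime p)
    (hag : ∀ x ∈ P, h * x * h⁻¹ = n * x * n⁻¹)
    (ψ : ↥(P ⊔ Subgroup.zpowers n) →* (FF p)) (hψ : Function.Surjective ψ) :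
    ∃ ψ' : ↥(P ⊔ Subgroup.zpowers h) →* (FF p), Function.Surjective ψ' := by
  classical
  have hh := mem_normalizer_of_agree hn hag
  have mu : ∀ (u : G) (i : ℕ), u ∈ P → u * n ^ i ∈ P ⊔ Subgroup.zpowers n := fun u i hu =>
    mul_mem (Subgroup.mem_sup_left hu) (Subgroup.mem_sup_right (Subgroup.npow_mem_zpowers n i))
  -- elements of order dividing `p` come from `P`
  have hsmall : ∀ f : (FF p), f ^ p = 1 → ∃ w, ∃ hw : w ∈ P, ψ ⟨w, Subgroup.mem_sup_left hw⟩ = f := by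
    intro f hf
    obtain ⟨⟨x, hx⟩, rfl⟩ := hψ f
    obtain ⟨u, hu, i, rfl⟩ := exists_eq_mul_pow hn hx
    set m := orderOf (n ^ i) with hm
    obtain ⟨v, hv, hve⟩ := mul_pow_normalizer (Subgroup.pow_mem _ hn i) hu m
    rw [hm, pow_orderOf_eq_one, mul_one, ← hm] at hve
    obtain ⟨r, hr⟩ := exists_pow_eq_self_of_coprime (n := m) (x := ψ ⟨u * n ^ i, hx⟩)
      ((coprime_pow hncop i).coprime_dvd_right (orderOf_dvd_of_pow_eq_one hf))
    refine ⟨v ^ r, P.pow_mem hv r, ?_⟩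
    rw [← hr, ← map_pow, ← map_pow]
    exact congrArg ψ (Subtype.ext (by simp [hve]))
  have hkill : ∀ a : G, ∀ ha : a ∈ P ⊔ Subgroup.zpowers n, (orderOf a).Coprime p →
      (∀ x ∈ P, a * x = x * a) → ψ ⟨a, ha⟩ = 1 := by
    intro a ha hacop hac
    refine fOver_eq_one hp2 (hacop.coprime_dvd_left ((orderOf_map_dvd ψ _).trans (by rw [Subgroup.orderOf_mk])))
      fun f hf => ?_
    obtain ⟨w, hw, rfl⟩ := hsmall f hf
    rw [← map_mul, ← map_mul]
    exact congrArg ψ (Subtype.ext (hac w hw))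
  have hwd : ∀ (u v : G) (hu : u ∈ P) (hv : v ∈ P) (i j : ℕ), u * h ^ i = v * h ^ j →
      ψ ⟨u * n ^ i, mu u i hu⟩ = ψ ⟨v * n ^ j, mu v j hv⟩ := by
    intro u v hu hv i j he
    have hd : v⁻¹ * u = h ^ j * (h ^ i)⁻¹ := by
      calc v⁻¹ * u = v⁻¹ * (u * h ^ i) * (h ^ i)⁻¹ := by group
        _ = h ^ j * (h ^ i)⁻¹ := by rw [he]; group
    have hd1 : v⁻¹ * u = 1 := by
      obtain ⟨k, hk⟩ := hP ⟨v⁻¹ * u, mul_mem (inv_mem hv) hu⟩
      refine orderOf_eq_one_iff.1 (Nat.eq_one_of_dvd_coprimes (hhcop.pow_right k) ?_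
        (orderOf_dvd_of_pow_eq_one (congrArg Subtype.val hk)))
      obtain ⟨r, hr⟩ := mem_powers_iff_mem_zpowers.2
        (show v⁻¹ * u ∈ Subgroup.zpowers h from hd ▸ mul_mem (Subgroup.npow_mem_zpowers h j)
          (inv_mem (Subgroup.npow_mem_zpowers h i)))
      rw [← hr]; exact orderOf_pow_dvd r
    obtain rfl : v = u := inv_mul_eq_one.1 hd1
    have hij : h ^ i = h ^ j := mul_left_cancel he
    obtain ⟨r, hr⟩ := mem_powers_iff_mem_zpowers.2
      (show (n ^ i)⁻¹ * n ^ j ∈ Subgroup.zpowers n from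
        mul_mem (inv_mem (Subgroup.npow_mem_zpowers n i)) (Subgroup.npow_mem_zpowers n j))
    have hcen : ∀ x ∈ P, ((n ^ i)⁻¹ * n ^ j) * x = x * ((n ^ i)⁻¹ * n ^ j) := by
      intro x hx
      have h1 := agree_pow hn hag i x hx
      rw [hij, agree_pow hn hag j x hx] at h1
      calc ((n ^ i)⁻¹ * n ^ j) * x = (n ^ i)⁻¹ * (n ^ j * x * (n ^ j)⁻¹) * n ^ j := by group
        _ = (n ^ i)⁻¹ * (n ^ i * x * (n ^ i)⁻¹) * n ^ j := by rw [h1]
        _ = x * ((n ^ i)⁻¹ * n ^ j) := by group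
    have h2 := hkill _ (show (n ^ i)⁻¹ * n ^ j ∈ P ⊔ Subgroup.zpowers n from Subgroup.mem_sup_right
      (mul_mem (inv_mem (Subgroup.npow_mem_zpowers n i)) (Subgroup.npow_mem_zpowers n j)))
      (hr ▸ coprime_pow hncop r) hcen
    symm
    calc ψ ⟨v * n ^ j, mu v j hu⟩
        = ψ (⟨v * n ^ i, mu v i hu⟩ * ⟨(n ^ i)⁻¹ * n ^ j, Subgroup.mem_sup_right
            (mul_mem (inv_mem (Subgroup.npow_mem_zpowers n i)) (Subgroup.npow_mem_zpowers n j))⟩) :=
          congrArg ψ (Subtype.ext (show v * n ^ j = v * n ^ i * ((n ^ i)⁻¹ * n ^ j) by group))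
      _ = ψ ⟨v * n ^ i, mu v i hu⟩ := by rw [map_mul, h2, mul_one]
  choose U hU I hI using fun x : ↥(P ⊔ Subgroup.zpowers h) => exists_eq_mul_pow hh x.2
  let F' : ↥(P ⊔ Subgroup.zpowers h) → (FF p) := fun x => ψ ⟨U x * n ^ I x, mu _ _ (hU x)⟩
  refine ⟨MonoidHom.mk' F' fun x y => ?_, fun f => ?_⟩
  · show ψ _ = ψ _ * ψ _
    rw [← map_mul]
    have hconj : n ^ I x * U y * (n ^ I x)⁻¹ ∈ P :=
      (Subgroup.mem_normalizer_iff.1 (Subgroup.pow_mem _ hn _) _).1 (hU y)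
    refine (hwd _ (U x * (n ^ I x * U y * (n ^ I x)⁻¹)) (hU _) (P.mul_mem (hU x) hconj) (I (x * y)) (I x + I y)
      ?_).trans (congrArg ψ (Subtype.ext (show _ = (U x * n ^ I x) * (U y * n ^ I y) by simp only [pow_add]; group)))
    rw [← hI (x * y), Subgroup.coe_mul]
    conv_lhs => rw [hI x, hI y]
    rw [← agree_pow hn hag (I x) (U y) (hU y), pow_add]
    group
  · obtain ⟨⟨x, hx⟩, rfl⟩ := hψ f
    obtain ⟨u, hu, i, rfl⟩ := exists_eq_mul_pow hn hx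
    refine ⟨⟨u * h ^ i, mul_mem (Subgroup.mem_sup_left hu) (Subgroup.mem_sup_right (Subgroup.npow_mem_zpowers h i))⟩,
      hwd _ _ (hU _) hu _ _ (hI _).symm⟩

/-- The obstruction: a `p'`-element of `N(B)` normalising a `p`-subgroup `P` of `S`, giving a section `F`
together with `P`, and acting on a section of `B ∩ P` by a scalar of order `p - 1`. -/
def Data (p : ℕ) [Fact p.Prime] (S B : Subgroup G) : Prop :=
  ∃ (P : Subgroup G) (n : G), P ≤ S ∧ n ∈ Subgroup.normalizer (P : Set G) ∧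
    n ∈ Subgroup.normalizer (B : Set G) ∧ (orderOf n).Coprime p ∧
    (∃ ψ : ↥(P ⊔ Subgroup.zpowers n) →* ↥(Cfsg.fOver (ZMod p)), Function.Surjective ψ) ∧
    ∃ (A₁ A₂ : Subgroup G) (k : ℕ), A₂ < A₁ ∧ A₁ ≤ B ⊓ P ∧ orderOf (k : ZMod p) = p - 1 ∧
      (∀ a ∈ A₂, n * a * n⁻¹ ∈ A₂) ∧ ∀ a ∈ A₁, a ^ p ∈ A₂ ∧ n * a * n⁻¹ * (a ^ k)⁻¹ ∈ A₂

theorem natCast_pow_prime_pow (k j : ℕ) : ((k ^ p ^ j : ℕ) : ZMod p) = (k : ZMod p) := by
  push_cast
  exact ZMod.pow_card_pow _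

theorem pow_scalar {A₁ A₂ : Subgroup G} {n : G} {k : ℕ} (h2 : ∀ a ∈ A₂, n * a * n⁻¹ ∈ A₂)
    (hsc : ∀ a ∈ A₁, n * a * n⁻¹ * (a ^ k)⁻¹ ∈ A₂) :
    ∀ i : ℕ, ∀ a ∈ A₁, n ^ i * a * (n ^ i)⁻¹ * (a ^ k ^ i)⁻¹ ∈ A₂ := by
  intro i
  induction i with
  | zero => intro a _; simp
  | succ i ih =>
    intro a ha
    have h3 := hsc (a ^ k ^ i) (pow_mem ha _)
    rw [← pow_mul, ← pow_succ] at h3
    have h4 := h2 _ (ih a ha)
    have e : n ^ (i + 1) * a * (n ^ (i + 1))⁻¹ * (a ^ k ^ (i + 1))⁻¹ =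
        (n * (n ^ i * a * (n ^ i)⁻¹ * (a ^ k ^ i)⁻¹) * n⁻¹) *
          (n * a ^ k ^ i * n⁻¹ * (a ^ k ^ (i + 1))⁻¹) := by rw [pow_succ' n i]; group
    rw [e]
    exact A₂.mul_mem h4 h3

/-- `Data` from a `p'`-element `n` and an element of `N(B)` agreeing with it. -/
theorem data_of_agree [Finite G] (hp2 : p ≠ 2) {S B P : Subgroup G} (hS : IsPGroup p S) {n h : G}
    (hPS : P ≤ S) (hn : n ∈ Subgroup.normalizer (P : Set G)) (hncop : (orderOf n).Coprime p)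
    (hh : h ∈ Subgroup.normalizer (B : Set G)) (hag : ∀ x ∈ P, h * x * h⁻¹ = n * x * n⁻¹)
    (hψ : ∃ ψ : ↥(P ⊔ Subgroup.zpowers n) →* ↥(Cfsg.fOver (ZMod p)), Function.Surjective ψ)
    {A₁ A₂ : Subgroup G} {k : ℕ} (hlt : A₂ < A₁) (hA : A₁ ≤ B ⊓ P) (hk : orderOf (k : ZMod p) = p - 1)
    (h2 : ∀ a ∈ A₂, n * a * n⁻¹ ∈ A₂) (hsc : ∀ a ∈ A₁, a ^ p ∈ A₂ ∧ n * a * n⁻¹ * (a ^ k)⁻¹ ∈ A₂) :
    Data p S B := by
  obtain ⟨j, hj⟩ := exists_pow_coprime (p := p) h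
  obtain ⟨ψ, hψ⟩ := hψ
  have hag' : ∀ x ∈ P, h ^ p ^ j * x * (h ^ p ^ j)⁻¹ = n ^ p ^ j * x * (n ^ p ^ j)⁻¹ := agree_pow hn hag _
  have hn' := Subgroup.pow_mem _ hn (p ^ j)
  have e : P ⊔ Subgroup.zpowers (n ^ p ^ j) = P ⊔ Subgroup.zpowers n := by rw [zpowers_pow_eq hncop j]
  obtain ⟨ψ', hψ'⟩ := exists_hom_of_agree hp2 (hS.to_le hPS) hn' (coprime_pow hncop _) hj hag'
    (ψ.comp (MulEquiv.subgroupCongr e).toMonoidHom) (hψ.comp (MulEquiv.subgroupCongr e).surjective)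
  refine ⟨P, h ^ p ^ j, hPS, mem_normalizer_of_agree hn' hag', Subgroup.pow_mem _ hh _, hj, ⟨ψ', hψ'⟩,
    A₁, A₂, k ^ p ^ j, hlt, hA, by rw [natCast_pow_prime_pow, hk], fun a ha => ?_, fun a ha => ⟨(hsc a ha).1, ?_⟩⟩
  · rw [hag' a (hA (hlt.le ha)).2]
    have hn2 : n ∈ Subgroup.normalizer (A₂ : Set G) := mem_normalizer_of_forall h2
    exact (Subgroup.mem_normalizer_iff.1 (Subgroup.pow_mem _ hn2 _) a).1 ha
  · rw [hag' a (hA ha).2]
    exact pow_scalar h2 (fun a ha => (hsc a ha).2) _ a ha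

theorem Data.mono_agree [Finite G] (hp2 : p ≠ 2) {S S' B B' : Subgroup G} (hS : IsPGroup p S) (hS' : S' ≤ S)
    (hB : B' ≤ B) (h : Data p S' B')
    (hctl : ∀ P : Subgroup G, P ≤ S' → ∀ n ∈ Subgroup.normalizer (P : Set G), n ∈ Subgroup.normalizer (B' : Set G) →
      ∃ x ∈ Subgroup.normalizer (B : Set G), ∀ a ∈ P, x * a * x⁻¹ = n * a * n⁻¹) : Data p S B := by
  obtain ⟨P, n, hPS, hnP, hnB, hnc, hψ, A₁, A₂, k, hlt, hA, hk, h2, hsc⟩ := h
  obtain ⟨x, hx, hag⟩ := hctl P hPS n hnP hnB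
  exact data_of_agree hp2 hS (hPS.trans hS') hnP hnc hx hag hψ hlt (hA.trans (inf_le_inf_right P hB)) hk h2 hsc

/-- `Data` moves along a group homomorphism injective on everything. -/
theorem Data.map {X : Type u} [Group X] {S B : Subgroup X} (f : X →* G) (hf : Function.Injective f) (h : Data p S B) :
    Data p (S.map f) (B.map f) := by
  obtain ⟨P, n, hPS, hnP, hnB, hnc, ⟨ψ, hψ⟩, A₁, A₂, k, hlt, hA, hk, h2, hsc⟩ := h
  have e : (P ⊔ Subgroup.zpowers n).map f = P.map f ⊔ Subgroup.zpowers (f n) := by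
    rw [Subgroup.map_sup, MonoidHom.map_zpowers]
  refine ⟨P.map f, f n, Subgroup.map_mono hPS, Subgroup.le_normalizer_map f ⟨n, hnP, rfl⟩,
    Subgroup.le_normalizer_map f ⟨n, hnB, rfl⟩, by rwa [orderOf_injective f hf],
    ⟨ψ.comp (((Subgroup.equivMapOfInjective _ f hf).trans (MulEquiv.subgroupCongr e)).symm).toMonoidHom,
      hψ.comp (((Subgroup.equivMapOfInjective _ f hf).trans (MulEquiv.subgroupCongr e)).symm).surjective⟩,
    A₁.map f, A₂.map f, k, (Subgroup.map_lt_map_iff_of_injective hf).2 hlt, ?_, hk, ?_, ?_⟩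
  · rw [← Subgroup.map_inf _ _ _ hf]; exact Subgroup.map_mono hA
  · rintro _ ⟨a, ha, rfl⟩
    exact ⟨_, h2 a ha, by simp⟩
  · rintro _ ⟨a, ha, rfl⟩
    exact ⟨⟨_, (hsc a ha).1, by simp⟩, ⟨_, (hsc a ha).2, by simp⟩⟩

theorem Data.involves [Finite G] {S B : Subgroup G} (hSB : S ≤ Subgroup.normalizer (B : Set G)) (h : Data p S B) :
    Involves ↥(Cfsg.fOver (ZMod p)) ↥(Subgroup.normalizer (B : Set G)) := by
  obtain ⟨P, n, hPS, -, hnB, -, ⟨ψ, hψ⟩, -⟩ := h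
  have hle : P ⊔ Subgroup.zpowers n ≤ Subgroup.normalizer (B : Set G) :=
    sup_le (hPS.trans hSB) (Subgroup.zpowers_le.2 hnB)
  exact QdSection.involves_of_surjective _ (ψ.comp (Subgroup.subgroupOfEquivOfLe hle).toMonoidHom)
    (hψ.comp (Subgroup.subgroupOfEquivOfLe hle).surjective)

end CfsgLib.ZJFailure
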