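import Cfsg.Agent.Lib.Quadratic.Pair
import Cfsg.Agent.Lib.Local

/-!
A group generated by two quadratic elements on an irreducible module is a subgroup of `SL₂` over a field.
-/

set_option autoImplicit false
set_option linter.unusedSectionVars false
set_option linter.style.haveILetI false

namespace CfsgLib.ZJFailure

open CfsgLib.Dickson
open scoped Matrix

universe w

variable {U : Type w} [AddCommGroup U] [Finite U] {p : ℕ} [hp : Fact p.Prime]

/-- Coordinates for an irreducible non-commuting pair of square-zero endomorphisms. -/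
theorem exists_coords (hpU : ∀ u : U, p • u = 0) {A B : AddMonoid.End U}
    (hA : A * A = 0) (hB : B * B = 0)
    (hirr : ∀ W : AddSubgroup U, (∀ w ∈ W, A w ∈ W) → (∀ w ∈ W, B w ∈ W) → W = ⊥ ∨ W = ⊤)
    (hne : A * B ≠ B * A) :
    ∃ (R : Type w) (_ : Field R) (_ : Finite R) (_ : CharP R p) (f : (Fin 2 → R) →+ U) (c : R),
      Function.Bijective f ∧ c ≠ 0 ∧ (∀ w, A (f w) = f ![c * w 1, 0]) ∧ (∀ w, B (f w) = f ![0, w 0]) := by
  classical
  set c := A * B + B * A with hc
  have hcA : Commute c A := by
    show c * A = A * c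
    rw [hc, add_mul, mul_add, mul_assoc B A A, hA, mul_zero, add_zero, ← mul_assoc A A B, hA, zero_mul,
      zero_add, mul_assoc]
  have hcB : Commute c B := by
    show c * B = B * c
    rw [hc, add_mul, mul_add, mul_assoc A B B, hB, mul_zero, zero_add, ← mul_assoc B B A, hB, zero_mul,
      add_zero, mul_assoc]
  set R := Subring.closure ({c} : Set (AddMonoid.End U)) with hR
  letI : CommRing R := Subring.closureCommRingOfComm (by
    rintro x rfl y rfl; rfl)
  have hcomm : ∀ (r : R) (X : AddMonoid.End U), Commute c X → ∀ u, X ((r : AddMonoid.End U) u) =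
      (r : AddMonoid.End U) (X u) := by
    intro r X hX u
    have h1 : (r : AddMonoid.End U) ∈ Subring.centralizer {X} := by
      refine (Subring.closure_le.2 ?_) r.2
      rintro y rfl
      rintro z rfl
      exact hX.eq.symm
    have h2 : X * (r : AddMonoid.End U) = r * X := h1 X rfl
    exact DFunLike.congr_fun h2 u
  -- Schur
  have hinj : ∀ r : R, r ≠ 0 → ∀ u, (r : AddMonoid.End U) u = 0 → u = 0 := by
    intro r hr u hu
    set W : AddSubgroup U := AddMonoidHom.ker (r : AddMonoid.End U)
    rcases hirr W (fun w hw => by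
        show (r : AddMonoid.End U) (A w) = 0
        rw [← hcomm r A hcA, (show (r : AddMonoid.End U) w = 0 from hw), map_zero])
      (fun w hw => by
        show (r : AddMonoid.End U) (B w) = 0
        rw [← hcomm r B hcB, (show (r : AddMonoid.End U) w = 0 from hw), map_zero]) with h | h
    · exact AddSubgroup.mem_bot.1 (h ▸ (show u ∈ W from hu))
    · refine absurd (Subtype.ext (AddMonoidHom.ext fun v => ?_)) hr
      exact (show v ∈ W from h ▸ AddSubgroup.mem_top v)
  obtain ⟨u₀, hu₀⟩ : ∃ u, A u ≠ 0 := by
    by_contra h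
    push Not at h
    exact hne (by rw [show A = 0 from AddMonoidHom.ext h, zero_mul, mul_zero])
  set e1 := A u₀ with he1
  set e2 := B e1 with he2
  have hA1 : A e1 = 0 := DFunLike.congr_fun hA u₀
  have hB2 : B e2 = 0 := DFunLike.congr_fun hB e1
  have hc1 : c e1 = A e2 := by
    show A (B e1) + B (A e1) = A e2
    rw [hA1, map_zero, add_zero]
  have hcR : c ∈ R := Subring.subset_closure rfl
  -- no non-zero vector is killed by both
  have hkill : ∀ u, A u = 0 → B u = 0 → u = 0 := by
    intro u h1 h2
    by_contra hu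
    set W : AddSubgroup U := AddMonoidHom.ker A ⊓ AddMonoidHom.ker B
    rcases hirr W (fun w hw => by rw [show A w = 0 from hw.1]; exact W.zero_mem)
      (fun w hw => by rw [show B w = 0 from hw.2]; exact W.zero_mem) with h | h
    · exact hu (AddSubgroup.mem_bot.1 (h ▸ (show u ∈ W from ⟨h1, h2⟩)))
    · exact hu₀ ((show u₀ ∈ W from h ▸ AddSubgroup.mem_top u₀).1)
  have hc0 : (⟨c, hcR⟩ : R) ≠ 0 := by
    intro e
    have h0 : c = 0 := congrArg Subtype.val e
    have h2 : A e2 = 0 := by rw [← hc1, h0]; rfl
    exact hu₀ (hkill e1 hA1 (hkill e2 h2 hB2))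
  haveI : Nontrivial R := ⟨⟨⟨c, hcR⟩, 0, hc0⟩⟩
  haveI : NoZeroDivisors R := ⟨fun {r s} h => by
    by_contra hh
    push Not at hh
    refine hh.2 (Subtype.ext (AddMonoidHom.ext fun u => ?_))
    exact hinj r hh.1 _ (DFunLike.congr_fun (congrArg Subtype.val h) u)⟩
  haveI : Finite R := Finite.of_injective (fun r : R => ((r : AddMonoid.End U) : U → U))
    fun r s h => Subtype.ext (DFunLike.coe_injective h)
  haveI : IsDomain R := NoZeroDivisors.to_isDomain R
  letI : Field R := (Finite.isField_of_domain R).toField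
  haveI : CharP R p := (CharP.charP_iff_prime_eq_zero hp.out).2 (Subtype.ext (AddMonoidHom.ext fun u => by
    rw [SubringClass.coe_natCast]
    show (p : AddMonoid.End U) u = 0
    rw [AddMonoid.End.natCast_apply]
    exact hpU u))
  -- coordinates
  set cR : R := ⟨c, hcR⟩ with hcR'
  let f : (Fin 2 → R) →+ U :=
    { toFun := fun w => (w 0 : AddMonoid.End U) e1 + (w 1 : AddMonoid.End U) e2
      map_zero' := by simp
      map_add' := fun v w => by
        simp only [Pi.add_apply, Subring.coe_add]
        show ((v 0 : AddMonoid.End U) e1 + (w 0 : AddMonoid.End U) e1) +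
          ((v 1 : AddMonoid.End U) e2 + (w 1 : AddMonoid.End U) e2) = _
        abel }
  have hfA : ∀ w, A (f w) = f ![cR * w 1, 0] := by
    intro w
    show A ((w 0 : AddMonoid.End U) e1 + (w 1 : AddMonoid.End U) e2) =
      ((cR * w 1 : R) : AddMonoid.End U) e1 + ((0 : R) : AddMonoid.End U) e2
    rw [map_add, hcomm _ A hcA, hcomm _ A hcA, hA1, map_zero, zero_add, ← hc1, mul_comm cR (w 1)]
    simp [hcR']
  have hfB : ∀ w, B (f w) = f ![0, w 0] := by
    intro w
    show B ((w 0 : AddMonoid.End U) e1 + (w 1 : AddMonoid.End U) e2) =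
      ((0 : R) : AddMonoid.End U) e1 + (w 0 : AddMonoid.End U) e2
    rw [map_add, hcomm _ B hcB, hcomm _ B hcB, hB2, map_zero, add_zero]
    simp [he2]
  have hfs : Function.Surjective f := by
    have : f.range = ⊤ := by
      rcases hirr f.range (by rintro _ ⟨w, rfl⟩; exact ⟨_, (hfA w).symm⟩)
        (by rintro _ ⟨w, rfl⟩; exact ⟨_, (hfB w).symm⟩) with h | h
      · exfalso
        have h1 : e1 ∈ f.range := ⟨![1, 0], by simp [f]⟩
        rw [h, AddSubgroup.mem_bot] at h1
        exact hu₀ h1
      · exact h
    exact AddMonoidHom.range_eq_top.1 this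
  have hfi : Function.Injective f := by
    refine (injective_iff_map_eq_zero f).2 fun w hw => ?_
    have hne2 : e2 ≠ 0 := fun e => hu₀ (hkill e1 hA1 e)
    have h1 : (w 1 : AddMonoid.End U) e1 = 0 := by
      have h2 : A (f w) = 0 := by rw [hw, map_zero]
      rw [hfA] at h2
      have h3 : ((cR * w 1 : R) : AddMonoid.End U) e1 = 0 := by simpa [f] using h2
      exact hinj cR hc0 _ h3
    have hw1 : w 1 = 0 := by
      by_contra h
      exact hu₀ (hinj _ h _ h1)
    have hw0 : w 0 = 0 := by
      by_contra h
      have h2 : (w 0 : AddMonoid.End U) e1 = 0 := by simpa [f, hw1] using hw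
      exact hu₀ (hinj _ h _ h2)
    funext i; fin_cases i <;> assumption
  exact ⟨R, inferInstance, inferInstance, inferInstance, f, cR, ⟨hfi, hfs⟩, hc0, hfA, hfB⟩

end CfsgLib.ZJFailure
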