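import Cfsg.Agent.Lib.ZJFailure.Module
import Cfsg.Agent.Lib.ZJFailure.Pair
import Cfsg.Agent.Lib.ZJFailure.Data
import Cfsg.Agent.Lib.ZJ.Theorem
import Cfsg.Agent.Lib.Elementary

/-!
The constrained case: a non-normal piece of `Z(J(S))` produces the obstruction.
-/

set_option autoImplicit false
set_option linter.unusedSectionVars false
set_option linter.style.haveILetI false
set_option maxHeartbeats 800000

namespace CfsgLib.ZJFailure

open Cfsg CfsgLib.StrongFusion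
open scoped Pointwise commutatorElement

universe u

variable {G : Type u} [Group G] [Finite G] {p : ℕ} [hp : Fact p.Prime]

theorem inf_pCore_not_normal (S : Sylow p G) {B : Subgroup G}
    (hBc : ∀ x ∈ B, ∀ y ∈ B, x * y = y * x) (hSB : (S : Subgroup G) ≤ Subgroup.normalizer (B : Set G))
    (hcon : Subgroup.centralizer (pCore p G : Set G) ≤ pCore p G) (hBn : ¬ B.Normal) :
    ¬ (B ⊓ pCore p G).Normal := by
  intro hn
  set Q := pCore p G with hQ
  have hQS : Q ≤ (S : Subgroup G) := pCore_le_sylow S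
  have hQn : Q.Normal := inferInstance
  let N₀ : Subgroup G :=
    { carrier := {g | (∀ q ∈ Q, g * q * g⁻¹ * q⁻¹ ∈ B ⊓ Q) ∧ ∀ d ∈ B ⊓ Q, g * d * g⁻¹ = d}
      one_mem' := ⟨fun q _ => by simp [(B ⊓ Q).one_mem], fun d _ => by simp⟩
      mul_mem' := fun {x y} hx hy => ⟨fun q hq => by
        rw [show x * y * q * (x * y)⁻¹ * q⁻¹ = x * (y * q * y⁻¹ * q⁻¹) * x⁻¹ * (x * q * x⁻¹ * q⁻¹) by group,
          hx.2 _ (hy.1 q hq)]
        exact mul_mem (hy.1 q hq) (hx.1 q hq), fun d hd => by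
        rw [show x * y * d * (x * y)⁻¹ = x * (y * d * y⁻¹) * x⁻¹ by group, hy.2 d hd, hx.2 d hd]⟩
      inv_mem' := fun {x} hx => ⟨fun q hq => by
        rw [show x⁻¹ * q * x⁻¹⁻¹ * q⁻¹ = x⁻¹ * (x * q * x⁻¹ * q⁻¹)⁻¹ * x⁻¹⁻¹ by group]
        exact hn.conj_mem _ (inv_mem (hx.1 q hq)) x⁻¹, fun d hd => by
        conv_lhs => rw [← hx.2 d hd]
        group⟩ }
  haveI hN₀ : N₀.Normal := ⟨fun g hg x => ⟨fun q hq => by
    have h := hn.conj_mem _ (hg.1 _ (hQn.conj_mem q hq x⁻¹)) x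
    rwa [show x * (g * (x⁻¹ * q * x⁻¹⁻¹) * g⁻¹ * (x⁻¹ * q * x⁻¹⁻¹)⁻¹) * x⁻¹ =
      x * g * x⁻¹ * q * (x * g * x⁻¹)⁻¹ * q⁻¹ by group] at h, fun d hd => by
    have h := hg.2 _ (hn.conj_mem d hd x⁻¹)
    calc x * g * x⁻¹ * d * (x * g * x⁻¹)⁻¹ = x * (g * (x⁻¹ * d * x⁻¹⁻¹) * g⁻¹) * x⁻¹ := by group
      _ = d := by rw [h]; group⟩⟩
  have hfix : ∀ h ∈ N₀, (orderOf h).Coprime p → ∀ q ∈ Q, h * q * h⁻¹ = q := by
    intro h hh hc q hq
    set d := h * q * h⁻¹ * q⁻¹ with hd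
    have hdQ : d ∈ B ⊓ Q := hh.1 q hq
    have hiter : ∀ i : ℕ, h ^ i * q * (h ^ i)⁻¹ = d ^ i * q := by
      intro i
      induction i with
      | zero => simp
      | succ i ih =>
        calc h ^ (i + 1) * q * (h ^ (i + 1))⁻¹ = h * (h ^ i * q * (h ^ i)⁻¹) * h⁻¹ := by rw [pow_succ']; group
          _ = (h * d ^ i * h⁻¹) * (h * q * h⁻¹) := by rw [ih]; group
          _ = d ^ i * (d * q) := by rw [hh.2 _ (pow_mem hdQ i), hd]; group
          _ = d ^ (i + 1) * q := by rw [pow_succ]; group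
    have h1 := hiter (orderOf h)
    rw [pow_orderOf_eq_one, one_mul, inv_one, mul_one, eq_comm, mul_eq_right] at h1
    obtain ⟨k, hk⟩ := (S.2.to_le hQS) ⟨d, hdQ.2⟩
    have hd1 : d = 1 := orderOf_eq_one_iff.1 (Nat.eq_one_of_dvd_coprimes (hc.pow_right k)
      (orderOf_dvd_of_pow_eq_one h1) (orderOf_dvd_of_pow_eq_one (congrArg Subtype.val hk)))
    exact mul_inv_eq_one.1 hd1
  have hp0 : IsPGroup p N₀ := by
    intro g
    obtain ⟨j, hj⟩ := exists_pow_coprime (p := p) (g : G)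
    refine ⟨j, Subtype.ext ?_⟩
    have hQ' : (g : G) ^ p ^ j ∈ Q := hcon fun q hq => by
      have h := hfix _ (pow_mem g.2 _) hj q hq
      exact (mul_inv_eq_iff_eq_mul.1 h).symm
    obtain ⟨k, hk⟩ := (S.2.to_le hQS) ⟨_, hQ'⟩
    exact orderOf_eq_one_iff.1 (Nat.eq_one_of_dvd_coprimes (hj.pow_right k) dvd_rfl
      (orderOf_dvd_of_pow_eq_one (congrArg Subtype.val hk)))
  have hle : N₀ ≤ Q := le_pCore hp0
  have hBQ : B ≤ Q := by
    by_contra h
    obtain ⟨b, hb, hbQ⟩ := SetLike.not_le_iff_exists.1 h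
    refine hbQ (hle ⟨fun q hq => ⟨?_, Q.mul_mem (hQn.conj_mem q hq b) (Q.inv_mem hq)⟩, fun d hd => ?_⟩)
    · rw [show b * q * b⁻¹ * q⁻¹ = b * (q * b⁻¹ * q⁻¹) by group]
      exact B.mul_mem hb ((Subgroup.mem_normalizer_iff.1 (hSB (hQS hq)) _).1 (B.inv_mem hb))
    · rw [hBc b hb d hd.1, mul_inv_cancel_right]
  rw [inf_eq_left.2 hBQ] at hn
  exact hBn hn

/-- **The constrained case.** -/
theorem data_of_constrained (hp2 : p ≠ 2) (S : Sylow p G) {B : Subgroup G}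
    (hBZ : B ≤ ZJ.zj 0 (S : Subgroup G)) (hSB : (S : Subgroup G) ≤ Subgroup.normalizer (B : Set G))
    (hNB : Subgroup.normalizer (ZJ.zj 0 (S : Subgroup G) : Set G) ≤ Subgroup.normalizer (B : Set G))
    (hBn : ¬ B.Normal) (hcon : Subgroup.centralizer (pCore p G : Set G) ≤ pCore p G)
    (hover : ∀ M : Subgroup G, (S : Subgroup G) ≤ M → M ≠ ⊤ → ∀ A ≤ (S : Subgroup G), ∀ g ∈ M,
      cm g A ≤ (S : Subgroup G) → ∃ x ∈ Subgroup.normalizer (B : Set G), ∀ a ∈ A, x * a * x⁻¹ = g * a * g⁻¹) :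
    Data p (S : Subgroup G) B := by
  classical
  set P₀ : Subgroup G := (S : Subgroup G) with hP₀
  set Q := pCore p G with hQ
  have hQP : Q ≤ P₀ := pCore_le_sylow S
  have hBc : ∀ x ∈ B, ∀ y ∈ B, x * y = y * x := fun x hx y hy => ZJ.zj_comm (hBZ hx) (hBZ hy)
  obtain ⟨D, ⟨hDn, hDQ, hBD⟩, hmin⟩ := Set.exists_min_image
    {D : Subgroup G | D.Normal ∧ D ≤ Q ∧ ¬ (B ⊓ D).Normal} (fun D => Nat.card D) (Set.toFinite _)
    ⟨Q, inferInstance, le_rfl, inf_pCore_not_normal S hBc hSB hcon hBn⟩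
  haveI := hDn
  have hDP : D ≤ P₀ := hDQ.trans hQP
  have hDp : IsPGroup p D := S.2.to_le hDP
  set A₀ := B ⊓ D with hA₀
  set K := Subgroup.normalizer (A₀ : Set G) with hK
  have hKtop : K ≠ ⊤ := fun h => hBD (Subgroup.normalizer_eq_top_iff.1 h)
  have hBinv : ∀ x ∈ Subgroup.normalizer (B : Set G), x ∈ K := fun x hx =>
    mem_normalizer_of_forall fun a ha => ⟨(Subgroup.mem_normalizer_iff.1 hx a).1 ha.1, hDn.conj_mem a ha.2 x⟩
  have hPK : P₀ ≤ K := fun x hx => hBinv x (hSB hx)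
  have hKover : ∀ M : Subgroup G, P₀ ≤ M → M ≠ ⊤ → M ≤ K := by
    intro M hPM hM g hg
    obtain ⟨x, hx, hxa⟩ := hover M hPM hM D hDP g hg
      ((Local.map_conj_le fun a ha => hDn.conj_mem a ha g).trans hDP)
    refine mem_normalizer_of_forall fun a ha => ?_
    rw [← hxa a ha.2]
    exact (Subgroup.mem_normalizer_iff.1 (hBinv x hx) a).1 ha
  -- `D` is generated by the conjugates of `B ⊓ D`
  have hgen : ∀ T : Subgroup G, (∀ z ∈ A₀, ∀ g : G, g * z * g⁻¹ ∈ T) → D ≤ T := by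
    intro T hT
    set B₁ := Subgroup.normalClosure (A₀ : Set G) with hB₁
    have hB₁le : B₁ ≤ D := Subgroup.normalClosure_le_normal fun x hx => hx.2
    have hB₁eq : B₁ = D := by
      refine Subgroup.eq_of_le_of_card_ge hB₁le (hmin B₁ ⟨inferInstance, hB₁le.trans hDQ, ?_⟩)
      rwa [show B ⊓ B₁ = A₀ from
        le_antisymm (inf_le_inf_left B hB₁le) (le_inf inf_le_left Subgroup.le_normalClosure)]
    rw [← hB₁eq, hB₁, Subgroup.normalClosure, Subgroup.closure_le]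
    intro y hy
    obtain ⟨a, ha, hc⟩ := Group.mem_conjugatesOfSet_iff.mp hy
    obtain ⟨g, rfl⟩ := isConj_iff.mp hc
    exact hT a ha g
  haveI : Group.IsNilpotent D := hDp.isNilpotent
  haveI : Nontrivial D := (Subgroup.nontrivial_iff_ne_bot D).2 fun h => hBD (by
    rw [hA₀, h, inf_bot_eq]; infer_instance)
  set D' : Subgroup G := (_root_.commutator D).map D.subtype with hD'
  have hD'n : D'.Normal := inferInstance
  have hD'le : D' ≤ D := Subgroup.map_subtype_le _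
  have hD'B : (B ⊓ D').Normal := by
    by_contra h
    have heq : D' = D := Subgroup.eq_of_le_of_card_ge hD'le (hmin D' ⟨hD'n, hD'le.trans hDQ, h⟩)
    refine (Group.IsSolvable.commutator_lt_top_of_nontrivial D).ne (Subgroup.map_injective D.subtype_injective ?_)
    rw [← MonoidHom.range_eq_map, Subgroup.range_subtype]
    exact heq
  have hcD' : ∀ b ∈ D, ∀ c ∈ D, ⁅b, c⁆ ∈ D' := fun b hb c hc =>
    ⟨⁅(⟨b, hb⟩ : D), ⟨c, hc⟩⁆, Subgroup.commutator_mem_commutator (Subgroup.mem_top _) (Subgroup.mem_top _),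
      by simp [map_commutatorElement]⟩
  have hcB : ∀ b ∈ D, ∀ c ∈ D, ⁅b, c⁆ ∈ B := by
    intro b hb c hc
    let T : Subgroup G :=
      { carrier := {w | w ∈ D ∧ ∀ c ∈ D, ⁅w, c⁆ ∈ B ⊓ D'}
        one_mem' := ⟨D.one_mem, fun c _ => by rw [commutatorElement_one_left]; exact one_mem _⟩
        mul_mem' := fun {x y} hx hy => ⟨mul_mem hx.1 hy.1, fun c hc => by
          have h : ⁅x * y, c⁆ = x * ⁅y, c⁆ * x⁻¹ * ⁅x, c⁆ := by simp only [commutatorElement_def]; group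
          rw [h]
          exact mul_mem (hD'B.conj_mem _ (hy.2 c hc) x) (hx.2 c hc)⟩
        inv_mem' := fun {x} hx => ⟨inv_mem hx.1, fun c hc => by
          have h : ⁅x⁻¹, c⁆ = x⁻¹ * ⁅x, c⁆⁻¹ * x⁻¹⁻¹ := by simp only [commutatorElement_def]; group
          rw [h]
          exact hD'B.conj_mem _ (inv_mem (hx.2 c hc)) x⁻¹⟩ }
    have hT : D ≤ T := hgen T fun z hz g => by
      refine ⟨hDn.conj_mem z hz.2 g, fun c hc => ?_⟩
      have hd : g⁻¹ * c * g ∈ D := by simpa using hDn.conj_mem c hc g⁻¹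
      have h : ⁅g * z * g⁻¹, c⁆ = g * ⁅z, g⁻¹ * c * g⁆ * g⁻¹ := by simp only [commutatorElement_def]; group
      rw [h]
      refine hD'B.conj_mem _ ⟨?_, hcD' z hz.2 _ hd⟩ g
      have h1 := (Subgroup.mem_normalizer_iff.mp (hSB (hDP hd)) z⁻¹).mp (B.inv_mem hz.1)
      have h2 := B.mul_mem hz.1 h1
      simpa [commutatorElement_def, mul_assoc] using h2
    exact ((hT hb).2 c hc).1
  have hcen : ∀ b ∈ D, ∀ c ∈ D, ∀ d ∈ D, ⁅b, c⁆ * d = d * ⁅b, c⁆ := by
    intro b hb c hc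
    have hB0 : ∀ g : G, g⁻¹ * ⁅b, c⁆ * g ∈ B := fun g => by
      have h := hD'B.conj_mem _ ⟨hcB b hb c hc, hcD' b hb c hc⟩ g⁻¹
      simpa using h.1
    have hT : D ≤ Subgroup.centralizer {⁅b, c⁆} := hgen _ fun z hz g => by
      rw [Subgroup.mem_centralizer_singleton_iff]
      have h := hBc _ (hB0 g) _ hz.1
      calc g * z * g⁻¹ * ⁅b, c⁆ = g * (z * (g⁻¹ * ⁅b, c⁆ * g)) * g⁻¹ := by group
        _ = g * ((g⁻¹ * ⁅b, c⁆ * g) * z) * g⁻¹ := by rw [← h]
        _ = ⁅b, c⁆ * (g * z * g⁻¹) := by group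
    exact fun d hd => (Subgroup.mem_centralizer_singleton_iff.mp (hT hd)).symm
  have hins : ∀ A ∈ ZJ.goodMax 0 P₀, ∀ x ∈ P₀, (∀ a ∈ A, a * x = x * a) → x ∈ A := by
    intro A hA x hx hxA
    set E := Subgroup.closure (insert x (A : Set G)) with hE
    have hEg : ZJ.IsGood 0 E := by
      refine ZJ.isGood_closure ?_ (fun y _ => pow_zero y)
      rintro y (rfl | hy) w (rfl | hw)
      · rfl
      · exact (hxA w hw).symm
      · exact hxA y hy
      · exact hA.2.1.1 y hy w hw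
    have hAE : A ≤ E := fun y hy => Subgroup.subset_closure (Or.inr hy)
    have hEP : E ≤ P₀ := (Subgroup.closure_le P₀).mpr (Set.insert_subset hx hA.1)
    rw [Subgroup.eq_of_le_of_card_ge hAE (hA.2.2 E hEP hEg)]
    exact Subgroup.subset_closure (Set.mem_insert _ _)
  have hcA : ∀ A ∈ ZJ.goodMax 0 P₀, ∀ b ∈ D, ∀ c ∈ D, ⁅b, c⁆ ∈ A := fun A hA b hb c hc =>
    hins A hA _ (ZJ.zj_le 0 _ (hBZ (hcB b hb c hc))) fun a ha => ZJ.zj_commute hA (hBZ (hcB b hb c hc)) ha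
  -- the quadratic elements
  set Ω : Set G := {a | ∀ v ∈ D, a * (a * v * a⁻¹ * v⁻¹) * a⁻¹ = a * v * a⁻¹ * v⁻¹} with hΩ
  have hΩn : ∀ g, ∀ a ∈ Ω, g * a * g⁻¹ ∈ Ω := by
    intro g a ha v hv
    have h := ha (g⁻¹ * v * g) (by simpa using hDn.conj_mem v hv g⁻¹)
    calc g * a * g⁻¹ * (g * a * g⁻¹ * v * (g * a * g⁻¹)⁻¹ * v⁻¹) * (g * a * g⁻¹)⁻¹
        = g * (a * (a * (g⁻¹ * v * g) * a⁻¹ * (g⁻¹ * v * g)⁻¹) * a⁻¹) * g⁻¹ := by group
      _ = g * (a * (g⁻¹ * v * g) * a⁻¹ * (g⁻¹ * v * g)⁻¹) * g⁻¹ := by rw [h]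
      _ = _ := by group
  set L := K.normalCore with hL
  haveI : L.Normal := Subgroup.normalCore_normal _
  have hquad : ∀ A ∈ ZJ.goodMax 0 P₀, D ≤ Subgroup.normalizer (A : Set G) → (A : Set G) ⊆ Ω ∩ (P₀ : Set G) := by
    intro A hA hnorm a ha
    refine ⟨fun v hv => ?_, hA.1 ha⟩
    have h1 : a * v * a⁻¹ * v⁻¹ ∈ A := by
      have h2 := (Subgroup.mem_normalizer_iff.mp (hnorm hv) a⁻¹).mp (A.inv_mem ha)
      have h3 := A.mul_mem ha h2
      rwa [show a * (v * a⁻¹ * v⁻¹) = a * v * a⁻¹ * v⁻¹ by group] at h3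
    rw [hA.2.1.1 a ha _ h1, mul_inv_cancel_right]
  obtain ⟨a₀, ha₀, ha₀L⟩ : ∃ a ∈ Ω ∩ (P₀ : Set G), a ∉ L := by
    by_contra hno
    push Not at hno
    have hfrat : Subgroup.normalizer ((P₀ ⊓ L : Subgroup G) : Set G) ⊔ L = ⊤ := by
      have h := Sylow.normalizer_sup_eq_top (sylowInfNormal S L)
      rwa [coe_sylowInfNormal, Subgroup.subgroupOf_map_subtype] at h
    have hfamily : ∀ n ∈ Subgroup.normalizer ((P₀ ⊓ L : Subgroup G) : Set G),
        ∀ A ∈ ZJ.goodMax 0 P₀, A ≤ L → MulAut.conj n • A ∈ ZJ.goodMax 0 P₀ ∧ MulAut.conj n • A ≤ L := by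
      intro n hn A hA hAL
      have hle : MulAut.conj n • A ≤ P₀ ⊓ L := fun x hx => by
        have h1 := (Subgroup.mem_normalizer_iff.mp hn (n⁻¹ * x * n)).mp
          ⟨hA.1 (mem_conj_smul_iff.mp hx), hAL (mem_conj_smul_iff.mp hx)⟩
        simpa [mul_assoc] using h1
      refine ⟨⟨hle.trans inf_le_left, ?_, fun E hE hEg => ?_⟩, hle.trans inf_le_right⟩
      · rw [Subgroup.pointwise_smul_def]
        exact ZJ.isGood_map _ hA.2.1
      · rw [card_conj_smul]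
        exact hA.2.2 E hE hEg
    by_cases hall : ∀ A ∈ ZJ.goodMax 0 P₀, A ≤ L
    · refine hKtop (top_le_iff.1 (hfrat ▸ sup_le (fun n hn => hBinv n (hNB ?_)) (Subgroup.normalCore_le _)))
      have hJle : ∀ m ∈ Subgroup.normalizer ((P₀ ⊓ L : Subgroup G) : Set G),
          ∀ y ∈ ZJ.thompsonJ 0 P₀, m * y * m⁻¹ ∈ ZJ.thompsonJ 0 P₀ := by
        intro m hm y hy
        have h1 : ZJ.thompsonJ 0 P₀ ≤ (ZJ.thompsonJ 0 P₀).comap (MulAut.conj m).toMonoidHom := by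
          refine sSup_le fun A hA z hz => ?_
          exact ZJ.le_thompsonJ (hfamily m hm A hA (hall A hA)).1
            (mem_conj_smul_iff.mpr (by simpa [mul_assoc] using hz))
        exact h1 hy
      refine mem_normalizer_of_forall fun x hx => ⟨hJle n hn x hx.1, fun y hy => ?_⟩
      have h1 := hx.2 _ (hJle n⁻¹ (inv_mem hn) y hy)
      rw [inv_inv] at h1
      calc y * (n * x * n⁻¹) = n * ((n⁻¹ * y * n) * x) * n⁻¹ := by group
        _ = n * (x * (n⁻¹ * y * n)) * n⁻¹ := by rw [h1]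
        _ = (n * x * n⁻¹) * y := by group
    · push Not at hall
      obtain ⟨A, ⟨hA, hAL⟩, hmax⟩ := Set.exists_max_image
        {A | A ∈ ZJ.goodMax 0 P₀ ∧ ¬ A ≤ L} (fun A => Nat.card ↥(A ⊓ D)) (Set.toFinite _)
        (let ⟨A, hA, hAL⟩ := hall; ⟨A, hA, hAL⟩)
      have hnot : ¬ D ≤ Subgroup.normalizer (A : Set G) := fun h => hAL fun a ha => hno a (hquad A hA h ha)
      obtain ⟨A', hA', hlt, hA'N⟩ := ZJ.replacement hp2 (Or.inl rfl) S.2 hDP (Subgroup.le_normalizer_of_normal ..)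
        hcen hA (hcA A hA) hnot
      have hA'L : A' ≤ L := by
        by_contra h
        exact hlt.ne (Subgroup.eq_of_le_of_card_ge hlt.le (hmax A' ⟨hA', h⟩))
      have hBC : D ≤ Subgroup.centralizer (A' : Set G) := hgen _ fun z hz g y hy => by
        have hg : g ∈ Subgroup.normalizer ((P₀ ⊓ L : Subgroup G) : Set G) ⊔ L := hfrat ▸ Subgroup.mem_top g
        obtain ⟨n, hn, l, hl, rfl⟩ := Subgroup.mem_sup_of_normal_right.mp hg
        set z' := l * z * l⁻¹ with hz'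
        have hz'2 : z' ∈ A₀ := (Subgroup.mem_normalizer_iff.mp (Subgroup.normalCore_le _ hl) z).mp hz
        have hy' : n⁻¹ * y * n ∈ MulAut.conj n⁻¹ • A' :=
          mem_conj_smul_iff.mpr (by simpa [mul_assoc] using hy)
        have h1 := ZJ.zj_commute (hfamily n⁻¹ (inv_mem hn) A' hA' hA'L).1 (hBZ hz'2.1) hy'
        calc y * (n * l * z * (n * l)⁻¹) = n * ((n⁻¹ * y * n) * z') * n⁻¹ := by rw [hz']; group
          _ = n * (z' * (n⁻¹ * y * n)) * n⁻¹ := by rw [h1]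
          _ = (n * l * z * (n * l)⁻¹) * y := by rw [hz']; group
      exact hnot (le_trans (fun b hb => hins A' hA' b (hDP hb) fun a ha => hBC hb a ha) hA'N)
  -- the normalizer of the quadratic elements of `S`
  set Y := Subgroup.closure (Ω ∩ (P₀ : Set G)) with hY
  have hYN : Subgroup.normalizer (Y : Set G) ≤ K := by
    refine hKover _ (fun s hs => mem_normalizer_of_forall fun x hx => ?_) fun htop => ha₀L ?_
    · have h1 : Y ≤ Y.comap (MulAut.conj s).toMonoidHom := (Subgroup.closure_le _).2 fun t ht =>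
        Subgroup.subset_closure ⟨hΩn s t ht.1, mul_mem (mul_mem hs ht.2) (inv_mem hs)⟩
      exact h1 hx
    · haveI : Y.Normal := Subgroup.normalizer_eq_top_iff.1 htop
      have hYQ : Y ≤ Q := le_pCore (S.2.to_le ((Subgroup.closure_le _).2 Set.inter_subset_right))
      exact Subgroup.normal_le_normalCore.2 (hQP.trans hPK) (hYQ (Subgroup.subset_closure ha₀))
  obtain ⟨q, q', L', P, hq, hq', hgenL, hPS, hPL, hidx, hfix, hmove⟩ := exists_pair S Ω hΩn hKtop hYN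
  obtain ⟨PF, n, A₁, A₂, k, hPFS, -, hnA, hnPF, hnc, hψ, hlt, hA₁, hk, h2, hsc⟩ :=
    (Moved.mk S.2 hDn hDP inf_le_right hPK hgenL hq hq' hPS hPL hidx hfix hmove :
      Moved p P₀ D A₀ q q' L' P).exists_config hp2
  obtain ⟨x, hx, hag⟩ := hover K hPK hKtop PF hPFS n hnA ((Local.map_conj_eq_of_mem_normalizer hnPF).le.trans hPFS)
  exact data_of_agree hp2 S.2 hPFS hnPF hnc hx hag hψ hlt (hA₁.trans (inf_le_inf_right PF inf_le_left)) hk h2 hsc

end CfsgLib.ZJFailure
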