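import Cfsg.Agent.Lib.ZJFailure.Data
import Mathlib.Algebra.Module.ZMod

/-!
A section `F` from a plane on which a `p'`-element and a commuting unipotent element act.
-/

set_option autoImplicit false
set_option linter.unusedSectionVars false
set_option linter.style.haveILetI false
set_option maxHeartbeats 800000

namespace CfsgLib.ZJFailure

open Cfsg

universe u

variable {G : Type u} [Group G] [Finite G] {p : ℕ} [hp : Fact p.Prime]

local notation "SL3" => Matrix.SpecialLinearGroup (Fin 3) (ZMod p)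

/-- **The section `F`.** -/
theorem exists_psi (hp2 : p ≠ 2) {S E N P : Subgroup G} (hPS : P ≤ S) (hES : E ≤ S) (hle : N ≤ E)
    (hcomm : ∀ a ∈ E, ∀ b ∈ E, a * b * a⁻¹ * b⁻¹ ∈ N) (hpow : ∀ a ∈ E, a ^ p ∈ N)
    (hPN : P ≤ Subgroup.normalizer (E : Set G) ⊓ Subgroup.normalizer (N : Set G))
    {n z u e1 e2 : G} {k k' : ℕ} (hnE : n ∈ Subgroup.normalizer (E : Set G))
    (hnN : n ∈ Subgroup.normalizer (N : Set G)) (hnP : n ∈ Subgroup.normalizer (P : Set G))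
    (hk : orderOf (k : ZMod p) = p - 1) (hkk : (k : ZMod p) * k' = 1)
    (hnz : n * z = z * n) (hzn : z ∈ Subgroup.normalizer (E : Set G))
    (hzneg : ∀ e ∈ E, z * e * z⁻¹ * e ∈ N)
    (hu : u ∈ P) (huz : z * u * z⁻¹ = u)
    (he1 : e1 ∈ E) (he2 : e2 ∈ E) (he1N : e1 ∉ N)
    (hu1 : u * e1 * u⁻¹ * e1⁻¹ ∈ N) (hu2 : u * e2 * u⁻¹ * (e1 * e2)⁻¹ ∈ N)
    (hn1 : n * e1 * n⁻¹ * (e1 ^ k)⁻¹ ∈ N) (hn2 : n * e2 * n⁻¹ * (e2 ^ k')⁻¹ ∈ N)
    (hnu : ∀ e ∈ E, n * u * n⁻¹ * e * (n * u * n⁻¹)⁻¹ * (u ^ (k * k) * e * (u ^ (k * k))⁻¹)⁻¹ ∈ N) :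
    ∃ PF : Subgroup G, PF ≤ S ∧ N ≤ PF ∧ e1 ∈ PF ∧ n ∈ Subgroup.normalizer (PF : Set G) ∧
      ∃ ψ : ↥(PF ⊔ Subgroup.zpowers n) →* FF p, Function.Surjective ψ := by
  classical
  haveI hn : (N.subgroupOf E).Normal := ⟨fun a ha b => by
    rw [Subgroup.mem_subgroupOf] at ha ⊢
    have h := N.mul_mem (hcomm b b.2 a (hle ha)) ha
    simpa using h⟩
  letI : CommGroup (E ⧸ N.subgroupOf E) :=
    { (inferInstance : Group (E ⧸ N.subgroupOf E)) with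
      mul_comm := fun s t => by
        obtain ⟨s, rfl⟩ := QuotientGroup.mk_surjective s
        obtain ⟨t, rfl⟩ := QuotientGroup.mk_surjective t
        rw [← QuotientGroup.mk_mul, ← QuotientGroup.mk_mul, QuotientGroup.eq, Subgroup.mem_subgroupOf]
        have h1 := hcomm _ (E.inv_mem t.2) _ (E.inv_mem s.2)
        simpa [mul_assoc] using h1 }
  let cls : E → Additive (E ⧸ N.subgroupOf E) := fun m => Additive.ofMul (QuotientGroup.mk m)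
  have hcls : Function.Surjective cls := fun x => by
    obtain ⟨m, hm⟩ := QuotientGroup.mk_surjective x.toMul
    exact ⟨m, congrArg Additive.ofMul hm⟩
  have hclsadd : ∀ a b, cls (a * b) = cls a + cls b := fun _ _ => rfl
  have hzero : ∀ a : E, cls a = 0 ↔ (a : G) ∈ N := fun a => by
    show Additive.ofMul _ = Additive.ofMul (1 : E ⧸ N.subgroupOf E) ↔ _
    rw [Additive.ofMul.injective.eq_iff, QuotientGroup.eq_one_iff, Subgroup.mem_subgroupOf]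
  have heq' : ∀ {a b : E}, (a : G) * (b : G)⁻¹ ∈ N → cls a = cls b := fun {a b} h => by
    rw [show (a : G) * (b : G)⁻¹ = ((a * b⁻¹ : E) : G) from rfl, ← hzero, hclsadd,
      show cls b⁻¹ = - cls b from rfl, add_neg_eq_zero] at h
    exact h
  have hclspow : ∀ (i : ℕ) a, cls (a ^ i) = i • cls a := fun i a => by
    show Additive.ofMul ((QuotientGroup.mk (a ^ i) : E ⧸ N.subgroupOf E)) = _
    rw [QuotientGroup.mk_pow, ofMul_pow]
  have hpU : ∀ x : Additive (E ⧸ N.subgroupOf E), p • x = 0 := fun x => by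
    obtain ⟨m, rfl⟩ := hcls x
    rw [← hclspow, hzero]
    exact hpow m m.2
  letI : Module (ZMod p) (Additive (E ⧸ N.subgroupOf E)) := AddCommGroup.zmodModule hpU
  set v1 := cls ⟨e1, he1⟩ with hv1
  set v2 := cls ⟨e2, he2⟩ with hv2
  -- the action of the normalizer of the section
  set Γ₀ := Subgroup.normalizer (E : Set G) ⊓ Subgroup.normalizer (N : Set G) with hΓ₀
  let φ : Γ₀ →* AddMonoid.End (Additive (E ⧸ N.subgroupOf E)) :=
    { toFun := fun g => MonoidHom.toAdditive (Quadratic.sectionEnd (g : G)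
        (fun m hm => conj_mem (inf_le_left : Γ₀ ≤ _) g.2 hm) (fun m hm => conj_mem (inf_le_right : Γ₀ ≤ _) g.2 hm))
      map_one' := by
        refine AddMonoidHom.ext fun x => ?_
        obtain ⟨m, rfl⟩ := hcls x
        exact congrArg Additive.ofMul (congrArg QuotientGroup.mk (Subtype.ext (by simp)))
      map_mul' := fun g h => by
        refine AddMonoidHom.ext fun x => ?_
        obtain ⟨m, rfl⟩ := hcls x
        exact congrArg Additive.ofMul (congrArg QuotientGroup.mk (Subtype.ext (by simp [mul_assoc]))) }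
  have hφ : ∀ (g : Γ₀) (m : E), φ g (cls m) =
      cls ⟨g * m * (g : G)⁻¹, conj_mem (inf_le_left : Γ₀ ≤ _) g.2 m.2⟩ := fun _ _ => rfl
  have huΓ : u ∈ Γ₀ := hPN hu
  have hnΓ : n ∈ Γ₀ := ⟨hnE, hnN⟩
  have hu1' : φ ⟨u, huΓ⟩ v1 = v1 := by rw [hv1, hφ]; exact heq' hu1
  have hu2' : φ ⟨u, huΓ⟩ v2 = v1 + v2 := by rw [hv1, hv2, hφ, ← hclsadd]; exact heq' hu2
  have hn1' : φ ⟨n, hnΓ⟩ v1 = (k : ZMod p) • v1 := by
    rw [Nat.cast_smul_eq_nsmul, hv1, hφ, ← hclspow]; exact heq' (by simpa using hn1)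
  have hn2' : φ ⟨n, hnΓ⟩ v2 = (k' : ZMod p) • v2 := by
    rw [Nat.cast_smul_eq_nsmul, hv2, hφ, ← hclspow]; exact heq' (by simpa using hn2)
  have hv10 : v1 ≠ 0 := fun h => he1N ((hzero _).1 h)
  have hcancel : ∀ {c : ZMod p}, c • v1 = 0 → c = 0 := fun {c} hc => by
    by_contra h
    refine hv10 ?_
    rw [← one_smul (ZMod p) v1, ← inv_mul_cancel₀ h, mul_smul, hc, smul_zero]
  let ν : ZMod p → ZMod p → Additive (E ⧸ N.subgroupOf E) := fun a b => a • v1 + b • v2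
  have hνinj : ∀ a b a' b', ν a b = ν a' b' → a = a' ∧ b = b' := by
    intro a b a' b' h
    have h0 : (a - a') • v1 + (b - b') • v2 = 0 := by
      have h' : ν a b - ν a' b' = 0 := sub_eq_zero.2 h
      rw [← h']; simp only [ν, sub_smul]; abel
    have h1 := congrArg (φ ⟨u, huΓ⟩) h0
    rw [map_add, ZMod.map_smul, ZMod.map_smul, hu1', hu2', smul_add, map_zero] at h1
    have hb : (b - b') • v1 = 0 := by
      have h2 : (a - a') • v1 + ((b - b') • v1 + (b - b') • v2) =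
          (b - b') • v1 + ((a - a') • v1 + (b - b') • v2) := by abel
      rw [h2, h0, add_zero] at h1
      exact h1
    have hb' := sub_eq_zero.1 (hcancel hb)
    rw [hb', sub_self, zero_smul, add_zero] at h0
    exact ⟨sub_eq_zero.1 (hcancel h0), hb'⟩
  let Good : G → SL3 → Prop := fun γ M => ∃ hγ : γ ∈ Γ₀,
    (∀ a b, φ ⟨γ, hγ⟩ (ν a b) = ν (M.1 0 0 * a + M.1 0 1 * b) (M.1 1 1 * b)) ∧
      ∃ ht : γ * z * γ⁻¹ * z⁻¹ ∈ E, cls ⟨_, ht⟩ = ν (2 * M.1 0 2) (2 * M.1 1 2)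
  have hgone : Good 1 1 := by
    refine ⟨one_mem _, fun a b => ?_, by simp, ?_⟩
    · rw [show (⟨1, one_mem Γ₀⟩ : Γ₀) = 1 from rfl, map_one]
      simp [ν]
    · rw [(hzero _).2 (by simp [N.one_mem])]
      simp [ν]
  have hgmul : ∀ {γ δ : G} {M M' : SL3}, M ∈ fOver (ZMod p) → M' ∈ fOver (ZMod p) → Good γ M → Good δ M' →
      Good (γ * δ) (M * M') := by
    rintro γ δ M M' hM hM' ⟨hγ, hγl, hγt, hγT⟩ ⟨hδ, hδl, hδt, hδT⟩
    obtain ⟨a1, a2, a3, a4⟩ := fOver_shape hM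
    obtain ⟨b1, b2, b3, b4⟩ := fOver_shape hM'
    refine ⟨mul_mem hγ hδ, fun a b => ?_, ?_⟩
    · rw [show (⟨γ * δ, mul_mem hγ hδ⟩ : Γ₀) = ⟨γ, hγ⟩ * ⟨δ, hδ⟩ from rfl, map_mul]
      show φ ⟨γ, hγ⟩ (φ ⟨δ, hδ⟩ _) = _
      rw [hδl, hγl]
      congr 1 <;> simp [Matrix.mul_apply, Fin.sum_univ_three, a1, b1, b2, b3] <;> ring
    have e : γ * δ * z * (γ * δ)⁻¹ * z⁻¹ = γ * (δ * z * δ⁻¹ * z⁻¹) * γ⁻¹ * (γ * z * γ⁻¹ * z⁻¹) := by group
    have hc : γ * (δ * z * δ⁻¹ * z⁻¹) * γ⁻¹ ∈ E := conj_mem (inf_le_left : Γ₀ ≤ _) hγ hδt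
    refine ⟨e ▸ E.mul_mem hc hγt, ?_⟩
    rw [show (⟨γ * δ * z * (γ * δ)⁻¹ * z⁻¹, e ▸ E.mul_mem hc hγt⟩ : E) = ⟨_, hc⟩ * ⟨_, hγt⟩ from Subtype.ext e,
      hclsadd, ← hφ ⟨γ, hγ⟩ ⟨_, hδt⟩, hδT, hγT, hγl]
    simp only [ν, Matrix.SpecialLinearGroup.coe_mul, Matrix.mul_apply, Fin.sum_univ_three, a1, b4]
    module
  have hguniq : ∀ {γ : G} {M M' : SL3}, M ∈ fOver (ZMod p) → M' ∈ fOver (ZMod p) → Good γ M → Good γ M' →
      M = M' := by
    rintro γ M M' hM hM' ⟨hγ, hl, ht, hT⟩ ⟨hγ', hl', ht', hT'⟩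
    obtain ⟨a1, a2, a3, a4⟩ := fOver_shape hM
    obtain ⟨b1, b2, b3, b4⟩ := fOver_shape hM'
    have h10 := hνinj _ _ _ _ ((hl 1 0).symm.trans (hl' 1 0))
    have h01 := hνinj _ _ _ _ ((hl 0 1).symm.trans (hl' 0 1))
    have hT2 := hνinj _ _ _ _ (hT.symm.trans hT')
    simp at h10 h01
    haveI : NeZero (2 : ZMod p) := ⟨Ring.two_ne_zero (by rwa [ringChar.eq (ZMod p) p])⟩
    refine Subtype.ext (Matrix.ext fun i j => ?_)
    fin_cases i <;> fin_cases j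
    · exact h10
    · exact h01.1
    · exact mul_left_cancel₀ two_ne_zero hT2.1
    · exact a1.trans b1.symm
    · exact h01.2
    · exact mul_left_cancel₀ two_ne_zero hT2.2
    · exact a2.trans b2.symm
    · exact a3.trans b3.symm
    · exact a4.trans b4.symm
  let R : Submonoid G :=
    { carrier := {γ | ∃ M ∈ fOver (ZMod p), Good γ M}
      one_mem' := ⟨1, one_mem _, hgone⟩
      mul_mem' := fun {γ δ} ⟨M, hM, h⟩ ⟨M', hM', h'⟩ => ⟨M * M', mul_mem hM hM', hgmul hM hM' h h'⟩ }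
  -- the matrices
  let Tm : ZMod p → ZMod p → SL3 := fun c d => ⟨!![1, 0, c; 0, 1, d; 0, 0, 1], by simp [Matrix.det_fin_three]⟩
  let Um : ZMod p → SL3 := fun s => ⟨!![1, s, 0; 0, 1, 0; 0, 0, 1], by simp [Matrix.det_fin_three]⟩
  let Dm : SL3 := ⟨!![(k : ZMod p), 0, 0; 0, (k' : ZMod p), 0; 0, 0, 1], by simp [Matrix.det_fin_three, hkk]⟩
  have hTmF : ∀ c d, Tm c d ∈ fOver (ZMod p) := fun c d => Subgroup.subset_closure ⟨rfl, rfl, rfl, rfl⟩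
  have hUmF : ∀ s, Um s ∈ fOver (ZMod p) := fun s => Subgroup.subset_closure ⟨rfl, rfl, rfl, rfl⟩
  have hDmF : Dm ∈ fOver (ZMod p) := Subgroup.subset_closure ⟨rfl, rfl, rfl, rfl⟩
  -- the plane
  let Y : Subgroup G :=
    { carrier := {y | ∃ hy : y ∈ E, ∃ a b, cls ⟨y, hy⟩ = ν a b}
      one_mem' := ⟨E.one_mem, 0, 0, by rw [(hzero ⟨1, E.one_mem⟩).2 N.one_mem]; simp [ν]⟩
      mul_mem' := fun {x y} ⟨hx, a, b, h⟩ ⟨hy, c, d, h'⟩ => ⟨E.mul_mem hx hy, a + c, b + d, by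
        rw [show (⟨x * y, E.mul_mem hx hy⟩ : E) = ⟨x, hx⟩ * ⟨y, hy⟩ from rfl, hclsadd, h, h']
        simp only [ν]; module⟩
      inv_mem' := fun {x} ⟨hx, a, b, h⟩ => ⟨E.inv_mem hx, -a, -b, by
        rw [show (⟨x⁻¹, E.inv_mem hx⟩ : E) = ⟨x, hx⟩⁻¹ from rfl]
        show - cls ⟨x, hx⟩ = _
        rw [h]; simp only [ν]; module⟩ }
  have hNY : N ≤ Y := fun a ha => ⟨hle ha, 0, 0, by rw [(hzero ⟨a, hle ha⟩).2 ha]; simp [ν]⟩
  have hEΓ : E ≤ Γ₀ := le_inf Subgroup.le_normalizer fun e he => mem_normalizer_of_forall fun a ha => by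
    have h := N.mul_mem (hcomm e he a (hle ha)) ha
    simpa using h
  have hgY : ∀ y ∈ Y, ∀ (a b : ZMod p) (hy : y ∈ E), cls ⟨y, hy⟩ = ν a b → Good y (Tm a b) := by
    intro y _ a b hy h
    refine ⟨hEΓ hy, fun c d => ?_, ?_⟩
    · obtain ⟨w, hw⟩ := hcls (ν c d)
      rw [← hw, hφ, heq' (a := ⟨y * w * y⁻¹, conj_mem (inf_le_left : Γ₀ ≤ _) (hEΓ hy) w.2⟩) (b := w)
        (hcomm y hy w w.2), hw]
      simp [Tm]
    · have hzy : z * y⁻¹ * z⁻¹ ∈ E := (Subgroup.mem_normalizer_iff.1 hzn y⁻¹).1 (E.inv_mem hy)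
      have e : y * z * y⁻¹ * z⁻¹ = y * (z * y⁻¹ * z⁻¹) := by group
      refine ⟨e ▸ E.mul_mem hy hzy, ?_⟩
      rw [show (⟨y * z * y⁻¹ * z⁻¹, e ▸ E.mul_mem hy hzy⟩ : E) = ⟨y, hy⟩ * ⟨_, hzy⟩ from Subtype.ext e, hclsadd,
        heq' (a := ⟨z * y⁻¹ * z⁻¹, hzy⟩) (b := ⟨y, hy⟩) (by
          have := hzneg y⁻¹ (E.inv_mem hy)
          simpa using this), h]
      simp only [ν, Tm]
      simp
      module
  -- powers of `u`
  have hupow : ∀ (i : ℕ) a b, φ (⟨u, huΓ⟩ ^ i) (ν a b) = ν (a + (i : ZMod p) * b) b := by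
    intro i
    induction i with
    | zero => intro a b; simp [ν]
    | succ i ih =>
      intro a b
      rw [pow_succ', map_mul]
      show φ ⟨u, huΓ⟩ (φ (⟨u, huΓ⟩ ^ i) (ν a b)) = _
      rw [ih]
      simp only [ν, map_add, ZMod.map_smul, hu1', hu2']
      push_cast
      module
  let Pu : Subgroup G :=
    { carrier := {x | x ∈ P ∧ z * x * z⁻¹ = x ∧ ∃ hx : x ∈ Γ₀, ∃ i : ℕ, φ ⟨x, hx⟩ = φ (⟨u, huΓ⟩ ^ i)}
      one_mem' := ⟨P.one_mem, by simp, one_mem _, 0, by rw [pow_zero]; rfl⟩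
      mul_mem' := fun {x y} ⟨hx, hxz, hxΓ, i, hi⟩ ⟨hy, hyz, hyΓ, j, hj⟩ => ⟨P.mul_mem hx hy, by
          rw [show z * (x * y) * z⁻¹ = (z * x * z⁻¹) * (z * y * z⁻¹) by group, hxz, hyz],
        mul_mem hxΓ hyΓ, i + j, by
          rw [show (⟨x * y, mul_mem hxΓ hyΓ⟩ : Γ₀) = ⟨x, hxΓ⟩ * ⟨y, hyΓ⟩ from rfl, map_mul, hi, hj, ← map_mul,
            pow_add]⟩
      inv_mem' := fun {x} ⟨hx, hxz, hxΓ, i, hi⟩ => ⟨P.inv_mem hx, by
          calc z * x⁻¹ * z⁻¹ = (z * x * z⁻¹)⁻¹ := by group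
            _ = x⁻¹ := by rw [hxz],
        inv_mem hxΓ, i * (orderOf (⟨x, hxΓ⟩ : Γ₀) - 1), by
          rw [pow_mul, map_pow φ (_ ^ i), ← hi, ← map_pow]
          congr 1
          have h1 : (⟨x, hxΓ⟩ : Γ₀) * (⟨x, hxΓ⟩ : Γ₀) ^ (orderOf (⟨x, hxΓ⟩ : Γ₀) - 1) = 1 := by
            rw [← pow_succ', Nat.sub_add_cancel (orderOf_pos _), pow_orderOf_eq_one]
          exact inv_eq_of_mul_eq_one_right h1⟩ }
  have hgP : ∀ x ∈ Pu, ∃ s, Good x (Um s) := by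
    rintro x ⟨-, hxz, hxΓ, i, hi⟩
    have h1 : x * z * x⁻¹ * z⁻¹ = 1 := by
      calc x * z * x⁻¹ * z⁻¹ = x * (z * x * z⁻¹)⁻¹ := by group
        _ = 1 := by rw [hxz, mul_inv_cancel]
    refine ⟨(i : ZMod p), hxΓ, fun a b => ?_, h1 ▸ E.one_mem, ?_⟩
    · rw [hi, hupow]; simp [Um]
    · rw [(hzero _).2 (show x * z * x⁻¹ * z⁻¹ ∈ N from h1 ▸ N.one_mem)]
      simp [ν, Um]
  have hgn : Good n Dm := by
    have h1 : n * z * n⁻¹ * z⁻¹ = 1 := by rw [hnz]; group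
    refine ⟨hnΓ, fun a b => ?_, h1 ▸ E.one_mem, ?_⟩
    · simp only [ν, map_add, ZMod.map_smul, hn1', hn2']
      simp [Dm]
      module
    · rw [(hzero _).2 (show n * z * n⁻¹ * z⁻¹ ∈ N from h1 ▸ N.one_mem)]
      simp [ν, Dm]
  have hupu : u ∈ Pu := ⟨hu, huz, huΓ, 1, by rw [pow_one]⟩
  -- `n` normalises both
  have hnY : ∀ y ∈ Y, n * y * n⁻¹ ∈ Y := by
    rintro y ⟨hy, a, b, h⟩
    obtain ⟨hnΓ', hl, hT⟩ := id hgn
    exact ⟨conj_mem (inf_le_left : Γ₀ ≤ _) hnΓ hy, _, _,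
      (hφ ⟨n, hnΓ⟩ ⟨y, hy⟩).symm.trans ((congrArg (φ ⟨n, hnΓ⟩) h).trans (hl a b))⟩
  have hnPu : ∀ x ∈ Pu, n * x * n⁻¹ ∈ Pu := by
    rintro x ⟨hx, hxz, hxΓ, i, hi⟩
    refine ⟨(Subgroup.mem_normalizer_iff.1 hnP x).1 hx, ?_, mul_mem (mul_mem hnΓ hxΓ) (inv_mem hnΓ), k * k * i, ?_⟩
    · have h : Commute z n := hnz.symm
      calc z * (n * x * n⁻¹) * z⁻¹ = (z * n) * x * (z * n)⁻¹ := by group
        _ = n * (z * x * z⁻¹) * n⁻¹ := by rw [h.eq]; group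
        _ = n * x * n⁻¹ := by rw [hxz]
    · have hnu' : φ (⟨n, hnΓ⟩ * ⟨u, huΓ⟩ * ⟨n, hnΓ⟩⁻¹) = φ (⟨u, huΓ⟩ ^ (k * k)) := by
        refine AddMonoidHom.ext fun v => ?_
        obtain ⟨w, rfl⟩ := hcls v
        refine (hφ _ _).trans (Eq.trans ?_ (hφ _ _).symm)
        exact heq' (by simpa using hnu w w.2)
      rw [pow_mul, map_pow, ← hnu', ← map_pow, conj_pow, map_mul, map_mul, ← hi, ← map_mul, ← map_mul]
      rfl
  refine ⟨Y ⊔ Pu, sup_le (fun y hy => hES hy.1) (fun x hx => hPS hx.1), hNY.trans le_sup_left,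
    Subgroup.mem_sup_left ⟨he1, 1, 0, by simp [ν, hv1]⟩, mem_normalizer_of_forall ?_, ?_⟩
  · have hle' : Y ⊔ Pu ≤ (Y ⊔ Pu).comap (MulAut.conj n).toMonoidHom :=
      sup_le (fun y hy => Subgroup.mem_sup_left (hnY y hy)) (fun x hx => Subgroup.mem_sup_right (hnPu x hx))
    exact fun x hx => hle' hx
  set Γ := Y ⊔ Pu ⊔ Subgroup.zpowers n with hΓ
  have hall : ∀ γ ∈ Γ, ∃ M ∈ fOver (ZMod p), Good γ M := by
    intro γ hγ
    have hc : Γ ≤ Subgroup.closure ((Y : Set G) ∪ Pu ∪ {n}) :=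
      sup_le (sup_le (fun y hy => Subgroup.subset_closure (Or.inl (Or.inl hy)))
        (fun x hx => Subgroup.subset_closure (Or.inl (Or.inr hx))))
        (Subgroup.zpowers_le.2 (Subgroup.subset_closure (Or.inr rfl)))
    have hγ' : γ ∈ Submonoid.closure ((Y : Set G) ∪ Pu ∪ {n}) := by
      rw [← Subgroup.closure_toSubmonoid_of_finite]; exact hc hγ
    refine (Submonoid.closure_le.2 ?_ : _ ≤ R) hγ'
    rintro x ((hx | hx) | hx)
    · obtain ⟨hxE, a, b, h⟩ := hx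
      exact ⟨_, hTmF a b, hgY x ⟨hxE, a, b, h⟩ a b hxE h⟩
    · obtain ⟨s, hs⟩ := hgP x hx
      exact ⟨_, hUmF s, hs⟩
    · rw [Set.mem_singleton_iff] at hx
      rw [hx]
      exact ⟨_, hDmF, hgn⟩
  choose Mf hMfF hMfG using fun γ : Γ => hall γ γ.2
  let ψ : Γ →* FF p := MonoidHom.mk' (fun γ => ⟨Mf γ, hMfF γ⟩) fun γ δ => Subtype.ext
    (hguniq (hMfF _) (mul_mem (hMfF γ) (hMfF δ)) (hMfG (γ * δ)) (hgmul (hMfF γ) (hMfF δ) (hMfG γ) (hMfG δ)))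
  refine ⟨ψ, fun f => ?_⟩
  have himg : ∀ (x : G) (hx : x ∈ Γ) (M : SL3) (hM : M ∈ fOver (ZMod p)), Good x M → (⟨M, hM⟩ : FF p) ∈ ψ.range :=
    fun x hx M hM hG => ⟨⟨x, hx⟩, Subtype.ext (hguniq (hMfF _) hM (hMfG ⟨x, hx⟩) hG)⟩
  have hT : ∀ c d, (⟨Tm c d, hTmF c d⟩ : FF p) ∈ ψ.range := by
    intro c d
    obtain ⟨w, hw⟩ := hcls (ν c d)
    exact himg w (Subgroup.mem_sup_left (Subgroup.mem_sup_left ⟨w.2, c, d, hw⟩)) _ _
      (hgY w ⟨w.2, c, d, hw⟩ c d w.2 hw)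
  have hU : (⟨Um 1, hUmF 1⟩ : FF p) ∈ ψ.range := by
    have hgu : Good u (Um 1) := by
      refine ⟨huΓ, fun a b => ?_, ?_⟩
      · have h := hupow 1 a b
        rw [pow_one] at h
        rw [h]; simp [Um]
      · have h1 : u * z * u⁻¹ * z⁻¹ = 1 := by
          calc u * z * u⁻¹ * z⁻¹ = u * (z * u * z⁻¹)⁻¹ := by group
            _ = 1 := by rw [huz, mul_inv_cancel]
        refine ⟨h1 ▸ E.one_mem, ?_⟩
        rw [(hzero _).2 (show u * z * u⁻¹ * z⁻¹ ∈ N from h1 ▸ N.one_mem)]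
        simp [ν, Um]
    exact himg u (Subgroup.mem_sup_left (Subgroup.mem_sup_right hupu)) _ _ hgu
  have hD : (⟨Dm, hDmF⟩ : FF p) ∈ ψ.range := himg n (Subgroup.mem_sup_right (Subgroup.mem_zpowers n)) _ _ hgn
  obtain ⟨a1, a2, a3, a4⟩ := fOver_shape f.2
  have hdet : (f : SL3).1 0 0 * (f : SL3).1 1 1 = 1 := by
    have h := (f : SL3).2
    rw [Matrix.det_fin_three, a1, a2, a3, a4] at h
    linear_combination h
  -- powers of `k` exhaust the units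
  obtain ⟨i, hi⟩ : ∃ i : ℕ, (k : ZMod p) ^ i = (f : SL3).1 0 0 := by
    have hk0 : (k : ZMod p) ≠ 0 := left_ne_zero_of_mul_eq_one hkk
    have htop : Subgroup.zpowers (Units.mk0 _ hk0) = ⊤ := Subgroup.eq_top_of_card_eq _ (by
      rw [Nat.card_zpowers, ← orderOf_units, Units.val_mk0, hk, Nat.card_eq_fintype_card, ZMod.card_units])
    obtain ⟨i, hi⟩ := mem_powers_iff_mem_zpowers.2
      (htop.ge (Subgroup.mem_top (Units.mk0 _ (left_ne_zero_of_mul_eq_one hdet))))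
    exact ⟨i, by simpa using congrArg Units.val hi⟩
  have hpowU : ∀ j : ℕ, (Um 1 ^ j).1 = !![1, (j : ZMod p), 0; 0, 1, 0; 0, 0, 1] := by
    intro j
    induction j with
    | zero => ext a b; fin_cases a <;> fin_cases b <;> simp
    | succ j ih =>
      rw [pow_succ, Matrix.SpecialLinearGroup.coe_mul, ih]
      ext a b
      fin_cases a <;> fin_cases b <;> simp [Um, Matrix.mul_apply, Fin.sum_univ_three, add_comm]
  have hpowD : ∀ j : ℕ, (Dm ^ j).1 = !![(k : ZMod p) ^ j, 0, 0; 0, (k' : ZMod p) ^ j, 0; 0, 0, 1] := by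
    intro j
    induction j with
    | zero => ext a b; fin_cases a <;> fin_cases b <;> simp
    | succ j ih =>
      rw [pow_succ, Matrix.SpecialLinearGroup.coe_mul, ih]
      ext a b
      fin_cases a <;> fin_cases b <;> simp [Dm, Matrix.mul_apply, Fin.sum_univ_three, pow_succ]
  set j := ((f : SL3).1 1 1 * (f : SL3).1 0 1).val with hj
  have hk'i : (k' : ZMod p) ^ i = (f : SL3).1 1 1 := by
    have h : (k : ZMod p) ^ i * (k' : ZMod p) ^ i = 1 := by rw [← mul_pow, hkk, one_pow]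
    rw [hi] at h
    exact mul_left_cancel₀ (left_ne_zero_of_mul_eq_one hdet) (h.trans hdet.symm)
  have hprod := mul_mem (hT ((f : SL3).1 0 2) ((f : SL3).1 1 2)) (mul_mem (pow_mem hD i) (pow_mem hU j))
  suffices hf : f = (⟨Tm ((f : SL3).1 0 2) ((f : SL3).1 1 2), hTmF _ _⟩ : FF p) *
      ((⟨Dm, hDmF⟩ : FF p) ^ i * (⟨Um 1, hUmF 1⟩ : FF p) ^ j) by
    rw [hf]; exact hprod
  refine Subtype.ext (Subtype.ext ?_)
  rw [Subgroup.coe_mul, Subgroup.coe_mul, Subgroup.coe_pow, Subgroup.coe_pow, Matrix.SpecialLinearGroup.coe_mul,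
    Matrix.SpecialLinearGroup.coe_mul, hpowD, hpowU]
  ext a b
  fin_cases a <;> fin_cases b <;>
    simp [Tm, Matrix.mul_apply, Fin.sum_univ_three, a1, a2, a3, a4, hi, hk'i, hj, ← mul_assoc, hdet]

end CfsgLib.ZJFailure
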