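import Cfsg.Agent.Lib.ZJFailure.ModuleTools
import Cfsg.Agent.Lib.ZJFailure.Psi

/-!
The configuration produced by two quadratic elements moving a subgroup fixed by `N_L(P)`.
-/

set_option autoImplicit false
set_option linter.unusedSectionVars false
set_option linter.style.haveILetI false
set_option maxHeartbeats 800000

namespace CfsgLib.ZJFailure

open Cfsg
open scoped commutatorElement

universe u

variable {G : Type u} [Group G] [Finite G] {p : ℕ} [hp : Fact p.Prime]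

theorem Moved.exists_top {S D A L P : Subgroup G} {q q' : G} (hM : Moved p S D A q q' L P) :
    ∃ E N : Subgroup G, E ≤ D ∧ Top p A L E N := by
  classical
  have hLD : L ≤ Subgroup.normalizer (D : Set G) := by
    haveI := hM.normal
    rw [Subgroup.normalizer_eq_top_iff.2 hM.normal]; exact le_top
  obtain ⟨E, ⟨hED, hLE, hmove⟩, hEmin⟩ := Set.exists_min_image
    {E : Subgroup G | E ≤ D ∧ L ≤ Subgroup.normalizer (E : Set G) ∧
      ¬ L ≤ Subgroup.normalizer ((A ⊓ E : Subgroup G) : Set G)}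
    (fun E => Nat.card E) (Set.toFinite _) ⟨D, le_rfl, hLD, by rw [inf_eq_left.2 hM.Ale]; exact hM.move⟩
  have hEp : IsPGroup p E := hM.sylow.to_le (hED.trans hM.le)
  have hsmall : ∀ W : Subgroup G, W < E → L ≤ Subgroup.normalizer (W : Set G) →
      L ≤ Subgroup.normalizer ((A ⊓ W : Subgroup G) : Set G) := by
    intro W hW hLW
    by_contra h
    exact hW.not_ge (Subgroup.eq_of_le_of_card_ge hW.le (hEmin W ⟨hW.le.trans hED, hLW, h⟩)).ge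
  set F := (frattini E).map E.subtype with hF
  have hFlt : F < E := by
    refine lt_of_le_of_ne (Subgroup.map_subtype_le _) fun h => ?_
    have h1 : frattini E = ⊤ := Subgroup.map_injective E.subtype_injective
      (by rw [← MonoidHom.range_eq_map, Subgroup.range_subtype]; exact h)
    haveI : Nontrivial E := by
      rw [Subgroup.nontrivial_iff_ne_bot]
      rintro rfl
      refine hmove ?_
      rw [inf_bot_eq]; exact hLE
    rcases eq_top_or_exists_le_coatom (⊥ : Subgroup E) with h2 | ⟨K, hK, -⟩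
    · exact bot_ne_top h2
    · exact hK.1 (top_le_iff.1 (h1.ge.trans (iInf₂_le K hK)))
  have hFc : ∀ a ∈ E, ∀ b ∈ E, a * b * a⁻¹ * b⁻¹ ∈ F := fun a ha b hb =>
    ⟨⁅(⟨a, ha⟩ : E), ⟨b, hb⟩⁆, commutator_le_frattini_pGroup hEp
      (Subgroup.commutator_mem_commutator (Subgroup.mem_top _) (Subgroup.mem_top _)), by
      simp [commutatorElement_def]⟩
  have hFp : ∀ a ∈ E, a ^ p ∈ F := fun a ha => ⟨⟨a ^ p, E.pow_mem ha p⟩, pow_mem_frattini_pGroup hEp ⟨a, ha⟩, rfl⟩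
  obtain ⟨N, ⟨hNE, hLN, hNc, hNp⟩, hNmax⟩ := Set.exists_max_image
    {N : Subgroup G | N < E ∧ L ≤ Subgroup.normalizer (N : Set G) ∧
      (∀ a ∈ E, ∀ b ∈ E, a * b * a⁻¹ * b⁻¹ ∈ N) ∧ ∀ a ∈ E, a ^ p ∈ N}
    (fun N => Nat.card N) (Set.toFinite _) ⟨F, hFlt, (le_normalizer_map_characteristic hLE (frattini E)).1, hFc, hFp⟩
  refine ⟨E, N, hED, ⟨hNE.le, hLE, hLN, hNc, hNp, fun W hW1 hW2 hW3 => ?_⟩, hNE, fun W hW hAW hLW => ?_,
    hsmall N hNE hLN, fun h => hmove ?_, hmove⟩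
  · by_cases h : W = E
    · exact Or.inr h
    · exact Or.inl (Subgroup.eq_of_le_of_card_ge hW1 (hNmax W ⟨lt_of_le_of_ne hW2 h, hW3,
        fun a ha b hb => hW1 (hNc a ha b hb), fun a ha => hW1 (hNp a ha)⟩)).symm
  · by_contra h
    refine hmove ?_
    have h1 := hsmall W (lt_of_le_of_ne hW h) hLW
    rwa [le_antisymm (inf_le_inf_left A hW) (le_inf inf_le_left hAW)] at h1
  · rw [le_antisymm (le_inf inf_le_left h) (inf_le_inf_left A hNE.le)]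
    exact hsmall N hNE hLN

/-- An odd power of an element inverting a section inverts it. -/
theorem neg_odd_pow {E N : Subgroup G} {z : G} (hz : ∀ e ∈ E, z * e * z⁻¹ ∈ E)
    (hzN : ∀ e ∈ N, z * e * z⁻¹ ∈ N) (hE : ∀ e ∈ E, ∀ c ∈ N, e * c * e⁻¹ ∈ N)
    (hneg : ∀ e ∈ E, z * e * z⁻¹ * e ∈ N) :
    ∀ (i : ℕ), ∀ e ∈ E, z ^ (2 * i + 1) * e * (z ^ (2 * i + 1))⁻¹ * e ∈ N := by
  intro i
  induction i with
  | zero => simpa using hneg
  | succ i ih =>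
    intro e he
    have hzi : ∀ j : ℕ, ∀ x ∈ E, z ^ j * x * (z ^ j)⁻¹ ∈ E := by
      intro j
      induction j with
      | zero => simp
      | succ j ihj =>
        intro x hx
        have h := hz _ (ihj x hx)
        rwa [show z * (z ^ j * x * (z ^ j)⁻¹) * z⁻¹ = z ^ (j + 1) * x * (z ^ (j + 1))⁻¹ by
          rw [pow_succ' z j]; group] at h
    set f := z ^ (2 * i + 1) * e * (z ^ (2 * i + 1))⁻¹ with hf
    have hfE : f ∈ E := hzi _ e he
    set f' := z * f * z⁻¹ with hf'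
    have hf'E : f' ∈ E := hz f hfE
    have h1 : z * f' * z⁻¹ * f' ∈ N := hneg f' hf'E
    have h2 : f * f' ∈ N := by
      have h := hE f hfE _ (hneg f hfE)
      rwa [show f * (z * f * z⁻¹ * f) * f⁻¹ = f * f' by rw [hf']; group] at h
    have h3 := N.mul_mem (N.mul_mem h1 (N.inv_mem h2)) (ih e he)
    rwa [show z * f' * z⁻¹ * f' * (f * f')⁻¹ * (z ^ (2 * i + 1) * e * (z ^ (2 * i + 1))⁻¹ * e) =
      z ^ (2 * (i + 1) + 1) * e * (z ^ (2 * (i + 1) + 1))⁻¹ * e by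
      rw [hf', hf, show 2 * (i + 1) + 1 = 2 * i + 1 + 1 + 1 by ring, pow_succ' z (2 * i + 1 + 1),
        pow_succ' z (2 * i + 1)]
      group] at h3

/-- An element of a `p`-group with prescribed action on a section, commuting with a `2`-element inverting it. -/
theorem exists_fixed_twin (hp2 : p ≠ 2) {E N P : Subgroup G} {z u : G} {a : ℕ} (hP : IsPGroup p P)
    (hPE : P ≤ Subgroup.normalizer (E : Set G)) (hPN : P ≤ Subgroup.normalizer (N : Set G))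
    (hz2 : z ^ 2 ^ a = 1) (hzP : z ∈ Subgroup.normalizer (P : Set G))
    (hzE : z ∈ Subgroup.normalizer (E : Set G)) (hneg : ∀ e ∈ E, z * e * z⁻¹ * e ∈ N) (hu : u ∈ P) :
    ∃ v ∈ P, z * v * z⁻¹ = v ∧ ∀ e ∈ E, v * e * v⁻¹ * (u * e * u⁻¹)⁻¹ ∈ N := by
  classical
  set T : Set G := {x | x ∈ P ∧ ∀ e ∈ E, x * e * x⁻¹ * (u * e * u⁻¹)⁻¹ ∈ N} with hT
  let P0 : Subgroup G :=
    { carrier := {x | x ∈ P ∧ ∀ e ∈ E, x * e * x⁻¹ * e⁻¹ ∈ N}
      one_mem' := ⟨P.one_mem, fun e _ => by simp [N.one_mem]⟩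
      mul_mem' := fun {x y} hx hy => ⟨P.mul_mem hx.1 hy.1, fun e he => by
        rw [show x * y * e * (x * y)⁻¹ * e⁻¹ = (x * (y * e * y⁻¹ * e⁻¹) * x⁻¹) * (x * e * x⁻¹ * e⁻¹) by group]
        exact N.mul_mem (conj_mem hPN hx.1 (hy.2 e he)) (hx.2 e he)⟩
      inv_mem' := fun {x} hx => ⟨P.inv_mem hx.1, fun e he => by
        rw [show x⁻¹ * e * x⁻¹⁻¹ * e⁻¹ = x⁻¹ * (x * e * x⁻¹ * e⁻¹)⁻¹ * x⁻¹⁻¹ by group]
        exact conj_mem hPN (P.inv_mem hx.1) (N.inv_mem (hx.2 e he))⟩ }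
  have hueu : ∀ e ∈ E, u * e * u⁻¹ ∈ E := fun e he => conj_mem hPE hu he
  let eq : P0 ≃ T :=
    { toFun := fun x => ⟨x * u, P.mul_mem x.2.1 hu, fun e he => by
        have h := x.2.2 _ (hueu e he)
        rwa [show (x : G) * u * e * ((x : G) * u)⁻¹ = x * (u * e * u⁻¹) * (x : G)⁻¹ by group]⟩
      invFun := fun x => ⟨x * u⁻¹, P.mul_mem x.2.1 (P.inv_mem hu), fun e he => by
        have h := x.2.2 _ (conj_mem hPE (P.inv_mem hu) he)
        rwa [show (x : G) * (u⁻¹ * e * u⁻¹⁻¹) * (x : G)⁻¹ * (u * (u⁻¹ * e * u⁻¹⁻¹) * u⁻¹)⁻¹ =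
          (x : G) * u⁻¹ * e * ((x : G) * u⁻¹)⁻¹ * e⁻¹ by group] at h⟩
      left_inv := fun x => Subtype.ext (by simp)
      right_inv := fun x => Subtype.ext (by simp) }
  have hodd : Odd (Nat.card T) := by
    rw [← Nat.card_congr eq]
    obtain ⟨j, hj⟩ := (hP.to_le (show P0 ≤ P from fun x hx => hx.1)).exists_card_eq
    rw [hj]; exact (hp.out.odd_of_ne_two hp2).pow
  have hzT : ∀ x ∈ T, z * x * z⁻¹ ∈ T := by
    rintro x ⟨hx, hxu⟩
    refine ⟨(Subgroup.mem_normalizer_iff.1 hzP x).1 hx, fun e he => ?_⟩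
    set f := z⁻¹ * e * z with hf
    have hfE : f ∈ E := by
      rw [hf]; simpa using (Subgroup.mem_normalizer_iff.1 (Subgroup.inv_mem _ hzE) e).1 he
    set g := x * f * x⁻¹ with hg
    have h1 : e * f ∈ N := by
      have h := hneg f hfE
      rwa [show z * f * z⁻¹ = e by rw [hf]; group] at h
    have h2 : z * g * z⁻¹ * g ∈ N := hneg g (conj_mem hPE hx hfE)
    have h3 : x * e * x⁻¹ * g ∈ N := by
      have h := conj_mem hPN hx h1
      rwa [show x * (e * f) * x⁻¹ = x * e * x⁻¹ * g by rw [hg]; group] at h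
    have h4 := N.mul_mem (N.mul_mem h2 (N.inv_mem h3)) (hxu e he)
    rwa [show z * g * z⁻¹ * g * (x * e * x⁻¹ * g)⁻¹ * (x * e * x⁻¹ * (u * e * u⁻¹)⁻¹) =
      z * x * z⁻¹ * e * (z * x * z⁻¹)⁻¹ * (u * e * u⁻¹)⁻¹ by rw [hg, hf]; group] at h4
  obtain ⟨v, hv, hvz⟩ := exists_commute_of_odd hz2 T hzT hodd
  exact ⟨v, hv.1, hvz, hv.2⟩

/-- **The configuration.** -/
theorem Moved.exists_config (hp2 : p ≠ 2) {S D A L P : Subgroup G} {q q' : G} (hM : Moved p S D A q q' L P) :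
    ∃ (PF : Subgroup G) (n : G) (A₁ A₂ : Subgroup G) (k : ℕ), PF ≤ S ∧ n ∈ L ∧
      n ∈ Subgroup.normalizer (A : Set G) ∧ n ∈ Subgroup.normalizer (PF : Set G) ∧ (orderOf n).Coprime p ∧
      (∃ ψ : ↥(PF ⊔ Subgroup.zpowers n) →* ↥(Cfsg.fOver (ZMod p)), Function.Surjective ψ) ∧
      A₂ < A₁ ∧ A₁ ≤ A ⊓ PF ∧ orderOf (k : ZMod p) = p - 1 ∧ (∀ a ∈ A₂, n * a * n⁻¹ ∈ A₂) ∧
      ∀ a ∈ A₁, a ^ p ∈ A₂ ∧ n * a * n⁻¹ * (a ^ k)⁻¹ ∈ A₂ := by
  classical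
  obtain ⟨E, N, hED, hT⟩ := hM.exists_top
  have hPp : IsPGroup p P := hM.sylow.to_le hM.PS
  have hES : E ≤ S := hED.trans hM.le
  have hEN : ∀ e ∈ E, ∀ b ∈ N, e * b * e⁻¹ ∈ N := fun e he b hb => by
    have h := N.mul_mem (hT.sec.comm e he b (hT.sec.le hb)) hb
    simpa using h
  have hPE : P ≤ Subgroup.normalizer (E : Set G) := hM.PL.trans hT.sec.normE
  have hPN : P ≤ Subgroup.normalizer (N : Set G) := hM.PL.trans hT.sec.normN
  obtain ⟨n, k, k', hnL, hnP, hnc, hk, hkk, hneg, hline, hplane⟩ := exists_torus_section hp2 hM.gen hT.sec hM.PL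
    hPp hM.idx (fun v hv => hM.quad v (hED hv)) (fun v hv => hM.quad' v (hED hv))
    (hM.top_nontrivial hp2 hT hED)
  have hnA : n ∈ Subgroup.normalizer (A : Set G) := hM.fix n hnL hnP
  -- a fixed point in `A`
  have hPA : ∀ x ∈ P, ∀ b ∈ A, x * b * x⁻¹ ∈ A := fun x hx b hb => conj_mem hM.normA (hM.PS hx) hb
  obtain ⟨a1, ha1, ha1N, hfix1⟩ := exists_fixed (A := A ⊓ N) (W := A ⊓ E) hPp
    (hM.sylow.to_le (inf_le_right.trans hES))
    (lt_of_le_of_ne (inf_le_inf_left A hT.sec.le) fun h => hT.notle (h.ge.trans inf_le_right))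
    (fun x hx => mem_normalizer_of_forall fun b hb => ⟨hPA x hx b hb.1, conj_mem hPE hx hb.2⟩)
    (fun x hx => mem_normalizer_of_forall fun b hb => ⟨hPA x hx b hb.1, conj_mem hPN hx hb.2⟩)
    (fun x hx => mem_normalizer_of_forall fun b hb =>
      ⟨conj_mem hM.normA (hES hx.2) hb.1, hEN x hx.2 b hb.2⟩)
  have ha1N' : a1 ∉ N := fun h => ha1N ⟨ha1.1, h⟩
  obtain ⟨e2, he2, u, hu, hu2, hn2, hnu⟩ := hplane a1 ha1.2 ha1N' fun x hx => (hfix1 x hx).2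
  -- an involutory torus element
  set z0 := n ^ ((p - 1) / 2) with hz0
  obtain ⟨a, r, hr, har⟩ := Nat.exists_eq_pow_mul_and_not_dvd (orderOf_pos z0).ne' 2 (by norm_num)
  set z := z0 ^ r with hz
  have hz2 : z ^ 2 ^ a = 1 := by rw [hz, ← pow_mul, mul_comm, ← har, pow_orderOf_eq_one]
  obtain ⟨i, rfl⟩ : ∃ i, r = 2 * i + 1 := Nat.not_even_iff_odd.1 fun h => hr (even_iff_two_dvd.1 h)
  have hz0L : z0 ∈ L := L.pow_mem hnL _
  have hzneg : ∀ e ∈ E, z * e * z⁻¹ * e ∈ N :=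
    neg_odd_pow (fun e he => conj_mem hT.sec.normE hz0L he) (fun e he => conj_mem hT.sec.normN hz0L he) hEN hneg i
  have hzE : z ∈ Subgroup.normalizer (E : Set G) := hT.sec.normE (L.pow_mem hz0L _)
  have hnz : n * z = z * n := ((Commute.refl n).pow_right _).pow_right _
  obtain ⟨v, hv, hvz, hvu⟩ := exists_fixed_twin hp2 hPp hPE hPN hz2
    (Subgroup.pow_mem _ (Subgroup.pow_mem _ hnP _) _) hzE hzneg hu
  have hpowv : ∀ j : ℕ, ∀ e ∈ E, v ^ j * e * (v ^ j)⁻¹ * (u ^ j * e * (u ^ j)⁻¹)⁻¹ ∈ N := by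
    intro j
    induction j with
    | zero => intro e _; simp
    | succ j ih =>
      intro e he
      set f := u ^ j * e * (u ^ j)⁻¹ with hf
      have hfE : f ∈ E := conj_mem hPE (P.pow_mem hu j) he
      have h := N.mul_mem (conj_mem hPN hv (ih e he)) (hvu f hfE)
      rwa [show v * (v ^ j * e * (v ^ j)⁻¹ * f⁻¹) * v⁻¹ * (v * f * v⁻¹ * (u * f * u⁻¹)⁻¹) =
        v ^ (j + 1) * e * (v ^ (j + 1))⁻¹ * (u ^ (j + 1) * e * (u ^ (j + 1))⁻¹)⁻¹ by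
        rw [hf, pow_succ' v j, pow_succ' u j]; group] at h
  obtain ⟨PF, hPFS, hNPF, ha1PF, hnPF, hψ⟩ := exists_psi hp2 (S := S) hM.PS hES hT.sec.le hT.sec.comm hT.sec.pow
    (le_inf hPE hPN) (hT.sec.normE hnL) (hT.sec.normN hnL) hnP hk hkk hnz hzE hzneg hv hvz ha1.2 he2 ha1N'
    (hfix1 v hv).2
    (by
      have h := N.mul_mem (hvu e2 he2) hu2
      rwa [show v * e2 * v⁻¹ * (u * e2 * u⁻¹)⁻¹ * (u * e2 * u⁻¹ * (a1 * e2)⁻¹) =
        v * e2 * v⁻¹ * (a1 * e2)⁻¹ by group] at h)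
    (hline a1 ha1.2 fun x hx => (hfix1 x hx).2) hn2
    (fun e he => by
      set f := n⁻¹ * e * n with hf
      have hfE : f ∈ E := by
        rw [hf]; simpa using conj_mem hT.sec.normE (L.inv_mem hnL) he
      have h1 := conj_mem hT.sec.normN hnL (hvu f hfE)
      have h2 := N.mul_mem h1 (N.mul_mem (hnu e he) (N.inv_mem (hpowv (k * k) e he)))
      rwa [show n * (v * f * v⁻¹ * (u * f * u⁻¹)⁻¹) * n⁻¹ *
        (n * u * n⁻¹ * e * (n * u * n⁻¹)⁻¹ * (u ^ (k * k) * e * (u ^ (k * k))⁻¹)⁻¹ *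
          (v ^ (k * k) * e * (v ^ (k * k))⁻¹ * (u ^ (k * k) * e * (u ^ (k * k))⁻¹)⁻¹)⁻¹) =
        n * v * n⁻¹ * e * (n * v * n⁻¹)⁻¹ * (v ^ (k * k) * e * (v ^ (k * k))⁻¹)⁻¹ by rw [hf]; group] at h2)
  -- the scalar piece
  let C : Subgroup G :=
    { carrier := {b | b ∈ E ∧ ∀ x ∈ P, x * b * x⁻¹ * b⁻¹ ∈ N}
      one_mem' := ⟨E.one_mem, fun x _ => by simp [N.one_mem]⟩
      mul_mem' := fun {b c} hb hc => ⟨E.mul_mem hb.1 hc.1, fun x hx => by
        rw [show x * (b * c) * x⁻¹ * (b * c)⁻¹ = (x * b * x⁻¹ * b⁻¹) * (b * (x * c * x⁻¹ * c⁻¹) * b⁻¹) by group]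
        exact N.mul_mem (hb.2 x hx) (hEN b hb.1 _ (hc.2 x hx))⟩
      inv_mem' := fun {b} hb => ⟨E.inv_mem hb.1, fun x hx => by
        rw [show x * b⁻¹ * x⁻¹ * b⁻¹⁻¹ = b⁻¹ * (x * b * x⁻¹ * b⁻¹)⁻¹ * b⁻¹⁻¹ by group]
        exact hEN _ (E.inv_mem hb.1) _ (N.inv_mem (hb.2 x hx))⟩ }
  have hA1C : (A ⊓ N) ⊔ Subgroup.zpowers a1 ≤ A ⊓ C :=
    sup_le (le_inf inf_le_left fun b hb => ⟨hT.sec.le hb.2, fun x hx =>
      N.mul_mem (conj_mem hPN hx hb.2) (N.inv_mem hb.2)⟩)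
      (Subgroup.zpowers_le.2 ⟨ha1.1, ha1.2, fun x hx => (hfix1 x hx).2⟩)
  refine ⟨PF, n, (A ⊓ N) ⊔ Subgroup.zpowers a1, A ⊓ N, k, hPFS, hnL, hnA, hnPF, hnc, hψ, ?_, ?_, hk, ?_, ?_⟩
  · exact lt_of_le_of_ne le_sup_left fun h =>
      ha1N (h.ge (Subgroup.mem_sup_right (Subgroup.mem_zpowers a1)))
  · exact sup_le (inf_le_inf_left A hNPF) (Subgroup.zpowers_le.2 ⟨ha1.1, ha1PF⟩)
  · exact fun b hb => ⟨(Subgroup.mem_normalizer_iff.1 hnA b).1 hb.1, conj_mem hT.sec.normN hnL hb.2⟩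
  · intro b hb
    obtain ⟨hbA, hbE, hbP⟩ := hA1C hb
    exact ⟨⟨A.pow_mem hbA p, hT.sec.pow b hbE⟩,
      A.mul_mem ((Subgroup.mem_normalizer_iff.1 hnA b).1 hbA) (A.inv_mem (A.pow_mem hbA k)),
      hline b hbE hbP⟩

end CfsgLib.ZJFailure
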