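import Cfsg.Agent.Lib.ZJFailure.Section
import Cfsg.Agent.Lib.StrongFusion.LocalFree

/-!
Counting lemmas, and the non-triviality of the top factor of a moved subgroup.
-/

set_option autoImplicit false
set_option linter.unusedSectionVars false
set_option linter.style.haveILetI false

namespace CfsgLib.ZJFailure

open scoped Pointwise

universe u

variable {G : Type u} [Group G] [Finite G] {p : ℕ} [hp : Fact p.Prime]

/-- A `p`-group fixes a non-trivial point of a non-trivial `p`-section it normalises. -/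
theorem exists_fixed {P W A : Subgroup G} (hP : IsPGroup p P) (hW : IsPGroup p W) (hAW : A < W)
    (hPW : P ≤ Subgroup.normalizer (W : Set G)) (hPA : P ≤ Subgroup.normalizer (A : Set G))
    (hWA : W ≤ Subgroup.normalizer (A : Set G)) :
    ∃ a ∈ W, a ∉ A ∧ ∀ x ∈ P, x * a * x⁻¹ * a⁻¹ ∈ A := by
  haveI : (A.subgroupOf W).Normal := ⟨fun a ha w => by
    rw [Subgroup.mem_subgroupOf] at ha ⊢
    simpa using (Subgroup.mem_normalizer_iff.1 (hWA w.2) a).1 ha⟩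
  let act : P → W ⧸ A.subgroupOf W →* W ⧸ A.subgroupOf W := fun x =>
    Quadratic.sectionEnd (x : G) (fun m hm => conj_mem hPW x.2 hm) (fun m hm => conj_mem hPA x.2 hm)
  have hact : ∀ (x : P) (w : W), act x (QuotientGroup.mk w) =
      QuotientGroup.mk ⟨x * w * (x : G)⁻¹, conj_mem hPW x.2 w.2⟩ := fun _ _ => rfl
  letI : MulAction P (W ⧸ A.subgroupOf W) :=
    { smul := fun x v => act x v
      one_smul := fun v => by
        obtain ⟨w, rfl⟩ := QuotientGroup.mk_surjective v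
        show act 1 _ = _
        rw [hact]
        exact congrArg QuotientGroup.mk (Subtype.ext (by simp))
      mul_smul := fun x y v => by
        obtain ⟨w, rfl⟩ := QuotientGroup.mk_surjective v
        show act (x * y) _ = act x (act y _)
        rw [hact, hact, hact]
        exact congrArg QuotientGroup.mk (Subtype.ext (by simp [mul_assoc])) }
  have hcard : p ∣ Nat.card (W ⧸ A.subgroupOf W) := by
    obtain ⟨k, hk⟩ := (hW.to_quotient (A.subgroupOf W)).exists_card_eq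
    rcases k with _ | k
    · rw [pow_zero] at hk
      exact absurd (Subgroup.subgroupOf_eq_top.1 (Subgroup.index_eq_one.1 hk)) hAW.not_ge
    · exact hk ▸ dvd_pow_self p k.succ_ne_zero
  have hone : (1 : W ⧸ A.subgroupOf W) ∈ MulAction.fixedPoints P (W ⧸ A.subgroupOf W) := fun x => by
    show act x 1 = 1
    exact map_one _
  obtain ⟨b, hb, hb1⟩ := hP.exists_fixed_point_of_prime_dvd_card_of_fixed_point (W ⧸ A.subgroupOf W) hcard hone
  obtain ⟨w, rfl⟩ := QuotientGroup.mk_surjective b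
  refine ⟨w, w.2, fun h => hb1 ((QuotientGroup.eq_one_iff w).2 h).symm, fun x hx => ?_⟩
  have h := hb ⟨x, hx⟩
  have h' : act ⟨x, hx⟩ (QuotientGroup.mk w) = QuotientGroup.mk w := h
  rw [hact, QuotientGroup.eq_iff_div_mem, div_eq_mul_inv, Subgroup.mem_subgroupOf] at h'
  simpa using h'

/-- A `2`-element permuting a set of odd size fixes one of its members. -/
theorem exists_commute_of_odd {z : G} {a : ℕ} (hz : z ^ 2 ^ a = 1) (T : Set G)
    (hT : ∀ x ∈ T, z * x * z⁻¹ ∈ T) (hodd : Odd (Nat.card T)) : ∃ x ∈ T, z * x * z⁻¹ = x := by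
  have hT' : ∀ y ∈ Subgroup.zpowers z, ∀ x ∈ T, y * x * y⁻¹ ∈ T := by
    intro y hy
    obtain ⟨i, rfl⟩ := mem_powers_iff_mem_zpowers.2 hy
    induction i with
    | zero => simp
    | succ i ih =>
      intro x hx
      have h := hT _ (ih (Subgroup.npow_mem_zpowers z i) x hx)
      rwa [show z * (z ^ i * x * (z ^ i)⁻¹) * z⁻¹ = z ^ (i + 1) * x * (z ^ (i + 1))⁻¹ by
        rw [pow_succ']; group] at h
  letI : MulAction (Subgroup.zpowers z) T :=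
    { smul := fun y x => ⟨y * x * (y : G)⁻¹, hT' y y.2 x x.2⟩
      one_smul := fun x => Subtype.ext (by
        show ((1 : Subgroup.zpowers z) : G) * x * ((1 : Subgroup.zpowers z) : G)⁻¹ = x
        simp)
      mul_smul := fun y y' x => Subtype.ext (by
        show ((y * y' : Subgroup.zpowers z) : G) * x * ((y * y' : Subgroup.zpowers z) : G)⁻¹ =
          y * (y' * x * (y' : G)⁻¹) * (y : G)⁻¹
        simp [mul_assoc]) }
  haveI : Fact (Nat.Prime 2) := ⟨Nat.prime_two⟩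
  have hZ : IsPGroup 2 (Subgroup.zpowers z) :=
    IsPGroup.of_card_dvd_pow (n := a) (by rw [Nat.card_zpowers]; exact orderOf_dvd_of_pow_eq_one hz)
  obtain ⟨x, hx⟩ := hZ.nonempty_fixed_point_of_prime_not_dvd_card T
    fun h => Nat.not_even_iff_odd.2 hodd (even_iff_two_dvd.2 h)
  exact ⟨x, x.2, congrArg Subtype.val (hx ⟨z, Subgroup.mem_zpowers z⟩)⟩

/-- A subgroup containing a Sylow subgroup, stable under conjugation, with all `p`-th powers, is everything. -/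
theorem eq_of_pow_mem {R T P : Subgroup G} (hPT : P ≤ T) (hTR : T ≤ R) (hidx : ¬ p ∣ P.relIndex R)
    (hconj : ∀ r ∈ R, ∀ t ∈ T, r * t * r⁻¹ ∈ T) (hpow : ∀ r ∈ R, r ^ p ∈ T) : T = R := by
  refine le_antisymm hTR (Subgroup.relIndex_eq_one.1 ?_)
  haveI : (T.subgroupOf R).Normal := ⟨fun t ht r => by
    rw [Subgroup.mem_subgroupOf] at ht ⊢; simpa using hconj r r.2 t ht⟩
  have hq : IsPGroup p (R ⧸ T.subgroupOf R) := fun x => by
    obtain ⟨r, rfl⟩ := QuotientGroup.mk_surjective x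
    refine ⟨1, ?_⟩
    rw [pow_one, ← QuotientGroup.mk_pow, QuotientGroup.eq_one_iff, Subgroup.mem_subgroupOf]
    exact hpow r r.2
  obtain ⟨k, hk⟩ := hq.exists_card_eq
  rcases k with _ | k
  · exact hk.trans (pow_zero p)
  · exact absurd (((dvd_pow_self p k.succ_ne_zero).trans hk.symm.dvd).trans (Subgroup.relIndex_dvd_of_le_left R hPT)) hidx

/-- The situation: `L` generated by two quadratic elements moves `A`, while `N_L(P)` fixes it. -/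
structure Moved (p : ℕ) (S D A : Subgroup G) (q q' : G) (L P : Subgroup G) : Prop where
  sylow : IsPGroup p S
  normal : D.Normal
  le : D ≤ S
  Ale : A ≤ D
  normA : S ≤ Subgroup.normalizer (A : Set G)
  gen : L = Subgroup.closure ({q, q'} : Set G)
  quad : ∀ v ∈ D, q * (q * v * q⁻¹ * v⁻¹) * q⁻¹ = q * v * q⁻¹ * v⁻¹
  quad' : ∀ v ∈ D, q' * (q' * v * q'⁻¹ * v⁻¹) * q'⁻¹ = q' * v * q'⁻¹ * v⁻¹
  PS : P ≤ S
  PL : P ≤ L
  idx : ¬ p ∣ P.relIndex L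
  fix : ∀ x ∈ L, x ∈ Subgroup.normalizer (P : Set G) → x ∈ Subgroup.normalizer (A : Set G)
  move : ¬ L ≤ Subgroup.normalizer (A : Set G)

/-- A minimal moved piece `E` with a maximal invariant subgroup `N`. -/
structure Top (p : ℕ) (A L E N : Subgroup G) : Prop where
  sec : Section p L E N
  lt : N < E
  gen : ∀ W : Subgroup G, W ≤ E → A ⊓ E ≤ W → L ≤ Subgroup.normalizer (W : Set G) → W = E
  inf : L ≤ Subgroup.normalizer ((A ⊓ N : Subgroup G) : Set G)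
  notle : ¬ A ⊓ E ≤ N
  move : ¬ L ≤ Subgroup.normalizer ((A ⊓ E : Subgroup G) : Set G)

theorem Moved.top_nontrivial (hp2 : p ≠ 2) {S D A L P E N : Subgroup G} {q q' : G} (hM : Moved p S D A q q' L P)
    (hT : Top p A L E N) (hED : E ≤ D) : ∃ l ∈ L, ∃ e ∈ E, l * e * l⁻¹ * e⁻¹ ∉ N := by
  classical
  by_contra hcon
  push Not at hcon
  set A₂ := A ⊓ N with hA₂
  have hA₂N : A₂ ≤ N := inf_le_right
  have hA₂E : A₂ ≤ E := hA₂N.trans hT.sec.le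
  have hES : E ≤ S := hED.trans hM.le
  have hEp : IsPGroup p E := hM.sylow.to_le hES
  have hEA : ∀ e ∈ E, ∀ b ∈ A ⊓ E, e * b * e⁻¹ ∈ A ⊓ E := fun e he b hb =>
    ⟨conj_mem hM.normA (hES he) hb.1, E.mul_mem (E.mul_mem he hb.2) (E.inv_mem he)⟩
  have hEN : ∀ e ∈ E, ∀ b ∈ N, e * b * e⁻¹ ∈ N := fun e he b hb => by
    have h := N.mul_mem (hT.sec.comm e he b (hT.sec.le hb)) hb
    simpa using h
  have hEA₂ : ∀ e ∈ E, ∀ b ∈ A₂, e * b * e⁻¹ ∈ A₂ := fun e he b hb =>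
    ⟨conj_mem hM.normA (hES he) hb.1, hEN e he b hb.2⟩
  obtain ⟨a, ha, haN⟩ := SetLike.not_le_iff_exists.1 hT.notle
  have haE : a ∈ E := ha.2
  have hap : a ^ p ∈ A₂ := ⟨A.pow_mem ha.1 p, hT.sec.pow a haE⟩
  -- `E = ⟨a⟩ N`
  have hW : Subgroup.zpowers a ⊔ N = E := by
    refine (hT.sec.irr _ le_sup_right (sup_le (Subgroup.zpowers_le.2 haE) hT.sec.le) fun l hl =>
      mem_normalizer_of_forall fun w hw => ?_).resolve_left fun h => haN
        (h.le (Subgroup.mem_sup_left (Subgroup.mem_zpowers a)))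
    have hwE : w ∈ E := sup_le (Subgroup.zpowers_le.2 haE) hT.sec.le hw
    rw [show l * w * l⁻¹ = l * w * l⁻¹ * w⁻¹ * w by group]
    exact mul_mem (Subgroup.mem_sup_right (hcon l hl w hwE)) hw
  have hdec : ∀ b ∈ E, ∃ i : ℕ, (a ^ i)⁻¹ * b ∈ N := by
    intro b hb
    have hnorm : Subgroup.zpowers a ≤ Subgroup.normalizer (N : Set G) :=
      Subgroup.zpowers_le.2 (mem_normalizer_of_forall (hEN a haE))
    obtain ⟨c, hc, y, hy, rfl⟩ := mem_sup_of_le_normalizer hnorm (show b ∈ N ⊔ Subgroup.zpowers a by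
      rw [sup_comm, hW]; exact hb)
    obtain ⟨i, rfl⟩ := mem_powers_iff_mem_zpowers.2 hy
    refine ⟨i, ?_⟩
    have h := hEN _ (E.inv_mem (E.pow_mem haE i)) c hc
    simpa [mul_assoc] using h
  -- `a` is central modulo `A₂`
  have hcent : ∀ e ∈ E, e * a * e⁻¹ * a⁻¹ ∈ A₂ := by
    intro e he
    exact ⟨A.mul_mem (hEA e he a ha).1 (A.inv_mem ha.1), hT.sec.comm e he a haE⟩
  let C₂ : Subgroup G :=
    { carrier := {b | b ∈ E ∧ ∀ e ∈ E, e * b * e⁻¹ * b⁻¹ ∈ A₂}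
      one_mem' := ⟨E.one_mem, fun e _ => by simp [A₂.one_mem]⟩
      mul_mem' := fun {b c} hb hc => ⟨E.mul_mem hb.1 hc.1, fun e he => by
        rw [show e * (b * c) * e⁻¹ * (b * c)⁻¹ = (e * b * e⁻¹ * b⁻¹) * (b * (e * c * e⁻¹ * c⁻¹) * b⁻¹) by group]
        exact A₂.mul_mem (hb.2 e he) (hEA₂ b hb.1 _ (hc.2 e he))⟩
      inv_mem' := fun {b} hb => ⟨E.inv_mem hb.1, fun e he => by
        rw [show e * b⁻¹ * e⁻¹ * b⁻¹⁻¹ = b⁻¹ * (e * b * e⁻¹ * b⁻¹)⁻¹ * b⁻¹⁻¹ by group]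
        exact hEA₂ _ (E.inv_mem hb.1) _ (A₂.inv_mem (hb.2 e he))⟩ }
  have hab : ∀ b ∈ E, ∀ c ∈ E, b * c * b⁻¹ * c⁻¹ ∈ A₂ := by
    have h : C₂ = E := by
      refine hT.gen C₂ (fun b hb => hb.1) (fun b hb => ⟨hb.2, fun e he => ?_⟩) fun l hl =>
        mem_normalizer_of_forall fun b hb => ⟨conj_mem hT.sec.normE hl hb.1, fun e he => ?_⟩
      · obtain ⟨i, hi⟩ := hdec b hb.2
        have hiA : (a ^ i)⁻¹ * b ∈ A₂ := ⟨A.mul_mem (A.inv_mem (A.pow_mem ha.1 i)) hb.1, hi⟩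
        rw [show e * b * e⁻¹ * b⁻¹ = (e * a ^ i * e⁻¹ * (a ^ i)⁻¹) *
          (a ^ i * ((e * ((a ^ i)⁻¹ * b) * e⁻¹) * ((a ^ i)⁻¹ * b)⁻¹) * (a ^ i)⁻¹) by group]
        refine A₂.mul_mem ?_ (hEA₂ _ (E.pow_mem haE i) _ (A₂.mul_mem (hEA₂ e he _ hiA) (A₂.inv_mem hiA)))
        clear hiA hi
        induction i with
        | zero => simp [A₂.one_mem]
        | succ i ih =>
          rw [show e * a ^ (i + 1) * e⁻¹ * (a ^ (i + 1))⁻¹ = (e * a * e⁻¹ * a⁻¹) *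
            (a * (e * a ^ i * e⁻¹ * (a ^ i)⁻¹) * a⁻¹) by rw [pow_succ']; group]
          exact A₂.mul_mem (hcent e he) (hEA₂ a haE _ ih)
      · have h := conj_mem hT.inf hl (hb.2 (l⁻¹ * e * l) (by simpa using conj_mem hT.sec.normE (L.inv_mem hl) he))
        rwa [show l * (l⁻¹ * e * l * b * (l⁻¹ * e * l)⁻¹ * b⁻¹) * l⁻¹ =
          e * (l * b * l⁻¹) * e⁻¹ * (l * b * l⁻¹)⁻¹ by group] at h
    exact fun b hb c hc => (h.ge hc).2 b hb
  haveI hA₂n : (A₂.subgroupOf E).Normal := ⟨fun b hb e => by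
    rw [Subgroup.mem_subgroupOf] at hb ⊢; simpa using hEA₂ e e.2 b hb⟩
  have hpowE : ∀ b ∈ E, b ^ p ∈ A₂ := by
    let X : Subgroup G :=
      { carrier := {b | b ∈ E ∧ b ^ p ∈ A₂}
        one_mem' := ⟨E.one_mem, by simp [A₂.one_mem]⟩
        mul_mem' := fun {b c} hb hc => ⟨E.mul_mem hb.1 hc.1, by
          have hcomm : Commute (QuotientGroup.mk (⟨b, hb.1⟩ : E) : E ⧸ A₂.subgroupOf E)
              (QuotientGroup.mk (⟨c, hc.1⟩ : E)) := by
            show _ = _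
            rw [← QuotientGroup.mk_mul, ← QuotientGroup.mk_mul, QuotientGroup.eq_iff_div_mem, div_eq_mul_inv,
              Subgroup.mem_subgroupOf]
            simpa [mul_assoc] using hab b hb.1 c hc.1
          have h1 : (QuotientGroup.mk ((⟨b, hb.1⟩ : E) * ⟨c, hc.1⟩) : E ⧸ A₂.subgroupOf E) ^ p = 1 := by
            rw [QuotientGroup.mk_mul, hcomm.mul_pow, ← QuotientGroup.mk_pow, ← QuotientGroup.mk_pow,
              (QuotientGroup.eq_one_iff _).2 (by rw [Subgroup.mem_subgroupOf]; simpa using hb.2),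
              (QuotientGroup.eq_one_iff _).2 (by rw [Subgroup.mem_subgroupOf]; simpa using hc.2), one_mul]
          rw [← QuotientGroup.mk_pow, QuotientGroup.eq_one_iff, Subgroup.mem_subgroupOf] at h1
          simpa using h1⟩
        inv_mem' := fun {b} hb => ⟨E.inv_mem hb.1, by rw [inv_pow]; exact A₂.inv_mem hb.2⟩ }
    have h : X = E := hT.gen X (fun b hb => hb.1) (fun b hb => ⟨hb.2, A.pow_mem hb.1 p, hT.sec.pow b hb.2⟩)
      fun l hl => mem_normalizer_of_forall fun b hb => ⟨conj_mem hT.sec.normE hl hb.1, by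
        rw [conj_pow]; exact conj_mem hT.inf hl hb.2⟩
    exact fun b hb => (h.ge hb).2
  -- a maximal invariant subgroup below `N`
  have hA₂lt : A₂ < N := by
    refine lt_of_le_of_ne hA₂N fun hNA => hT.move ?_
    have hA : A ⊓ E = E := le_antisymm inf_le_right fun b hb => by
      obtain ⟨i, hi⟩ := hdec b hb
      refine ⟨?_, hb⟩
      have h := A.mul_mem (A.pow_mem ha.1 i) (hNA ▸ hi : (a ^ i)⁻¹ * b ∈ A₂).1
      rwa [mul_inv_cancel_left] at h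
    rw [hA]; exact hT.sec.normE
  obtain ⟨N₂, ⟨hA₂N₂, hN₂N, hLN₂⟩, hmax⟩ := Set.exists_max_image
    {W : Subgroup G | A₂ ≤ W ∧ W < N ∧ L ≤ Subgroup.normalizer (W : Set G)} (fun W => Nat.card W) (Set.toFinite _)
    ⟨A₂, le_rfl, hA₂lt, hT.inf⟩
  have hEN₂ : ∀ e ∈ E, ∀ b ∈ N₂, e * b * e⁻¹ ∈ N₂ := fun e he b hb => by
    have h := N₂.mul_mem (hA₂N₂ (hab e he b (hT.sec.le (hN₂N.le hb)))) hb
    simpa using h
  have hsec2 : Section p L N N₂ :=
    ⟨hN₂N.le, hT.sec.normN, hLN₂, fun b hb c hc => hA₂N₂ (hab b (hT.sec.le hb) c (hT.sec.le hc)),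
      fun b hb => hA₂N₂ (hpowE b (hT.sec.le hb)), fun W hW1 hW2 hW3 => by
        by_cases h : W = N
        · exact Or.inr h
        · exact Or.inl (Subgroup.eq_of_le_of_card_ge hW1
            (hmax W ⟨hA₂N₂.trans hW1, lt_of_le_of_ne hW2 h, hW3⟩)).symm⟩
  have hd : ∀ l ∈ L, l * a * l⁻¹ * a⁻¹ ∈ N := fun l hl => hcon l hl a haE
  -- the elements fixing `a` modulo `N₂`
  let T₀ : Subgroup G :=
    { carrier := {l | l ∈ L ∧ l * a * l⁻¹ * a⁻¹ ∈ N₂}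
      one_mem' := ⟨L.one_mem, by simp [N₂.one_mem]⟩
      mul_mem' := fun {l m} hl hm => ⟨L.mul_mem hl.1 hm.1, by
        rw [show l * m * a * (l * m)⁻¹ * a⁻¹ = (l * (m * a * m⁻¹ * a⁻¹) * l⁻¹) * (l * a * l⁻¹ * a⁻¹) by group]
        exact N₂.mul_mem (conj_mem hLN₂ hl.1 hm.2) hl.2⟩
      inv_mem' := fun {l} hl => ⟨L.inv_mem hl.1, by
        rw [show l⁻¹ * a * l⁻¹⁻¹ * a⁻¹ = l⁻¹ * (l * a * l⁻¹ * a⁻¹)⁻¹ * l⁻¹⁻¹ by group]
        exact conj_mem hLN₂ (L.inv_mem hl.1) (N₂.inv_mem hl.2)⟩ }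
  have hPT : P ≤ T₀ := fun x hx => by
    refine ⟨hM.PL hx, hA₂N₂ ⟨A.mul_mem (conj_mem hM.normA (hM.PS hx) ha.1) (A.inv_mem ha.1), hd x (hM.PL hx)⟩⟩
  -- classes modulo `N₂`
  haveI hn2 : (N₂.subgroupOf E).Normal := ⟨fun b hb e => by
    rw [Subgroup.mem_subgroupOf] at hb ⊢; simpa using hEN₂ e e.2 b hb⟩
  have hT₀ : T₀ < L := by
    refine lt_of_le_of_ne (fun l hl => hl.1) fun h => ?_
    have hW' : Subgroup.zpowers a ⊔ N₂ = E := by
      refine hT.gen _ (sup_le (Subgroup.zpowers_le.2 haE) (hN₂N.le.trans hT.sec.le)) (fun b hb => ?_) fun l hl => ?_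
      · obtain ⟨i, hi⟩ := hdec b hb.2
        rw [show b = a ^ i * ((a ^ i)⁻¹ * b) by group]
        exact mul_mem (Subgroup.mem_sup_left (Subgroup.npow_mem_zpowers a i))
          (Subgroup.mem_sup_right (hA₂N₂ ⟨A.mul_mem (A.inv_mem (A.pow_mem ha.1 i)) hb.1, hi⟩))
      · refine mem_normalizer_of_forall fun b hb => ?_
        have hle : Subgroup.zpowers a ⊔ N₂ ≤ (Subgroup.zpowers a ⊔ N₂).comap (MulAut.conj l).toMonoidHom := by
          refine sup_le (Subgroup.zpowers_le.2 ?_) fun c hc => Subgroup.mem_sup_right (conj_mem hLN₂ hl hc)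
          show l * a * l⁻¹ ∈ Subgroup.zpowers a ⊔ N₂
          rw [show l * a * l⁻¹ = l * a * l⁻¹ * a⁻¹ * a by group]
          exact mul_mem (Subgroup.mem_sup_right (h.ge hl).2) (Subgroup.mem_sup_left (Subgroup.mem_zpowers a))
        exact hle hb
    refine hN₂N.not_ge fun b hb => ?_
    have hnorm : Subgroup.zpowers a ≤ Subgroup.normalizer (N₂ : Set G) :=
      Subgroup.zpowers_le.2 (mem_normalizer_of_forall (hEN₂ a haE))
    obtain ⟨c, hc, y, hy, rfl⟩ := mem_sup_of_le_normalizer hnorm (show b ∈ N₂ ⊔ Subgroup.zpowers a by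
      rw [sup_comm, hW']; exact hT.sec.le hb)
    have hyN : y ∈ N := by simpa using N.mul_mem (N.inv_mem (hN₂N.le hc)) hb
    refine N₂.mul_mem hc (hA₂N₂ ⟨?_, hyN⟩)
    exact (Subgroup.zpowers_le.2 ha.1) hy
  -- a conjugation invariant description
  have hmid : ∀ m ∈ L, ∀ t ∈ L, (∀ v ∈ N, t * v * t⁻¹ * v⁻¹ ∈ N₂) →
      m * t * m⁻¹ * a * (m * t * m⁻¹)⁻¹ * a⁻¹ * (m * (t * a * t⁻¹ * a⁻¹) * m⁻¹)⁻¹ ∈ N₂ := by
    intro m hm t ht htN
    set v := m⁻¹ * a * m * a⁻¹ with hv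
    have hvN : v ∈ N := by simpa [hv] using hd m⁻¹ (L.inv_mem hm)
    set dt := t * a * t⁻¹ * a⁻¹ with hdt
    have hdtN : dt ∈ N := hd t ht
    have h1 := conj_mem hLN₂ hm (N₂.mul_mem (htN v hvN) (hsec2.comm v hvN dt hdtN))
    convert h1 using 1
    rw [hv, hdt]
    group
  have hkey : ∀ l ∈ L, (∀ v ∈ N, l * v * l⁻¹ * v⁻¹ ∈ N₂) → ∀ i : ℕ,
      l ^ i * a * (l ^ i)⁻¹ * a⁻¹ * ((l * a * l⁻¹ * a⁻¹) ^ i)⁻¹ ∈ N₂ := by
    intro l hl hlN i
    induction i with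
    | zero => simp [N₂.one_mem]
    | succ i ih =>
      set δ := l * a * l⁻¹ * a⁻¹ with hδ
      have hδN : δ ∈ N := hd l hl
      have hδi : δ ^ i ∈ N := N.pow_mem hδN i
      have e : l ^ (i + 1) * a * (l ^ (i + 1))⁻¹ * a⁻¹ * (δ ^ (i + 1))⁻¹ =
          (l * (l ^ i * a * (l ^ i)⁻¹ * a⁻¹ * (δ ^ i)⁻¹) * l⁻¹) * (l * δ ^ i * l⁻¹ * (δ ^ i)⁻¹) := by
        rw [pow_succ' l i, pow_succ δ i, hδ]; group
      rw [e]
      exact N₂.mul_mem (conj_mem hLN₂ hl ih) (hlN _ hδi)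
  by_cases htriv : ∀ l ∈ L, ∀ v ∈ N, l * v * l⁻¹ * v⁻¹ ∈ N₂
  · refine hT₀.ne (eq_of_pow_mem hPT hT₀.le hM.idx (fun m hm t ht => ⟨L.mul_mem (L.mul_mem hm ht.1) (L.inv_mem hm), ?_⟩)
      fun l hl => ⟨L.pow_mem hl p, ?_⟩)
    · have h := hmid m hm t ht.1 (htriv t ht.1)
      have h' := N₂.mul_mem h (conj_mem hLN₂ hm ht.2)
      rwa [inv_mul_cancel_right] at h'
    · have h := hkey l hl (htriv l hl) p
      have h' := N₂.mul_mem h (hsec2.pow _ (hd l hl))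
      rwa [inv_mul_cancel_right] at h'
  push Not at htriv
  obtain ⟨l₀, hl₀, v₀, hv₀, hlv⟩ := htriv
  obtain ⟨n, k, k', hnL, hnP, -, -, -, hneg, -, -⟩ := exists_torus_section hp2 hM.gen hsec2 hM.PL
    (hM.sylow.to_le hM.PS) hM.idx (fun v hv => hM.quad v (hED (hT.sec.le hv)))
    (fun v hv => hM.quad' v (hED (hT.sec.le hv))) ⟨l₀, hl₀, v₀, hv₀, hlv⟩
  set z := n ^ ((p - 1) / 2) with hz
  have hzL : z ∈ L := L.pow_mem hnL _
  have hza : z * a * z⁻¹ * a⁻¹ ∈ A₂ := ⟨A.mul_mem ((Subgroup.mem_normalizer_iff.1 (hM.fix z hzL (Subgroup.pow_mem _ hnP _)) a).1 ha.1)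
    (A.inv_mem ha.1), hd z hzL⟩
  -- the kernel on `N / N₂`
  let R : Subgroup G :=
    { carrier := {l | l ∈ L ∧ ∀ v ∈ N, l * v * l⁻¹ * v⁻¹ ∈ N₂}
      one_mem' := ⟨L.one_mem, fun v _ => by simp [N₂.one_mem]⟩
      mul_mem' := fun {l m} hl hm => ⟨L.mul_mem hl.1 hm.1, fun v hv => by
        rw [show l * m * v * (l * m)⁻¹ * v⁻¹ = (l * (m * v * m⁻¹ * v⁻¹) * l⁻¹) * (l * v * l⁻¹ * v⁻¹) by group]
        exact N₂.mul_mem (conj_mem hLN₂ hl.1 (hm.2 v hv)) (hl.2 v hv)⟩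
      inv_mem' := fun {l} hl => ⟨L.inv_mem hl.1, fun v hv => by
        rw [show l⁻¹ * v * l⁻¹⁻¹ * v⁻¹ = l⁻¹ * (l * v * l⁻¹ * v⁻¹)⁻¹ * l⁻¹⁻¹ by group]
        exact conj_mem hLN₂ (L.inv_mem hl.1) (N₂.inv_mem (hl.2 v hv))⟩ }
  have hRn : ∀ m ∈ L, ∀ r ∈ R, m * r * m⁻¹ ∈ R := fun m hm r hr => ⟨L.mul_mem (L.mul_mem hm hr.1) (L.inv_mem hm),
    fun v hv => by
      have h := conj_mem hLN₂ hm (hr.2 (m⁻¹ * v * m) (by simpa using conj_mem hT.sec.normN (L.inv_mem hm) hv))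
      rwa [show m * (r * (m⁻¹ * v * m) * r⁻¹ * (m⁻¹ * v * m)⁻¹) * m⁻¹ =
        m * r * m⁻¹ * v * (m * r * m⁻¹)⁻¹ * v⁻¹ by group] at h⟩
  have hPR : ¬ p ∣ (P ⊓ R).relIndex R :=
    StrongFusion.not_dvd_relIndex_inf hM.PL (hM.sylow.to_le hM.PS) hM.idx (fun r hr => hr.1) hRn
  have hRT : T₀ ⊓ R = R := eq_of_pow_mem (inf_le_inf_right R hPT) inf_le_right hPR
    (fun m hm t ht => ⟨⟨(hRn m hm.1 t ht.2).1, by
      have h' := N₂.mul_mem (hmid m hm.1 t ht.1.1 ht.2.2) (conj_mem hLN₂ hm.1 ht.1.2)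
      rwa [inv_mul_cancel_right] at h'⟩, hRn m hm.1 t ht.2⟩)
    (fun r hr => ⟨⟨L.pow_mem hr.1 p, by
      have h' := N₂.mul_mem (hkey r hr.1 hr.2 p) (hsec2.pow _ (hd r hr.1))
      rwa [inv_mul_cancel_right] at h'⟩, R.pow_mem hr p⟩)
  refine hT₀.not_ge fun l hl => ⟨hl, ?_⟩
  set δ := l * a * l⁻¹ * a⁻¹ with hδ
  have hδN : δ ∈ N := hd l hl
  set e := z * l * z⁻¹ * l⁻¹ with he
  have heL : e ∈ L := L.mul_mem (L.mul_mem (L.mul_mem hzL hl) (L.inv_mem hzL)) (L.inv_mem hl)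
  have hinv : ∀ v ∈ N, v⁻¹ ∈ N := fun v hv => N.inv_mem hv
  -- work modulo `N₂`
  let ev : G → G → Prop := fun x y => x * y⁻¹ ∈ N₂
  have heR : e ∈ R := ⟨heL, fun v hv => by
    -- `z` acts as inversion
    set w := z⁻¹ * l⁻¹ * v * l * z with hw
    have hwN : w ∈ N := by
      have h1 := conj_mem hT.sec.normN (L.mul_mem (L.inv_mem hzL) (L.inv_mem hl)) hv
      simpa [hw, mul_assoc] using h1
    set c := l⁻¹ * v * l with hc
    have hcN : c ∈ N := by simpa [hc] using conj_mem hT.sec.normN (L.inv_mem hl) hv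
    -- `l⁻¹ v l = z w z⁻¹ ≡ w⁻¹`, and `z (l w l⁻¹) z⁻¹ ≡ (l w l⁻¹)⁻¹`
    have h1 : c * w ∈ N₂ := by
      have := hneg w hwN
      rwa [show z * w * z⁻¹ = c by rw [hw, hc]; group] at this
    have h2 := hneg (l * w * l⁻¹) (conj_mem hT.sec.normN hl hwN)
    have h3 := conj_mem hLN₂ hl h1
    have h4 : v * (l * w * l⁻¹) ∈ N₂ := by
      rwa [show l * (c * w) * l⁻¹ = v * (l * w * l⁻¹) by rw [hc]; group] at h3
    have h5 := N₂.mul_mem h2 (N₂.inv_mem h4)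
    rwa [show z * (l * w * l⁻¹) * z⁻¹ * (l * w * l⁻¹) * (v * (l * w * l⁻¹))⁻¹ = e * v * e⁻¹ * v⁻¹ by
      rw [he, hw]; group] at h5⟩
  have heT : e * a * e⁻¹ * a⁻¹ ∈ N₂ := (hRT.ge heR).1.2
  -- `z (l a l⁻¹) z⁻¹ ≡ l a l⁻¹`
  have h1 : z * (l * a * l⁻¹) * z⁻¹ * (l * a * l⁻¹)⁻¹ ∈ N₂ := by
    have hu := N₂.mul_mem (conj_mem hLN₂ heL (conj_mem hLN₂ hl (hA₂N₂ hza)))
      (N₂.mul_mem (heR.2 δ hδN) (hEN₂ δ (hT.sec.le hδN) _ heT))
    convert hu using 1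
    rw [he, hδ]
    group
  -- `z (δ a) z⁻¹ ≡ δ⁻¹ a`
  have h2 : z * δ * z⁻¹ * δ⁻¹ ∈ N₂ := by
    have h := N₂.mul_mem h1 (hEN₂ (δ) (hT.sec.le hδN) _ (hA₂N₂ hza))
    have h' := hsec2.comm (z * δ * z⁻¹) (conj_mem hT.sec.normN hzL hδN) (z * a * z⁻¹ * a⁻¹) (hA₂N (hza))
    have h3 : z * (l * a * l⁻¹) * z⁻¹ = z * δ * z⁻¹ * ((z * a * z⁻¹ * a⁻¹) * a) := by rw [hδ]; group
    rw [h3] at h1
    have h4 := N₂.mul_mem (hEN₂ _ (hT.sec.le (conj_mem hT.sec.normN hzL hδN)) _ (N₂.inv_mem (hA₂N₂ hza))) h1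
    convert h4 using 1
    rw [hδ]
    group
  have h3 : δ * δ ∈ N₂ := by
    have h := N₂.mul_mem (N₂.inv_mem h2) (hneg δ hδN)
    rwa [show (z * δ * z⁻¹ * δ⁻¹)⁻¹ * (z * δ * z⁻¹ * δ) = δ * δ by group] at h
  obtain ⟨r, hr⟩ := hp.out.odd_of_ne_two hp2
  have h4 : δ = δ ^ p * ((δ * δ) ^ r)⁻¹ := by
    rw [← pow_two, ← pow_mul, hr, pow_succ']
    group
  rw [h4]
  exact N₂.mul_mem (hsec2.pow δ hδN) (N₂.inv_mem (N₂.pow_mem h3 r))

end CfsgLib.ZJFailure
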