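import Cfsg.Agent.Lib.ZJFailure.Coords
import Cfsg.Agent.Lib.StrongFusion.Chain
import Mathlib.RingTheory.IntegralDomain
import Mathlib.FieldTheory.Finite.Basic

/-!
The torus of an irreducible quadratic pair: an element of `p'`-order normalising a given Sylow
subgroup, acting on its fixed points by a scalar of order `p - 1`.
-/

set_option autoImplicit false
set_option linter.unusedSectionVars false
set_option linter.style.haveILetI false

namespace CfsgLib.ZJFailure

open CfsgLib.Dickson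
open scoped Matrix

universe w

variable {p : ℕ} [hp : Fact p.Prime]

section Triangular

variable {K : Type*} [Field K]

local notation "SL" => Matrix.SpecialLinearGroup (Fin 2) K

theorem pow_tri {g : SL} (h10 : g.1 1 0 = 0) (m : ℕ) :
    (g ^ m).1 1 0 = 0 ∧ (g ^ m).1 0 0 = g.1 0 0 ^ m ∧ (g ^ m).1 1 1 = g.1 1 1 ^ m := by
  induction m with
  | zero => simp
  | succ m ih =>
    obtain ⟨i1, i2, i3⟩ := ih
    refine ⟨?_, ?_, ?_⟩ <;> rw [pow_succ, mul_entry]
    · rw [i1, h10]; simp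
    · rw [i2, h10]; simp [pow_succ]
    · rw [i1, i3]; simp [pow_succ]

/-- A triangular element of `p'`-order with diagonal one is trivial. -/
theorem eq_one_of_tri [CharP K p] {g : SL} {m : ℕ} (hm : g ^ m = 1) (hpm : ¬ p ∣ m)
    (h10 : g.1 1 0 = 0) (h00 : g.1 0 0 = 1) : g = 1 := by
  have hd := det_eq g
  rw [h10, h00, one_mul, mul_zero, sub_zero] at hd
  obtain ⟨t, rfl⟩ := eq_up_iff.2 ⟨h10, by rw [Matrix.trace_fin_two, h00, hd, one_add_one_eq_two]⟩
  rw [up_pow] at hm
  have h1 := congrArg (fun g : SL => g.1 0 1) hm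
  have hne : (m : K) ≠ 0 := fun h => hpm ((CharP.cast_eq_zero_iff K p m).1 h)
  simp [hne] at h1
  rw [h1, up_zero]

/-- An involution of `SL₂` in odd characteristic. -/
theorem eq_neg_one_of_sq [NeZero (2 : K)] {g : SL} (h2 : g ^ 2 = 1) (h1 : g ≠ 1) : g.1 = -1 := by
  have hd := det_eq g
  have hinv : g⁻¹ = g := inv_eq_of_mul_eq_one_right (by rw [← pow_two]; exact h2)
  obtain ⟨a, b, c, -⟩ := inv_entries g
  rw [hinv] at a b c
  have hb : g.1 0 1 = 0 := by
    have h : 2 * g.1 0 1 = 0 := by linear_combination b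
    exact (mul_eq_zero.1 h).resolve_left two_ne_zero
  have hc : g.1 1 0 = 0 := by
    have h : 2 * g.1 1 0 = 0 := by linear_combination c
    exact (mul_eq_zero.1 h).resolve_left two_ne_zero
  rw [hb, hc, mul_zero, sub_zero, ← a] at hd
  have h3 : (g.1 0 0 - 1) * (g.1 0 0 + 1) = 0 := by linear_combination hd
  rcases mul_eq_zero.1 h3 with h | h
  · refine absurd (ext_entries ?_ ?_ ?_ ?_) h1
    · simpa using sub_eq_zero.1 h
    · simpa using hb
    · simpa using hc
    · simpa [← a] using sub_eq_zero.1 h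
  · have h4 := eq_neg_of_add_eq_zero_left h
    ext i j
    fin_cases i <;> fin_cases j
    · simpa using h4
    · simpa using hb
    · simpa using hc
    · simpa [← a] using h4

end Triangular

variable {U : Type w} [AddCommGroup U] [Finite U]

/-- A pair of commuting square-zero endomorphisms kills a non-zero vector. -/
theorem exists_killed {A B : AddMonoid.End U} (hA : A * A = 0) (hB : B * B = 0) (hAB : A * B = B * A)
    (hU : ∃ u : U, u ≠ 0) : ∃ u : U, u ≠ 0 ∧ A u = 0 ∧ B u = 0 := by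
  obtain ⟨u, hu⟩ := hU
  have hA' : ∀ v, A (A v) = 0 := fun v => DFunLike.congr_fun hA v
  have hB' : ∀ v, B (B v) = 0 := fun v => DFunLike.congr_fun hB v
  have hAB' : ∀ v, A (B v) = B (A v) := fun v => DFunLike.congr_fun hAB v
  obtain ⟨v, hv, hAv⟩ : ∃ v, v ≠ 0 ∧ A v = 0 := by
    by_cases h : A u = 0
    · exact ⟨u, hu, h⟩
    · exact ⟨A u, h, hA' u⟩
  by_cases h : B v = 0
  · exact ⟨v, hv, hAv, h⟩
  · exact ⟨B v, h, by rw [hAB', hAv, map_zero], hB' v⟩

set_option maxHeartbeats 1000000 in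
/-- **The torus of an irreducible quadratic pair.** -/
theorem exists_torus_action (hp2 : p ≠ 2) (hpU : ∀ u : U, p • u = 0) {L : Type*} [Group L] [Finite L]
    (φ : L →* AddMonoid.End U) {q q' : L} (hgen : Subgroup.closure ({q, q'} : Set L) = ⊤)
    (hq : (φ q - 1) * (φ q - 1) = 0) (hq' : (φ q' - 1) * (φ q' - 1) = 0)
    (hirr : ∀ W : AddSubgroup U, (∀ g, ∀ w ∈ W, φ g w ∈ W) → W = ⊥ ∨ W = ⊤)
    (hnt : ∃ g, φ g ≠ 1) (P : Sylow p L) :
    ∃ (n : L) (k k' : ℕ), n ∈ Subgroup.normalizer ((P : Subgroup L) : Set L) ∧ (orderOf n).Coprime p ∧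
      orderOf (k : ZMod p) = p - 1 ∧ (k : ZMod p) * k' = 1 ∧
      (∀ w, φ (n ^ ((p - 1) / 2)) w = -w) ∧
      (∀ w, (∀ x ∈ P, φ x w = w) → φ n w = k • w) ∧
      ∀ e1, e1 ≠ 0 → (∀ x ∈ P, φ x e1 = e1) → ∃ e2, ∃ u ∈ P, φ u e2 = e1 + e2 ∧ φ n e2 = k' • e2 ∧
        φ (n * u * n⁻¹) = φ u ^ (k * k) := by
  classical
  set A := φ q - 1 with hAd
  set B := φ q' - 1 with hBd
  have hφA : φ q = 1 + A := by rw [hAd, add_sub_cancel]
  have hφB : φ q' = 1 + B := by rw [hBd, add_sub_cancel]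
  -- invariance can be checked on the generators
  have hinv : ∀ W : AddSubgroup U, (∀ w ∈ W, A w ∈ W) → (∀ w ∈ W, B w ∈ W) → ∀ g, ∀ w ∈ W, φ g w ∈ W := by
    intro W hWA hWB
    let M : Submonoid L :=
      { carrier := {g | ∀ w ∈ W, φ g w ∈ W}
        one_mem' := fun w hw => by simpa using hw
        mul_mem' := fun {g h} hg hh w hw => by rw [map_mul]; exact hg _ (hh w hw) }
    intro g
    have hg : g ∈ Subgroup.closure ({q, q'} : Set L) := hgen ▸ Subgroup.mem_top g
    have hg' : g ∈ Submonoid.closure ({q, q'} : Set L) := by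
      rw [← Subgroup.closure_toSubmonoid_of_finite]; exact hg
    refine (Submonoid.closure_le.2 ?_ : _ ≤ M) hg'
    rintro x (rfl | rfl) w hw
    · rw [hφA]; exact W.add_mem hw (hWA w hw)
    · rw [hφB]; exact W.add_mem hw (hWB w hw)
  have hirr2 : ∀ W : AddSubgroup U, (∀ w ∈ W, A w ∈ W) → (∀ w ∈ W, B w ∈ W) → W = ⊥ ∨ W = ⊤ :=
    fun W h1 h2 => hirr W (hinv W h1 h2)
  obtain ⟨g₀, hg₀⟩ := hnt
  have hne : A * B ≠ B * A := by
    intro hAB
    obtain ⟨u₀, hu₀⟩ : ∃ u : U, u ≠ 0 := by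
      by_contra h
      push Not at h
      exact hg₀ (AddMonoidHom.ext fun v => (h _).trans (h _).symm)
    obtain ⟨u, hu, h1, h2⟩ := exists_killed hq hq' hAB ⟨u₀, hu₀⟩
    rcases hirr2 (AddMonoidHom.ker A ⊓ AddMonoidHom.ker B)
      (fun w hw => by rw [show A w = 0 from hw.1]; exact zero_mem _)
      (fun w hw => by rw [show B w = 0 from hw.2]; exact zero_mem _) with h | h
    · exact hu (AddSubgroup.mem_bot.1 (h ▸ (show u ∈ AddMonoidHom.ker A ⊓ AddMonoidHom.ker B from ⟨h1, h2⟩)))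
    · have hk : ∀ v, A v = 0 ∧ B v = 0 := fun v => h.ge (AddSubgroup.mem_top v)
      apply hg₀
      let M : Submonoid L :=
        { carrier := {g | φ g = 1}
          one_mem' := map_one φ
          mul_mem' := fun {g h} (hg : φ g = 1) (hh : φ h = 1) => by
            show φ (g * h) = 1
            rw [map_mul, hg, hh, one_mul] }
      have hg : g₀ ∈ Submonoid.closure ({q, q'} : Set L) := by
        rw [← Subgroup.closure_toSubmonoid_of_finite]
        exact (hgen ▸ Subgroup.mem_top g₀ : g₀ ∈ Subgroup.closure ({q, q'} : Set L))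
      refine (Submonoid.closure_le.2 ?_ : _ ≤ M) hg
      rintro x (rfl | rfl)
      · show φ _ = 1
        rw [hφA, show A = 0 from AddMonoidHom.ext fun v => (hk v).1, add_zero]
      · show φ _ = 1
        rw [hφB, show B = 0 from AddMonoidHom.ext fun v => (hk v).2, add_zero]
  obtain ⟨R, _, _, _, f, c, ⟨hfi, hfs⟩, hc, hfA, hfB⟩ := exists_coords hpU hq hq' hirr2 hne
  haveI : NeZero (2 : R) := ⟨Ring.two_ne_zero (by rwa [ringChar.eq R p])⟩
  -- the matrices of the elements
  let M : Submonoid L :=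
    { carrier := {g | ∃ m : Matrix.SpecialLinearGroup (Fin 2) R, ∀ w, φ g (f w) = f (m.1 *ᵥ w)}
      one_mem' := ⟨1, fun w => by simp⟩
      mul_mem' := fun {g h} ⟨m, hm⟩ ⟨m', hm'⟩ => ⟨m * m', fun w => by
        rw [map_mul]
        show φ g (φ h (f w)) = _
        rw [hm', hm, Matrix.mulVec_mulVec, Matrix.SpecialLinearGroup.coe_mul]⟩ }
  have hq1 : ∀ w, φ q (f w) = f ((up c).1 *ᵥ w) := fun w => by
    rw [hφA]
    show f w + A (f w) = _
    rw [hfA, ← map_add]
    congr 1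
    funext i; fin_cases i <;> simp [Matrix.mulVec, dotProduct, Fin.sum_univ_two]
  have hq'1 : ∀ w, φ q' (f w) = f ((lo (1 : R)).1 *ᵥ w) := fun w => by
    rw [hφB]
    show f w + B (f w) = _
    rw [hfB, ← map_add]
    congr 1
    funext i; fin_cases i <;> simp [Matrix.mulVec, dotProduct, Fin.sum_univ_two, add_comm]
  have hall : ∀ g, g ∈ M := fun g => by
    have hg : g ∈ Submonoid.closure ({q, q'} : Set L) := by
      rw [← Subgroup.closure_toSubmonoid_of_finite]
      exact (hgen ▸ Subgroup.mem_top g : g ∈ Subgroup.closure ({q, q'} : Set L))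
    refine (Submonoid.closure_le.2 ?_ : _ ≤ M) hg
    rintro x (rfl | rfl)
    exacts [⟨_, hq1⟩, ⟨_, hq'1⟩]
  have huniq : ∀ {m m' : Matrix.SpecialLinearGroup (Fin 2) R}, (∀ w, f (m.1 *ᵥ w) = f (m'.1 *ᵥ w)) → m = m' := by
    intro m m' h
    refine Subtype.ext (Matrix.ext fun i j => ?_)
    have := congrFun (hfi (h (Pi.single j 1))) i
    simpa using this
  choose ρ₀ hρ₀ using hall
  let ρ : L →* Matrix.SpecialLinearGroup (Fin 2) R := MonoidHom.mk' ρ₀ fun g h => huniq fun w => by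
    rw [← hρ₀, map_mul]
    show φ g (φ h (f w)) = _
    rw [hρ₀, hρ₀, Matrix.mulVec_mulVec, Matrix.SpecialLinearGroup.coe_mul]
  have hρ : ∀ g w, φ g (f w) = f ((ρ g).1 *ᵥ w) := hρ₀
  have hρq : ρ q = up c := huniq fun w => by rw [← hρ, hq1]
  have hρq' : ρ q' = lo 1 := huniq fun w => by rw [← hρ, hq'1]
  haveI : Finite ρ.range := Finite.of_surjective _ ρ.rangeRestrict_surjective
  obtain ⟨H, hH, ⟨e⟩⟩ := Dickson.dickson p hp2 ρ.range ⟨_, ⟨q, hρq⟩, _, ⟨q', hρq'⟩, trace_up c,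
    by simp [Matrix.trace_fin_two, one_add_one_eq_two], fun h => hc (by
      have := congrArg (fun g : Matrix.SpecialLinearGroup (Fin 2) R => g.1 0 0) h
      simpa [mul_entry] using this)⟩
  -- the generator of the multiplicative group
  obtain ⟨t, ht⟩ := IsCyclic.exists_ofOrder_eq_natCard (α := (ZMod p)ˣ)
  rw [Nat.card_eq_fintype_card, ZMod.card_units] at ht
  set m := (p - 1) / 2 with hm
  have h2m : 2 * m = p - 1 := by
    have hodd := hp.out.odd_of_ne_two hp2
    obtain ⟨r, hr⟩ := hodd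
    omega
  have hmpos : 0 < m := by
    have := hp.out.two_le
    rcases Nat.eq_zero_or_pos m with h | h
    · omega
    · exact h
  obtain ⟨a', haa⟩ : ∃ a' : ZMod p, (t : ZMod p) * a' = 1 := ⟨_, t.mul_inv⟩
  have hta : (↑(t⁻¹) : ZMod p) = a' := Units.inv_eq_of_mul_eq_one_right haa
  let d : Matrix.SpecialLinearGroup (Fin 2) (ZMod p) :=
    ⟨!![(t : ZMod p), 0; 0, a'], by rw [Matrix.det_fin_two_of, haa]; simp⟩
  have hdpow : ∀ i : ℕ, (d ^ i).1 1 0 = 0 ∧ (d ^ i).1 0 0 = (t : ZMod p) ^ i ∧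
      (d ^ i).1 1 1 = a' ^ i := fun i => pow_tri (show d.1 1 0 = 0 from rfl) i
  have hdp : d ^ (p - 1) = 1 := by
    obtain ⟨h10, h00, h11⟩ := hdpow (p - 1)
    have e1 : t ^ (p - 1) = 1 := by rw [← ht]; exact pow_orderOf_eq_one t
    have h01 : ∀ i : ℕ, (d ^ i).1 0 1 = 0 := fun i => by
      induction i with
      | zero => simp
      | succ i ih =>
        rw [pow_succ, mul_entry, ih, show d.1 0 1 = 0 from rfl]
        simp
    refine ext_entries ?_ (by simp [h01]) (by simp [h10]) ?_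
    · rw [h00, ← Units.val_pow_eq_pow_val, e1]; simp
    · rw [h11, ← hta, ← Units.val_pow_eq_pow_val, inv_pow, e1]; simp
  have hdord : ∀ i : ℕ, d ^ i = 1 → p - 1 ∣ i := fun i h => by
    have h00 := (hdpow i).2.1
    rw [h] at h00
    rw [← ht]
    refine orderOf_dvd_of_pow_eq_one (Units.ext ?_)
    simpa using h00.symm
  have hdup : d * up 1 = up ((t : ZMod p) ^ 2) * d := by
    have e00 : d.1 0 0 = (t : ZMod p) := rfl
    have e01 : d.1 0 1 = 0 := rfl
    have e10 : d.1 1 0 = 0 := rfl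
    have e11 : d.1 1 1 = a' := rfl
    apply ext_entries <;> simp [mul_entry, pow_two, e00, e01, e10, e11]
    rw [mul_assoc, haa, mul_one]
  -- transport to `ρ.range`
  let em : Matrix.SpecialLinearGroup (Fin 2) (ZMod p) →* Matrix.SpecialLinearGroup (Fin 2) R :=
    H.subtype.comp e.symm.toMonoidHom
  have hemi : Function.Injective em := H.subtype_injective.comp e.symm.injective
  have hemr : ∀ x, em x ∈ ρ.range := fun x => hH (e.symm x).2
  -- move the unipotent into the image of `P`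
  set Pb : Sylow p ρ.range := P.mapSurjective ρ.rangeRestrict_surjective with hPb
  have hup1 : (up (1 : ZMod p)) ^ p ^ 1 = 1 := by rw [up_pow]; simp [up_zero]
  have hlo1 : (lo (1 : ZMod p)) ^ p ^ 1 = 1 := by rw [lo_pow]; apply ext_entries <;> simp
  have hzp : IsPGroup p (Subgroup.zpowers (⟨em (up 1), hemr _⟩ : ρ.range)) := by
    refine IsPGroup.of_card_dvd_pow (n := 1) ?_
    rw [Nat.card_zpowers]
    refine orderOf_dvd_of_pow_eq_one (Subtype.ext ?_)
    rw [Subgroup.coe_pow, ← map_pow, hup1, map_one, Subgroup.coe_one]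
  obtain ⟨Q, hQ⟩ := hzp.exists_le_sylow
  obtain ⟨g, hg⟩ := MulAction.exists_smul_eq ρ.range Q Pb
  let em' : Matrix.SpecialLinearGroup (Fin 2) (ZMod p) →* Matrix.SpecialLinearGroup (Fin 2) R :=
    (MulAut.conj (g : Matrix.SpecialLinearGroup (Fin 2) R)).toMonoidHom.comp em
  have hem'i : Function.Injective em' := (MulAut.conj _).injective.comp hemi
  have hem'r : ∀ x, em' x ∈ ρ.range := fun x => mul_mem (mul_mem g.2 (hemr x)) (inv_mem g.2)
  have hu1 : (⟨em' (up 1), hem'r _⟩ : ρ.range) ∈ (Pb : Subgroup ρ.range) := by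
    rw [← hg, Sylow.coe_subgroup_smul, Subgroup.pointwise_smul_def]
    exact ⟨⟨em (up 1), hemr _⟩, hQ (Subgroup.mem_zpowers _), Subtype.ext rfl⟩
  -- triangular coordinates
  have htr : ∀ x, x ^ p ^ 1 = 1 → (em' x).1.trace = 2 := fun x hx =>
    trace_of_pow p (k := 1) (by rw [← map_pow, hx, map_one])
  have huv : em' (up 1) * em' (lo 1) ≠ em' (lo 1) * em' (up 1) := by
    intro h
    rw [← map_mul, ← map_mul] at h
    have := congrArg (fun g : Matrix.SpecialLinearGroup (Fin 2) (ZMod p) => g.1 0 0) (hem'i h)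
    simp [mul_entry] at this
  obtain ⟨Mc, b, b', hb, -, hMu, -⟩ := exists_conj_up_lo (htr _ hup1) (htr _ hlo1) huv
  set cj := conjBy Mc with hcj
  have hPup : ∀ x ∈ P, ∃ β, cj (ρ x) = up β := by
    intro x hx
    have hmem : ∀ y ∈ (Pb : Subgroup ρ.range), (cj (y : Matrix.SpecialLinearGroup (Fin 2) R)).1.trace = 2 := by
      intro y hy
      obtain ⟨i, hi⟩ := Pb.2 ⟨y, hy⟩
      refine trace_of_pow p (k := i) ?_
      rw [← map_pow, ← Subgroup.coe_pow, show y ^ p ^ i = 1 from congrArg Subtype.val hi, Subgroup.coe_one, map_one]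
    have hx' : ρ.rangeRestrict x ∈ (Pb : Subgroup ρ.range) := ⟨x, hx, rfl⟩
    have h1 := hmem _ hx'
    have h2 := hmem _ (mul_mem hx' hu1)
    rw [Subgroup.coe_mul, map_mul, hMu] at h2
    set y := cj (ρ.rangeRestrict x : Matrix.SpecialLinearGroup (Fin 2) R) with hy
    refine eq_up_iff.2 ⟨?_, h1⟩
    show y.1 1 0 = 0
    rw [Matrix.trace_fin_two] at h1 h2
    simp only [mul_entry, coe_up] at h2
    simp at h2
    have h3 : y.1 1 0 * b = 0 := by linear_combination h2 - h1
    exact (mul_eq_zero.1 h3).resolve_right hb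
  -- the torus element
  set h₁ := em' d with hh₁
  set H1 := cj h₁ with hH1
  have hrel : H1 * up b = up (((t : ZMod p) ^ 2).val * b) * H1 := by
    rw [← hMu, hH1, hh₁, ← map_mul, ← map_mul, hdup, map_mul, map_mul,
      show (up ((t : ZMod p) ^ 2) : Matrix.SpecialLinearGroup (Fin 2) (ZMod p)) = up 1 ^ ((t : ZMod p) ^ 2).val by
        rw [up_pow, mul_one, ZMod.natCast_zmod_val],
      map_pow, map_pow, hMu, up_pow]
  have h10 : H1.1 1 0 = 0 := by
    have h := congrArg (fun g : Matrix.SpecialLinearGroup (Fin 2) R => g.1 1 1) hrel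
    simp only [mul_entry] at h
    simp at h
    exact h.resolve_right hb
  have hdet := det_eq H1
  rw [h10, mul_zero, sub_zero] at hdet
  set lam := H1.1 0 0 with hlam
  have hlam2 : lam ^ 2 = ((((t : ZMod p) ^ 2).val : ℕ) : R) := by
    have h := congrArg (fun g : Matrix.SpecialLinearGroup (Fin 2) R => g.1 0 1) hrel
    simp only [mul_entry, coe_up] at h
    generalize (((t : ZMod p) ^ 2).val : R) = s2 at h ⊢
    simp at h
    have h' : lam * b = s2 * b * H1.1 1 1 := by linear_combination h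
    have h'' : (lam ^ 2 - s2) * b = 0 := by
      linear_combination lam * h' + s2 * b * hdet
    exact sub_eq_zero.1 ((mul_eq_zero.1 h'').resolve_right hb)
  let ι : ZMod p →+* R := ZMod.castHom dvd_rfl R
  have hι : ∀ i : ℕ, ι (i : ZMod p) = (i : R) := fun i => map_natCast ι i
  obtain ⟨t0, ht0⟩ : ∃ t0 : ZMod p, lam = ι t0 := by
    rw [← hι, ZMod.natCast_zmod_val, map_pow] at hlam2
    rcases sq_eq_sq_iff_eq_or_eq_neg.1 hlam2 with h | h
    · exact ⟨_, h⟩
    · exact ⟨-(t : ZMod p), by rw [map_neg]; exact h⟩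
  have hH1p : H1 ^ (p - 1) = 1 := by rw [hH1, hh₁, ← map_pow, ← map_pow, hdp, map_one, map_one]
  have hpnd : ¬ p ∣ p - 1 := fun h => by
    have := hp.out.two_le
    have := Nat.le_of_dvd (by omega) h
    omega
  have hH1ord : ∀ i : ℕ, H1 ^ i = 1 → p - 1 ∣ i := fun i h => by
    refine hdord i (hem'i ?_)
    rw [map_pow, map_one]
    refine cj.injective ?_
    rw [map_pow, map_one]
    exact h
  set k := t0.val with hk
  set k' := (t0⁻¹).val with hk'
  have hkz : (k : ZMod p) = t0 := ZMod.natCast_zmod_val _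
  have hkR : (k : R) = lam := by rw [← hι, hkz, ht0]
  have ht00 : t0 ≠ 0 := by
    intro h
    rw [h, map_zero] at ht0
    rw [ht0, zero_mul] at hdet
    exact one_ne_zero hdet.symm
  have hkk : (k : ZMod p) * k' = 1 := by rw [hkz, hk', ZMod.natCast_zmod_val, mul_inv_cancel₀ ht00]
  have hk'R : (k' : R) = H1.1 1 1 := by
    have h1 : (k : R) * k' = 1 := by rw [← hι, ← hι, ← map_mul, hkk, map_one]
    rw [hkR] at h1
    exact mul_left_cancel₀ (left_ne_zero_of_mul_eq_one hdet) (h1.trans hdet.symm)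
  have hkord : orderOf (k : ZMod p) = p - 1 := by
    rw [hkz]
    refine Nat.dvd_antisymm (orderOf_dvd_of_pow_eq_one (ZMod.pow_card_sub_one_eq_one ht00)) (hH1ord _ ?_)
    refine eq_one_of_tri (p := p) (m := p - 1) ?_ hpnd (pow_tri h10 _).1 ?_
    · rw [← pow_mul, mul_comm, pow_mul, hH1p, one_pow]
    · rw [(pow_tri h10 _).2.1, ← hlam, ht0, ← map_pow, pow_orderOf_eq_one, map_one]
  -- lift to `N(P)`
  have hh1norm : ∀ x ∈ P, ∃ y ∈ P, ρ y = h₁ * ρ x * h₁⁻¹ := by
    -- the triangular unipotent elements of the image form a `p`-group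
    let G' : Subgroup ρ.range :=
      { carrier := {y | ∃ β, cj (y : Matrix.SpecialLinearGroup (Fin 2) R) = up β}
        one_mem' := ⟨0, by rw [Subgroup.coe_one, map_one, up_zero]⟩
        mul_mem' := fun {y z} ⟨β, hy⟩ ⟨γ, hz⟩ => ⟨β + γ, by rw [Subgroup.coe_mul, map_mul, hy, hz, up_mul]⟩
        inv_mem' := fun {y} ⟨β, hy⟩ => ⟨-β, by rw [Subgroup.coe_inv, map_inv, hy, up_inv]⟩ }
    have hG' : IsPGroup p G' := fun ⟨y, β, hy⟩ => ⟨1, Subtype.ext (Subtype.ext (cj.injective (by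
      rw [pow_one, Subgroup.coe_pow, Subgroup.coe_pow, map_pow, hy, up_pow, CharP.cast_eq_zero, zero_mul, up_zero,
        Subgroup.coe_one, Subgroup.coe_one, map_one])))⟩
    have hPG : (Pb : Subgroup ρ.range) ≤ G' := by
      rintro _ ⟨x, hx, rfl⟩
      exact hPup x hx
    have hG'eq : G' = (Pb : Subgroup ρ.range) := Pb.3 hG' hPG
    intro x hx
    obtain ⟨β, hβ⟩ := hPup x hx
    have hmem : (⟨h₁ * ρ x * h₁⁻¹, mul_mem (mul_mem (hem'r _) ⟨x, rfl⟩) (inv_mem (hem'r _))⟩ : ρ.range) ∈ G' := by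
      refine ⟨lam ^ 2 * β, ?_⟩
      show cj (h₁ * ρ x * h₁⁻¹) = _
      rw [map_mul, map_mul, map_inv, ← hH1, hβ, mul_inv_eq_iff_eq_mul]
      apply ext_entries <;> simp [mul_entry, h10, ← hlam]
      linear_combination (-(lam * β)) * hdet
    rw [hG'eq] at hmem
    obtain ⟨y, hy, hye⟩ := hmem
    exact ⟨y, hy, congrArg Subtype.val hye⟩
  obtain ⟨g1, hg1⟩ := hem'r d
  set K1 := ((P : Subgroup L).map ρ).comap ρ with hK1
  have hPK : (P : Subgroup L) ≤ K1 := Subgroup.le_comap_map _ _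
  have hg1K : StrongFusion.cm g1 (P : Subgroup L) ≤ K1 := by
    rintro _ ⟨x, hx, rfl⟩
    obtain ⟨y, hy, hye⟩ := hh1norm x hx
    refine ⟨y, hy, ?_⟩
    show ρ y = ρ (g1 * x * g1⁻¹)
    rw [hye, map_mul, map_mul, map_inv, hg1]
  obtain ⟨w, hw, hwP⟩ := StrongFusion.exists_conj_le hPK P.2
    (fun h => P.not_dvd_index (h.trans (Subgroup.relIndex_dvd_index_of_le hPK))) hg1K (P.2.map _)
  obtain ⟨y, hy, hye⟩ := hw
  have hg2 : y⁻¹ * w * g1 ∈ Subgroup.normalizer ((P : Subgroup L) : Set L) := by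
    refine mul_assoc y⁻¹ w g1 ▸ mul_mem (inv_mem (Subgroup.le_normalizer hy)) ?_
    refine Local.mem_normalizer_of_map_conj_eq (Subgroup.eq_of_le_of_card_ge ?_ (StrongFusion.card_cm _ _).ge)
    show StrongFusion.cm (w * g1) (P : Subgroup L) ≤ _
    rw [← StrongFusion.cm_cm]
    exact hwP
  set g2 := y⁻¹ * w * g1 with hg2d
  have hρg2 : ρ g2 = h₁ := by
    rw [hg2d, map_mul, map_mul, map_inv, hye, inv_mul_cancel, one_mul, hg1]
  obtain ⟨j, r, hr, hjr⟩ := Nat.exists_eq_pow_mul_and_not_dvd (orderOf_pos g2).ne' p hp.out.ne_one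
  set n := g2 ^ p ^ j with hn
  have hhp : ∀ i : ℕ, h₁ ^ p ^ i = h₁ := by
    have h1 : h₁ ^ p = h₁ := by
      have : h₁ ^ (p - 1) = 1 := by rw [hh₁, ← map_pow, hdp, map_one]
      calc h₁ ^ p = h₁ ^ (p - 1 + 1) := by rw [Nat.sub_add_cancel hp.out.one_le]
        _ = h₁ := by rw [pow_succ, this, one_mul]
    intro i
    induction i with
    | zero => simp
    | succ i ih => rw [pow_succ, pow_mul, ih, h1]
  have hρn : ρ n = h₁ := by rw [hn, map_pow, hρg2, hhp]
  have hncop : (orderOf n).Coprime p := by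
    refine ((hp.out.coprime_iff_not_dvd.2 hr).symm).coprime_dvd_left (orderOf_dvd_of_pow_eq_one ?_)
    rw [hn, ← pow_mul, ← hjr, pow_orderOf_eq_one]
  -- coordinates adapted to the torus
  let Mm : Matrix (Fin 2) (Fin 2) R := (Mc : Matrix (Fin 2) (Fin 2) R)
  let Mi : Matrix (Fin 2) (Fin 2) R := ((Mc⁻¹ : (Matrix (Fin 2) (Fin 2) R)ˣ) : Matrix (Fin 2) (Fin 2) R)
  let f' : (Fin 2 → R) → U := fun w => f (Mi *ᵥ w)
  have hf' : ∀ x w, φ x (f' w) = f' ((cj (ρ x)).1 *ᵥ w) := fun x w => by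
    show φ x (f (Mi *ᵥ w)) = f (Mi *ᵥ _)
    rw [hρ, hcj, coe_conjBy]
    congr 1
    simp only [Mi, Matrix.mulVec_mulVec, ← Matrix.mul_assoc, Units.inv_mul, Matrix.one_mul]
  have hf'add : ∀ v w, f' (v + w) = f' v + f' w := fun v w => by
    simp only [f', Matrix.mulVec_add, map_add]
  have hf'nsmul : ∀ (i : ℕ) w, f' ((i : R) • w) = i • f' w := fun i w => by
    simp only [f', Nat.cast_smul_eq_nsmul, Matrix.mulVec_smul, map_nsmul]
  have hf'surj : ∀ v, ∃ w, f' w = v := fun v => by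
    obtain ⟨w, rfl⟩ := hfs v
    exact ⟨Mm *ᵥ w, by simp only [f', Mm, Mi, Matrix.mulVec_mulVec, Units.inv_mul, Matrix.one_mulVec]⟩
  have hf'inj : Function.Injective f' := fun v w h => by
    have h1 := congrArg (Mm *ᵥ ·) (hfi h)
    simpa only [Mm, Mi, Matrix.mulVec_mulVec, Units.mul_inv, Matrix.one_mulVec] using h1
  -- an element of `P` realising `up b`
  obtain ⟨u₀, hu₀, hu₀e⟩ := hu1
  have hρu₀ : cj (ρ u₀) = up b := by
    rw [← hMu]
    exact congrArg (fun z : ρ.range => cj (z : Matrix.SpecialLinearGroup (Fin 2) R)) hu₀e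
  have hfix : ∀ w, (∀ x ∈ P, φ x (f' w) = f' w) → w 1 = 0 := by
    intro w hw
    have h := hw u₀ hu₀
    rw [hf', hρu₀] at h
    have h0 := congrFun (hf'inj h) 0
    simp [Matrix.mulVec, dotProduct, Fin.sum_univ_two] at h0
    exact h0.resolve_left hb
  have hnz : ∀ w, φ n (f' w) = f' (H1.1 *ᵥ w) := fun w => by rw [hf', hρn]
  refine ⟨n, k, k', Subgroup.pow_mem _ hg2 _, hncop, hkord, hkk, fun v => ?_, fun v hv => ?_, fun e1 he1 he1P => ?_⟩
  · obtain ⟨w, rfl⟩ := hf'surj v
    have hz : (em' d ^ m).1 = -1 := by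
      refine eq_neg_one_of_sq ?_ fun h => ?_
      · rw [← pow_mul, mul_comm, h2m, ← map_pow, hdp, map_one]
      · have := Nat.le_of_dvd hmpos (hdord m (hem'i (by rw [map_pow, map_one]; exact h)))
        have := hp.out.two_le
        omega
    rw [hf', map_pow, hρn, hcj, coe_conjBy, hh₁, hz]
    simp only [Matrix.mul_neg, Matrix.mul_one, Matrix.neg_mul, Units.mul_inv, Matrix.neg_mulVec, Matrix.one_mulVec]
    show f (Mi *ᵥ -w) = -f (Mi *ᵥ w)
    rw [Matrix.mulVec_neg, map_neg]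
  · obtain ⟨w, rfl⟩ := hf'surj v
    have hw1 := hfix w hv
    rw [hnz, ← hf'nsmul, hkR]
    congr 1
    funext i; fin_cases i <;> simp [Matrix.mulVec, dotProduct, Fin.sum_univ_two, hw1, h10, ← hlam]
  · obtain ⟨w, rfl⟩ := hf'surj e1
    have hw1 := hfix w he1P
    -- an eigenvector off the fixed line
    obtain ⟨x, hx⟩ : ∃ x : R, lam * x + H1.1 0 1 = x * H1.1 1 1 := by
      by_cases hl : lam = H1.1 1 1
      · refine ⟨0, ?_⟩
        have hlt : lam ^ 2 = 1 := by rw [pow_two]; nth_rw 2 [hl]; exact hdet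
        have h2 : ((H1 ^ 2) : Matrix.SpecialLinearGroup (Fin 2) R) = 1 := by
          refine eq_one_of_tri (p := p) (m := p - 1) ?_ hpnd (pow_tri h10 _).1 ?_
          · rw [← pow_mul, mul_comm, pow_mul, hH1p, one_pow]
          · rw [(pow_tri h10 _).2.1, ← hlam, hlt]
        have h01 := congrArg (fun g : Matrix.SpecialLinearGroup (Fin 2) R => g.1 0 1) h2
        simp [pow_two, mul_entry, ← hlam, ← hl] at h01
        have h3 : (2 * lam) * H1.1 0 1 = 0 := by linear_combination h01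
        have := (mul_eq_zero.1 h3).resolve_left (mul_ne_zero two_ne_zero (left_ne_zero_of_mul_eq_one hdet))
        rw [this]; ring
      · refine ⟨H1.1 0 1 / (H1.1 1 1 - lam), ?_⟩
        have := sub_ne_zero.2 (Ne.symm hl)
        field_simp
        ring
    set s := w 0 / b with hs
    refine ⟨f' ![s * x, s], u₀, hu₀, ?_, ?_, ?_⟩
    · rw [hf', hρu₀, ← hf'add]
      congr 1
      funext i
      fin_cases i
      · simp [Matrix.mulVec, dotProduct, Fin.sum_univ_two, hs]
        field_simp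
        ring
      · simp [Matrix.mulVec, dotProduct, Fin.sum_univ_two, hw1]
    · rw [hnz, ← hf'nsmul, hk'R]
      congr 1
      funext i
      fin_cases i
      · simp [Matrix.mulVec, dotProduct, Fin.sum_univ_two, ← hlam]
        linear_combination s * hx
      · simp [Matrix.mulVec, dotProduct, Fin.sum_univ_two, h10, mul_comm]
    · refine AddMonoidHom.ext fun v => ?_
      obtain ⟨v, rfl⟩ := hf'surj v
      rw [← map_pow]
      refine (hf' _ _).trans (Eq.trans ?_ (hf' _ _).symm)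
      refine congrArg (fun m : Matrix.SpecialLinearGroup (Fin 2) R => f' (m.1 *ᵥ v)) ?_
      rw [map_mul ρ, map_mul ρ, map_inv ρ, hρn, map_mul, map_mul, map_inv, map_pow, map_pow, hρu₀, ← hH1, up_pow,
        mul_inv_eq_iff_eq_mul]
      apply ext_entries <;> simp [mul_entry, h10, ← hlam, hkR]
      linear_combination (-(lam * b)) * hdet

end CfsgLib.ZJFailure
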